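import Cfsg.Agent.Omega.Node.MulG
import Cfsg.Agent.Omega.TC.OfMul
import Cfsg.Agent.Omega.OM.Lev.Sym

/-!
# `SymManyL`, case (E): the heavy frame `SF` (all `k ≥ 2`, `m ≥ 2`, every stage)

`V = V_P = F 0 × … × F (k-1)`, `F j = even(Ω_j)`, `|Ω_j| = 2^m + 1`, point `0 = ∞_j`; coordinates `e = N.e`.

* light : `ι` = the transpositions of `Jg`, `d i = {X i, X' i} ⊆ Ω_(J i)`, `W i = {1, d i, {∞, X i}, {∞, X' i}}`, `L i` the FF-block,
  `t i ∈ Jg` the transposition `(X i X' i)`;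
* heavy : `F j`, `Fp j = even(Ω_j \ ∞)`, `z j = Ω_j \ ∞`, `E j` (`Sym(Ω_j)` on `F j`, trivial on the others);
* `T = C_S(z_1, .., z_k)`, `D = C_G(z_1, .., z_k)`, `Y j = C_G(z_l : l ≠ j)` (text #23287).
-/

set_option autoImplicit false
set_option linter.unusedSectionVars false

namespace Cfsg.Agent.Omega.NO3S.ESym

open Subgroup Cfsg Cfsg.Agent.ZN.ChoiceBase Cfsg.Agent.ZN.ChoiceSit
open Cfsg.Agent.ZN (jj zj bau zc zl o2)
open Cfsg.Agent.Omega.FFThm (ActsSym SymK SymKM)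
open Cfsg.Agent.Omega.FrameFF (cv)
open Cfsg.Agent.Omega.NO3S (HypF)
open Cfsg.Agent.Omega.SQ1.FFSym (u)
open Cfsg.Agent.Omega.OM
open Cfsg.Agent.Omega.OM.Lev.SymIn (SyL)
open Cfsg.Agent.Omega.OM.Lev.SymIn.SyL (Ch)
open Cfsg.Agent.Omega.OM.Lev.Sym (SymOut)
open Cfsg.Agent.Omega.OM.Lev.SIn (Blk)
open Cfsg.Agent.Omega.OM.Lev.Uni (FrL)
open Cfsg.Agent.Omega.OM.FrSym (CC)
open Cfsg.Agent.Omega.Node.MultiOf
open Cfsg.Agent.Omega.Node.MulG (StgG)
open Cfsg.Agent.Omega.TC.OfMul (BlkS)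
open scoped Pointwise

universe w

variable {G : Type w} [Group G]

/-! ### The heavy groups in coordinates -/

section coord

variable {k n : ℕ}

/-- `V_j` : the vectors supported on `Ω_j` -/
def FF (V : Subgroup G) (e : G → Fin k → Fin n → ZMod 2) (j : Fin k) : Subgroup G :=
  closure {v | v ∈ V ∧ ∀ i, i ≠ j → e v i = 0}

/-- `V_j^+` : the even subsets of `Ω_j \ o` -/
def FP (V : Subgroup G) (o : Fin n) (e : G → Fin k → Fin n → ZMod 2) (j : Fin k) : Subgroup G :=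
  closure {v | v ∈ V ∧ (∀ i, i ≠ j → e v i = 0) ∧ e v j o = 0}

/-- `E_j` : `Sym(Ω_j)` on `V_j`, trivial on the other factors -/
def EE (P V : Subgroup G) (e : G → Fin k → Fin n → ZMod 2) (j : Fin k) : Subgroup G :=
  closure {g | g ∈ P ∧ ∃ π, ActsSym e V g 1 (Pi.mulSingle j π)}

end coord

/-- UNI+ for `q = 2` (`Node.MultiOf.UniTwo` for any index type) -/
def UniI (B ZJ : Subgroup G) {ι : Type} (L W : ι → Subgroup G) : Prop :=
  ∀ L' V' : Subgroup G, FBl B L' V' →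
    ∃ i, V' = W i ∧ L' ≤ L i ⊔ centralizer ((W i ⊔ ZJ : Subgroup G) : Set G)

/-- **The heavy frame of (E), symmetric blocks.** -/
structure SF [Finite G] (S : Sylow 2 G) (P : Subgroup G) where
  -- the level
  (K B ZJ Jg Xf : Subgroup G)
  (AA : Set (Subgroup G))
  (k m : ℕ)
  N : SymKM (S : Subgroup G) P (zl (S : Subgroup G) P) (cv (S : Subgroup G) P) k m
  -- the light blocks
  ι : Type
  J : ι → Fin k
  (X X' : ι → Fin (2 ^ m + 1))
  (t r : ι → G)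
  (L A : ι → Subgroup G)
  -- the heavy vectors
  z : Fin k → G
  hyp : HypF S P
  stg : StgG S P K B ZJ
  k2 : 2 ≤ k
  m2 : 2 ≤ m
  fi : Finite ι
  sy : SyL (S : Subgroup G) P (o2 P) (zl (S : Subgroup G) P) Jg ⊥ AA (0 : Fin (2 ^ m + 1)) N.e
  ch : Ch Jg P (zl (S : Subgroup G) P) ⊥ 0 N.e J X X' t r
  out : SymOut (S : Subgroup G) P (zl (S : Subgroup G) P) Jg (fun i => sy.NN (J i) 0 (X i) (X' i))
    (fun i => u P (zl (S : Subgroup G) P) ⊥ N.e (J i) (X i) (X' i)) t r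
  blk : ∀ i, Blk P (S : Subgroup G) (zl (S : Subgroup G) P) ZJ
    (fun i => u P (zl (S : Subgroup G) P) ⊥ N.e (J i) (X i) (X' i)) r i (L i)
  eqv : ∀ x ∈ (S : Subgroup G), ∀ i j, x * u P (zl (S : Subgroup G) P) ⊥ N.e (J i) (X i) (X' i) * x⁻¹ =
    u P (zl (S : Subgroup G) P) ⊥ N.e (J j) (X j) (X' j) → cj x (L i) = L j
  frl : FrL B (o2 P) (zl (S : Subgroup G) P) Xf ZJ L (fun i => sy.NN (J i) 0 (X i) (X' i))
    (fun i => zpowers (u P (zl (S : Subgroup G) P) ⊥ N.e (J i) (X i) (X' i)))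
    (CC fun i => sy.NN (J i) 0 (X i) (X' i)) A 2
  uni : UniI B ZJ L fun i => sy.NN (J i) 0 (X i) (X' i)
  nloc : NLoc (KZ B ZJ)
  zV : ∀ j, z j ∈ zl (S : Subgroup G) P
  ez : ∀ j i x, N.e (z j) i x = if i = j ∧ x ≠ 0 then 1 else 0
  blkS : BlkS K B ((S : Subgroup G) ⊓ centralizer (Set.range z))

namespace SF

variable [Finite G] {S : Sylow 2 G} {P : Subgroup G} (h : SF S P)

/-- `V_P` -/
def V (_ : SF S P) : Subgroup G := zl (S : Subgroup G) P

/-- `Q = O₂(P)` -/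
def Q (_ : SF S P) : Subgroup G := o2 P

/-- light pairs -/
noncomputable def d (i : h.ι) : G := u P (zl (S : Subgroup G) P) ⊥ h.N.e (h.J i) (h.X i) (h.X' i)

/-- `{1, d i, {∞, X i}, {∞, X' i}}` -/
def W (i : h.ι) : Subgroup G := h.sy.NN (h.J i) 0 (h.X i) (h.X' i)

/-- the factor `V_j` -/
def F (j : Fin h.k) : Subgroup G := FF (zl (S : Subgroup G) P) h.N.e j

/-- `V_j^+` -/
def Fp (j : Fin h.k) : Subgroup G := FP (zl (S : Subgroup G) P) 0 h.N.e j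

/-- `E_j` -/
def E (j : Fin h.k) : Subgroup G := EE P (zl (S : Subgroup G) P) h.N.e j

/-- `T = C_S(z_1, .., z_k)` -/
def T : Subgroup G := (S : Subgroup G) ⊓ centralizer (Set.range h.z)

/-- `D = C_G(z_1, .., z_k)` -/
def D : Subgroup G := centralizer (Set.range h.z)

/-- `Y_j = C_G(z_l : l ≠ j)` -/
def Y (j : Fin h.k) : Subgroup G := centralizer (h.z '' {l | l ≠ j})

end SF

end Cfsg.Agent.Omega.NO3S.ESym
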