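import Mathlib.GroupTheory.Index
import Mathlib.GroupTheory.Sylow
import Mathlib.Algebra.BigOperators.Group.Finset.Basic
import Mathlib.Tactic.Group

/-!
# Averaging over `K / C_K(W)` (KLF_k #22692 (4))

`R` abelian, `W ≤ R`, `K` normalises `R`, `|K : C_K(W)|` odd. `exists_av` : the map `p (a) = ∏ a ^ c`, `c` over the
cosets of `C_K(W)` in `K`: a homomorphism `W → R` with `K`-fixed values, commuting with every element which
normalises `R`, `K` and `W`, and `p a = a` if `a ^ 2 = 1` and `K` fixes `a`.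
-/

set_option autoImplicit false

namespace Cfsg.Agent.Omega.NO3S.ESym.Aver

open Subgroup

universe u

variable {G : Type u} [Group G]

/-- conjugation on `R` -/
def cR {R : Subgroup G} {x : G} (hx : x ∈ normalizer (R : Set G)) : ↥R →* ↥R where
  toFun a := ⟨x * a * x⁻¹, (mem_normalizer_iff.1 hx _).1 a.2⟩
  map_one' := Subtype.ext (by show x * 1 * x⁻¹ = 1; group)
  map_mul' a b := Subtype.ext (by show x * (a * b) * x⁻¹ = x * a * x⁻¹ * (x * b * x⁻¹); group)

theorem cR_val {R : Subgroup G} {x : G} (hx : x ∈ normalizer (R : Set G)) (a : R) :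
    ((cR hx a : R) : G) = x * a * x⁻¹ := rfl

/-- the maps `W → R` induced by `K` -/
def Fs (R W K : Subgroup G) : Set (W → R) := {φ | ∃ k ∈ K, ∀ w : W, ((φ w : R) : G) = k * w * k⁻¹}

theorem ncard_Fs {R W K : Subgroup G} (hWR : W ≤ R) (hKR : K ≤ normalizer (R : Set G)) :
    Nat.card (Fs R W K) = (centralizer (W : Set G)).relIndex K := by
  have hmem : ∀ k : K, ∀ w : W, (k : G) * w * (k : G)⁻¹ ∈ R := fun k w =>
    (mem_normalizer_iff.1 (hKR k.2) _).1 (hWR w.2)
  let f : K → Fs R W K := fun k => ⟨fun w => ⟨(k : G) * w * (k : G)⁻¹, hmem k w⟩, k, k.2, fun w => rfl⟩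
  have hf : ∀ a b : K, f a = f b ↔ a⁻¹ * b ∈ (centralizer (W : Set G)).subgroupOf K := by
    intro a b
    rw [mem_subgroupOf, mem_centralizer_iff]
    constructor
    · intro h w hw
      have h1 : (a : G) * w * (a : G)⁻¹ = (b : G) * w * (b : G)⁻¹ := by
        have h2 := congrFun (congrArg Subtype.val h) ⟨w, hw⟩
        exact congrArg Subtype.val h2
      calc w * ((a⁻¹ * b : K) : G) = (a : G)⁻¹ * ((a : G) * w * (a : G)⁻¹) * b := by push_cast; group
        _ = (a : G)⁻¹ * ((b : G) * w * (b : G)⁻¹) * b := by rw [h1]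
        _ = ((a⁻¹ * b : K) : G) * w := by push_cast; group
    · intro h
      refine Subtype.ext (funext fun w => Subtype.ext ?_)
      show (a : G) * w * (a : G)⁻¹ = (b : G) * w * (b : G)⁻¹
      have h1 := h w w.2
      push_cast at h1
      calc (a : G) * w * (a : G)⁻¹ = (a : G) * (w * ((a : G)⁻¹ * b)) * (b : G)⁻¹ := by group
        _ = (a : G) * (((a : G)⁻¹ * b) * w) * (b : G)⁻¹ := by rw [h1]
        _ = (b : G) * w * (b : G)⁻¹ := by group
  refine (Nat.card_congr (Equiv.ofBijective (Quotient.lift f ?_) ⟨?_, ?_⟩)).symm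
  · intro a b hab
    exact (hf a b).2 (QuotientGroup.leftRel_apply.1 hab)
  · rintro ⟨a⟩ ⟨b⟩ hab
    exact Quotient.sound (QuotientGroup.leftRel_apply.2 ((hf a b).1 hab))
  · rintro ⟨φ, k, hk, hφ⟩
    refine ⟨Quotient.mk'' ⟨k, hk⟩, ?_⟩
    exact Subtype.ext (funext fun w => Subtype.ext (hφ w).symm)

/-- **The average.** -/
theorem exists_av [Finite G] {R W K : Subgroup G} (hR : R ≤ centralizer (R : Set G)) (hWR : W ≤ R)
    (hKR : K ≤ normalizer (R : Set G)) (hodd : ¬ 2 ∣ (centralizer (W : Set G)).relIndex K) :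
    ∃ p : G → G, (∀ a ∈ W, p a ∈ R) ∧ (∀ a ∈ W, ∀ b ∈ W, p (a * b) = p a * p b) ∧
      (∀ k ∈ K, ∀ a ∈ W, k * p a * k⁻¹ = p a) ∧
      (∀ x, x ∈ normalizer (R : Set G) → x ∈ normalizer (K : Set G) → x ∈ normalizer (W : Set G) →
        ∀ a ∈ W, p (x * a * x⁻¹) = x * p a * x⁻¹) ∧
      (∀ a ∈ W, a ^ 2 = 1 → (∀ k ∈ K, k * a * k⁻¹ = a) → p a = a) := by
  classical
  let _ : CommGroup R :=
    { (inferInstance : Group R) with
      mul_comm := fun a b => Subtype.ext (mem_centralizer_iff.1 (hR b.2) a a.2) }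
  set F : Finset (W → R) := (Set.toFinite (Fs R W K)).toFinset with hF
  have hmF : ∀ φ, φ ∈ F ↔ ∃ k ∈ K, ∀ w : W, ((φ w : R) : G) = k * w * k⁻¹ := fun φ => by
    rw [hF, Set.Finite.mem_toFinset]; rfl
  have hcard : F.card = (centralizer (W : Set G)).relIndex K := by
    rw [hF, ← Set.ncard_eq_toFinset_card, ← Nat.card_coe_set_eq]
    exact ncard_Fs hWR hKR
  let p : G → G := fun a => if h : a ∈ W then ((∏ φ ∈ F, φ ⟨a, h⟩ : R) : G) else 1
  have hp : ∀ (a : G) (h : a ∈ W), p a = ((∏ φ ∈ F, φ ⟨a, h⟩ : R) : G) := fun a h => dif_pos h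
  refine ⟨p, ?_, ?_, ?_, ?_, ?_⟩
  · intro a ha
    rw [hp a ha]
    exact SetLike.coe_mem _
  · intro a ha b hb
    rw [hp a ha, hp b hb, hp _ (mul_mem ha hb), ← Subgroup.coe_mul, ← Finset.prod_mul_distrib]
    refine congrArg Subtype.val (Finset.prod_congr rfl fun φ hφ => ?_)
    obtain ⟨k, hk, h⟩ := (hmF φ).1 hφ
    apply Subtype.ext
    rw [Subgroup.coe_mul, h, h, h]
    show k * (a * b) * k⁻¹ = k * a * k⁻¹ * (k * b * k⁻¹)
    group
  · intro k hk a ha
    rw [hp a ha, ← cR_val (hKR hk), map_prod]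
    refine congrArg Subtype.val ?_
    refine Finset.prod_nbij' (fun φ w => cR (hKR hk) (φ w)) (fun φ w => cR (hKR (inv_mem hk)) (φ w)) ?_ ?_ ?_ ?_ ?_
    · intro φ hφ
      obtain ⟨l, hl, h⟩ := (hmF φ).1 hφ
      refine (hmF _).2 ⟨k * l, mul_mem hk hl, fun w => ?_⟩
      rw [cR_val, h]; group
    · intro φ hφ
      obtain ⟨l, hl, h⟩ := (hmF φ).1 hφ
      refine (hmF _).2 ⟨k⁻¹ * l, mul_mem (inv_mem hk) hl, fun w => ?_⟩
      rw [cR_val, h]; group
    · intro φ _
      funext w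
      apply Subtype.ext
      rw [cR_val, cR_val]; group
    · intro φ _
      funext w
      apply Subtype.ext
      rw [cR_val, cR_val]; group
    · intro φ _
      rfl
  · intro x hxR hxK hxW a ha
    have hxW' := inv_mem hxW
    have hxR' := inv_mem hxR
    have h1 : x * a * x⁻¹ ∈ W := (mem_normalizer_iff.1 hxW a).1 ha
    rw [hp a ha, hp _ h1, ← cR_val hxR, map_prod]
    refine congrArg Subtype.val ?_
    symm
    refine Finset.prod_nbij' (fun φ w => cR hxR (φ (cR hxW' w))) (fun φ w => cR hxR' (φ (cR hxW w))) ?_ ?_ ?_ ?_ ?_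
    · intro φ hφ
      obtain ⟨l, hl, h⟩ := (hmF φ).1 hφ
      refine (hmF _).2 ⟨x * l * x⁻¹, (mem_normalizer_iff.1 hxK l).1 hl, fun w => ?_⟩
      rw [cR_val, h, cR_val]; group
    · intro φ hφ
      obtain ⟨l, hl, h⟩ := (hmF φ).1 hφ
      refine (hmF _).2 ⟨x⁻¹ * l * x, ?_, fun w => ?_⟩
      · have := (mem_normalizer_iff.1 (inv_mem hxK) l).1 hl
        rwa [inv_inv] at this
      · rw [cR_val, h, cR_val]; group
    · intro φ _
      funext w
      apply Subtype.ext
      have e : cR hxW' (cR hxW w) = w := Subtype.ext (by rw [cR_val, cR_val]; group)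
      rw [cR_val, cR_val, e]; group
    · intro φ _
      funext w
      apply Subtype.ext
      have e : cR hxW (cR hxW' w) = w := Subtype.ext (by rw [cR_val, cR_val]; group)
      rw [cR_val, cR_val, e]; group
    · intro φ _
      have e : cR hxW' ⟨x * a * x⁻¹, h1⟩ = ⟨a, ha⟩ := Subtype.ext (by rw [cR_val]; group)
      show cR hxR (φ ⟨a, ha⟩) = cR hxR (φ (cR hxW' ⟨x * a * x⁻¹, h1⟩))
      rw [e]
  · intro a ha ha2 hfix
    rw [hp a ha]
    have h1 : ∏ φ ∈ F, φ ⟨a, ha⟩ = ∏ _φ ∈ F, (⟨a, hWR ha⟩ : R) := by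
      refine Finset.prod_congr rfl fun φ hφ => ?_
      obtain ⟨k, hk, h⟩ := (hmF φ).1 hφ
      exact Subtype.ext ((h _).trans (hfix k hk))
    rw [h1, Finset.prod_const, Subgroup.coe_pow, hcard]
    show a ^ _ = a
    obtain ⟨m, hm⟩ := Nat.not_even_iff_odd.1 (fun h => hodd (even_iff_two_dvd.1 h))
    rw [hm, pow_succ, pow_mul, ha2, one_pow, one_mul]

end Cfsg.Agent.Omega.NO3S.ESym.Aver
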