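import Cfsg.Agent.PLocal.OffenderStep

/-!
# Averaging over the cosets of a subgroup of odd index (bb #23287 (5), (6), (11))

* `exists_avg` : `R` abelian, normalised by `M`, `F ≤ R` centralised by `C ≤ M`: the map `τ a := ∏ a ^ c` over the cosets of
  `C` in `M`;
* `cent_of_avg'` : `τ : F → F Z` equivariant, `τ z = z ∉ Z`, every non-trivial invariant subgroup of `F` contains `z`: what
  centralises the values of `τ` and `Z` centralises `F`;
* `sub_of_fix` : the last hypothesis, from `C_F(T) = ⟨z⟩`.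
-/

set_option autoImplicit false

namespace Cfsg.Agent.Omega.NO3S.ESym.Avg

open Subgroup

variable {G : Type*} [Group G] [Finite G]

/-- the averaging map -/
theorem exists_avg {M C R F : Subgroup G} (hRc : ∀ x ∈ R, ∀ y ∈ R, x * y = y * x)
    (hMR : M ≤ normalizer (R : Set G)) (hFR : F ≤ R) (hCF : ∀ c ∈ C, ∀ a ∈ F, c * a * c⁻¹ = a) :
    ∃ τ : F →* G, (∀ a, τ a ∈ R) ∧ (∀ a, ∀ m ∈ M, m * τ a * m⁻¹ = τ a) ∧
      (∀ a : F, (∀ m ∈ M, m * (a : G) * m⁻¹ = a) → τ a = (a : G) ^ (C.relIndex M)) ∧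
      (∀ g, g ∈ normalizer (M : Set G) → g ∈ normalizer (C : Set G) → g ∈ normalizer (R : Set G) →
        ∀ a b : F, g * (a : G) * g⁻¹ = b → g * τ a * g⁻¹ = τ b) := by
  classical
  let _ : CommGroup R := { (inferInstance : Group R) with
    mul_comm := fun x y => Subtype.ext (hRc _ x.2 _ y.2) }
  have hconj : ∀ g ∈ normalizer (R : Set G), ∀ x ∈ R, g * x * g⁻¹ ∈ R := fun g hg x hx =>
    (mem_normalizer_iff.1 hg x).1 hx
  let cR : ∀ g ∈ normalizer (R : Set G), R →* R := fun g hg =>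
    { toFun := fun x => ⟨g * x * g⁻¹, hconj g hg _ x.2⟩
      map_one' := Subtype.ext (by simp)
      map_mul' := fun x y => Subtype.ext (by simp [mul_assoc]) }
  have _ : Fintype (M ⧸ C.subgroupOf M) := Fintype.ofFinite _
  let f : F → (M ⧸ C.subgroupOf M) → R := fun a q => Quotient.liftOn' q
    (fun m => (⟨m * (a : G) * (m : G)⁻¹, hconj m (hMR m.2) _ (hFR a.2)⟩ : R)) (by
      intro m m' h
      rw [QuotientGroup.leftRel_apply, mem_subgroupOf] at h
      refine Subtype.ext ?_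
      have h1 := hCF _ h _ a.2
      simp only [coe_mul, InvMemClass.coe_inv] at h1 ⊢
      have h2 : (m' : G) * a * (m' : G)⁻¹ = m * ((m : G)⁻¹ * m' * a * ((m : G)⁻¹ * m')⁻¹) * (m : G)⁻¹ := by group
      rw [h2, h1])
  have hf : ∀ (a : F) (m : M), f a (QuotientGroup.mk m) = (⟨m * (a : G) * (m : G)⁻¹, hconj m (hMR m.2) _ (hFR a.2)⟩ : R) :=
    fun a m => rfl
  let τ' : F →* R :=
    { toFun := fun a => ∏ q, f a q
      map_one' := by
        refine Finset.prod_eq_one fun q _ => ?_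
        induction q using QuotientGroup.induction_on with
        | H m => rw [hf]; exact Subtype.ext (by simp)
      map_mul' := fun a b => by
        rw [← Finset.prod_mul_distrib]
        refine Finset.prod_congr rfl fun q _ => ?_
        induction q using QuotientGroup.induction_on with
        | H m => rw [hf, hf, hf]; exact Subtype.ext (by simp [mul_assoc]) }
  have hτ : ∀ a, τ' a = ∏ q, f a q := fun a => rfl
  refine ⟨R.subtype.comp τ', fun a => (τ' a).2, fun a m hm => ?_, fun a ha => ?_, fun g hM hC hR a b hab => ?_⟩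
  · have h1 : cR m (hMR hm) (τ' a) = τ' a := by
      rw [hτ, map_prod]
      refine Fintype.prod_bijective (fun q => (⟨m, hm⟩ : M) • q) (MulAction.bijective _) _ _ fun q => ?_
      induction q using QuotientGroup.induction_on with
      | H x =>
        rw [hf]
        have : (⟨m, hm⟩ : M) • (QuotientGroup.mk x : M ⧸ C.subgroupOf M) = QuotientGroup.mk (⟨m, hm⟩ * x) := rfl
        rw [this, hf]
        exact Subtype.ext (by simp [cR, mul_assoc])
    exact congrArg Subtype.val h1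
  · have h1 : τ' a = (⟨a, hFR a.2⟩ : R) ^ (C.relIndex M) := by
      rw [hτ, Finset.prod_congr rfl (g := fun _ => (⟨a, hFR a.2⟩ : R)), Finset.prod_const, Finset.card_univ,
        relIndex, index, Nat.card_eq_fintype_card]
      intro q _
      induction q using QuotientGroup.induction_on with
      | H m => rw [hf]; exact Subtype.ext (ha m m.2)
    exact (congrArg Subtype.val h1)
  · have h1 : cR g hR (τ' a) = τ' b := by
      rw [hτ, map_prod, hτ]
      have hMc : ∀ m ∈ M, g * m * g⁻¹ ∈ M := fun m hm => (mem_normalizer_iff.1 hM m).1 hm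
      have hCc : ∀ m, m ∈ C ↔ g * m * g⁻¹ ∈ C := fun m => (mem_normalizer_iff.1 hC m)
      let e : (M ⧸ C.subgroupOf M) → (M ⧸ C.subgroupOf M) := Quotient.map' (fun m => (⟨g * m * g⁻¹, hMc m m.2⟩ : M)) (by
        intro m m' h
        rw [QuotientGroup.leftRel_apply, mem_subgroupOf] at h ⊢
        have h2 := (hCc _).1 h
        simp only [coe_mul, InvMemClass.coe_inv] at h2 ⊢
        have e1 : (g * (m : G) * g⁻¹)⁻¹ * (g * (m' : G) * g⁻¹) = g * ((m : G)⁻¹ * m') * g⁻¹ := by group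
        rw [e1]; exact h2)
      have he : ∀ m : M, e (QuotientGroup.mk m) = QuotientGroup.mk (⟨g * m * g⁻¹, hMc m m.2⟩ : M) := fun m => rfl
      have hinj : Function.Injective e := by
        intro q q' h
        induction q using QuotientGroup.induction_on with
        | H m =>
          induction q' using QuotientGroup.induction_on with
          | H m' =>
            rw [he, he, QuotientGroup.eq, mem_subgroupOf] at h
            rw [QuotientGroup.eq, mem_subgroupOf, hCc]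
            simp only [coe_mul, InvMemClass.coe_inv] at h ⊢
            have e1 : (g * (m : G) * g⁻¹)⁻¹ * (g * (m' : G) * g⁻¹) = g * ((m : G)⁻¹ * m') * g⁻¹ := by group
            rw [e1] at h; exact h
      refine Fintype.prod_bijective e (Finite.injective_iff_bijective.1 hinj) _ _ fun q => ?_
      induction q using QuotientGroup.induction_on with
      | H m =>
        rw [hf, he, hf]
        refine Subtype.ext ?_
        change g * ((m : G) * a * (m : G)⁻¹) * g⁻¹ = (g * m * g⁻¹) * b * (g * (m : G) * g⁻¹)⁻¹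
        rw [← hab]; group
    exact congrArg Subtype.val h1

omit [Finite G] in
theorem conj_mul_eq {g a b c d : G} (h1 : g * a * g⁻¹ = c) (h2 : g * b * g⁻¹ = d) : g * (a * b) * g⁻¹ = c * d := by
  rw [← h1, ← h2]; group

/-- a `2`-group acting on a non-trivial subgroup of order a power of `2` fixes a non-trivial element -/
theorem exists_fixed {T K : Subgroup G} (hT : IsPGroup 2 T) (hK : IsPGroup 2 K) (hTK : T ≤ normalizer (K : Set G))
    (hne : K ≠ ⊥) : ∃ x ∈ K, x ≠ 1 ∧ ∀ t ∈ T, t * x * t⁻¹ = x := by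
  have hf : Fact (Nat.Prime 2) := ⟨Nat.prime_two⟩
  have h1 := Cfsg.Agent.PLocal.OffenderStep.inf_centralizer_ne_bot K T hK hT hTK hne
  obtain ⟨c, hc1⟩ := Subgroup.ne_bot_iff_exists_ne_one.1 h1
  refine ⟨c, c.2.1, fun h0 => hc1 (Subtype.ext h0), fun t ht => ?_⟩
  have := mem_centralizer_iff.1 c.2.2 t ht
  rw [this]; group

/-- `τ : F → F Z`, equivariant for `T`, `τ z = z ∉ Z`, every non-trivial `T`-invariant subgroup of `F` contains `z`: what
centralises the values of `τ` and `Z` centralises `F` -/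
theorem cent_of_avg' {T F Z X : Subgroup G} {z : G} (hTF : T ≤ normalizer (F : Set G))
    (hsub : ∀ K ≤ F, T ≤ normalizer (K : Set G) → z ∉ K → K = ⊥)
    (hTZ : T ≤ normalizer (Z : Set G)) (hFZ : ∀ x ∈ F, ∀ y ∈ Z, x * y = y * x) (hdis : z ∉ Z)
    (τ : F →* G) (hz : ∀ h : z ∈ F, τ ⟨z, h⟩ = z) (hval : ∀ a, τ a ∈ F ⊔ Z)
    (heq : ∀ t ∈ T, ∀ a b : F, t * (a : G) * t⁻¹ = b → t * τ a * t⁻¹ = τ b)
    (hX : ∀ a, ∀ x ∈ X, x * τ a * x⁻¹ = τ a) (hXZ : ∀ y ∈ Z, ∀ x ∈ X, x * y * x⁻¹ = y) :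
    ∀ a ∈ F, ∀ x ∈ X, x * a * x⁻¹ = a := by
  have hFn : F ≤ normalizer (Z : Set G) := fun f hf => by
    rw [mem_normalizer_iff]
    intro y
    constructor
    · intro hy
      rw [hFZ f hf y hy, mul_inv_cancel_right]; exact hy
    · intro hy
      have h2 := hFZ f⁻¹ (inv_mem hf) _ hy
      have e : y = f⁻¹ * (f * y * f⁻¹) * f := by group
      rw [e, h2, mul_assoc, inv_mul_cancel, mul_one]; exact hy
  have hdec : ∀ a : F, ∃ f : F, (f : G)⁻¹ * τ a ∈ Z := by
    intro a
    have h1 := hval a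
    rw [← SetLike.mem_coe, coe_mul_of_left_le_normalizer_right F Z hFn] at h1
    obtain ⟨f, hf, y, hy, e⟩ := Set.mem_mul.1 h1
    exact ⟨⟨f, hf⟩, by rw [← e]; simpa using hy⟩
  choose φ hφ using hdec
  -- the kernel
  let K : Subgroup G := (Z.comap τ).map F.subtype
  have hKm : ∀ {x : G}, x ∈ K ↔ ∃ h : x ∈ F, τ ⟨x, h⟩ ∈ Z := by
    intro x
    constructor
    · rintro ⟨y, hy, rfl⟩
      exact ⟨y.2, hy⟩
    · rintro ⟨h, hx⟩
      exact ⟨⟨x, h⟩, hx, rfl⟩
  have hK : K = ⊥ := by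
    have hKF : K ≤ F := fun x hx => (hKm.1 hx).1
    have hTK0 : ∀ t ∈ T, ∀ x ∈ K, t * x * t⁻¹ ∈ K := by
      intro t ht x hx
      obtain ⟨h, hx2⟩ := hKm.1 hx
      have h1 : t * x * t⁻¹ ∈ F := (mem_normalizer_iff.1 (hTF ht) x).1 h
      refine hKm.2 ⟨h1, ?_⟩
      rw [← heq t ht ⟨x, h⟩ ⟨_, h1⟩ rfl]
      exact (mem_normalizer_iff.1 (hTZ ht) _).1 hx2
    have hTK : T ≤ normalizer (K : Set G) := fun t ht => by
      rw [mem_normalizer_iff]
      intro x
      refine ⟨hTK0 t ht x, fun hx => ?_⟩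
      have h1 := hTK0 t⁻¹ (inv_mem ht) _ hx
      have e : t⁻¹ * (t * x * t⁻¹) * t⁻¹⁻¹ = x := by group
      rwa [e] at h1
    refine hsub K hKF hTK fun hzK => ?_
    obtain ⟨h, hx2⟩ := hKm.1 hzK
    rw [hz] at hx2
    exact hdis hx2
  have hinj : Function.Injective φ := by
    intro a b hab
    have h1 := hφ a
    have h2 := hφ b
    rw [hab] at h1
    have h3 : (τ b)⁻¹ * τ a ∈ Z := by
      have h4 := mul_mem (inv_mem h2) h1
      have e : ((φ b : G)⁻¹ * τ b)⁻¹ * ((φ b : G)⁻¹ * τ a) = (τ b)⁻¹ * τ a := by group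
      rwa [e] at h4
    have h5 : ((b⁻¹ * a : F) : G) ∈ K := hKm.2 ⟨(b⁻¹ * a).2, by
      have e : (⟨((b⁻¹ * a : F) : G), (b⁻¹ * a).2⟩ : F) = b⁻¹ * a := rfl
      rw [e, map_mul, map_inv]; exact h3⟩
    rw [hK, mem_bot] at h5
    have h6 : b⁻¹ * a = 1 := Subtype.ext h5
    exact (inv_mul_eq_one.1 h6).symm
  have hsurj : Function.Surjective φ := Finite.surjective_of_injective hinj
  intro f hf x hx
  obtain ⟨a, ha⟩ := hsurj ⟨f, hf⟩
  have h1 := hφ a
  rw [ha] at h1
  have h2 := hXZ _ h1 x hx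
  have h3 := hX a x hx
  have e : f = τ a * (f⁻¹ * τ a)⁻¹ := by group
  have h4 : x * (f⁻¹ * τ a)⁻¹ * x⁻¹ = (f⁻¹ * τ a)⁻¹ := by
    have h5 := congrArg (fun y => y⁻¹) h2
    simp only [] at h5
    have e2 : (x * (f⁻¹ * τ a) * x⁻¹)⁻¹ = x * (f⁻¹ * τ a)⁻¹ * x⁻¹ := by group
    exact e2.symm.trans h5
  have h5 := conj_mul_eq h3 h4
  rwa [← e] at h5

/-- `T` a `2`-group with `C_F(T) ≤ {1, z}`: every non-trivial `T`-invariant subgroup of `F` contains `z` -/
theorem sub_of_fix {T F : Subgroup G} {z : G} (hT : IsPGroup 2 T) (hF : IsPGroup 2 F)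
    (hfix : ∀ x ∈ F, (∀ t ∈ T, t * x * t⁻¹ = x) → x = 1 ∨ x = z) :
    ∀ K ≤ F, T ≤ normalizer (K : Set G) → z ∉ K → K = ⊥ := by
  intro K hKF hTK hz
  by_contra hne
  obtain ⟨x, hxK, hx1, hxT⟩ := exists_fixed hT (hF.to_le hKF) hTK hne
  rcases hfix x (hKF hxK) hxT with h3 | h3
  · exact hx1 h3
  · exact hz (h3 ▸ hxK)

end Cfsg.Agent.Omega.NO3S.ESym.Avg
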