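import Cfsg.Agent.Omega.NO3S.ESym.Frame

/-!
# `SymManyL`, case (E): the heavy groups in coordinates

Over the module data `Sy P V ⊥ e` (`SQ1/FFSym.lean`): `mem_FF`, `mem_FP`, `mem_EE`, `V_le_FF`, `FF_dir`, `EE_cent`, `EE_norm`,
`EE_comm`, `cent_EE`, `exists_zz`, conjugation by elements of `P`.
-/

set_option autoImplicit false
set_option linter.unusedSectionVars false

namespace Cfsg.Agent.Omega.NO3S.ESym.Coord

open Subgroup Cfsg
open Cfsg.Agent.Omega.FFThm (ActsSym)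
open Cfsg.Agent.Omega.SQ1.FFSym (Sy Gd perm_inv_self act_mul act_conj single_conj u)
open Cfsg.Agent.Omega.OM Cfsg.Agent.Omega.OM.Uni Cfsg.Agent.ZN.ChoiceBase
open Cfsg.Agent.Omega.NO3S.ESym (FF FP EE)

universe w

variable {G : Type w} [Group G] {P V : Subgroup G} {k n : ℕ} {e : G → Fin k → Fin n → ZMod 2}

section

variable (h : Sy P V ⊥ e)
include h

theorem eq_of_e {v w : G} (hv : v ∈ V) (hw : w ∈ V) (he : e v = e w) : v = w := by
  have h1 := mem_bot.1 (h.e_eq hv hw he)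
  rw [eq_inv_of_mul_eq_one_left h1, h.inv_eq hw]

theorem mem_FF {j : Fin k} {v : G} : v ∈ FF V e j ↔ v ∈ V ∧ ∀ i, i ≠ j → e v i = 0 := by
  refine ⟨fun hv => ?_, fun hv => subset_closure hv⟩
  refine closure_induction (fun x hx => hx) ⟨one_mem _, fun i _ => by rw [h.e_one]; rfl⟩ (fun x y _ _ hx hy => ?_)
    (fun x _ hx => ?_) hv
  · refine ⟨mul_mem hx.1 hy.1, fun i hi => ?_⟩
    rw [h.mul _ hx.1 _ hy.1, Pi.add_apply, hx.2 i hi, hy.2 i hi, add_zero]
  · refine ⟨inv_mem hx.1, fun i hi => ?_⟩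
    rw [h.e_inv hx.1, hx.2 i hi]

theorem mem_FP {o : Fin n} {j : Fin k} {v : G} :
    v ∈ FP V o e j ↔ v ∈ V ∧ (∀ i, i ≠ j → e v i = 0) ∧ e v j o = 0 := by
  refine ⟨fun hv => ?_, fun hv => subset_closure hv⟩
  refine closure_induction (fun x hx => hx) ⟨one_mem _, fun i _ => by rw [h.e_one]; rfl, by rw [h.e_one]; rfl⟩
    (fun x y _ _ hx hy => ?_) (fun x _ hx => ?_) hv
  · refine ⟨mul_mem hx.1 hy.1, fun i hi => ?_, ?_⟩
    · rw [h.mul _ hx.1 _ hy.1, Pi.add_apply, hx.2.1 i hi, hy.2.1 i hi, add_zero]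
    · rw [h.mul _ hx.1 _ hy.1, Pi.add_apply, Pi.add_apply, hx.2.2, hy.2.2, add_zero]
  · refine ⟨inv_mem hx.1, fun i hi => ?_, ?_⟩
    · rw [h.e_inv hx.1, hx.2.1 i hi]
    · rw [h.e_inv hx.1, hx.2.2]

theorem FP_le_FF {o : Fin n} (j : Fin k) : FP V o e j ≤ FF V e j := fun v hv => by
  rw [mem_FP h] at hv
  exact (mem_FF h).2 ⟨hv.1, hv.2.1⟩

theorem FF_le (j : Fin k) : FF V e j ≤ V := fun _ hv => ((mem_FF h).1 hv).1

theorem FP_le {o : Fin n} (j : Fin k) : FP V o e j ≤ V := (FP_le_FF h j).trans (FF_le h j)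

theorem mem_EE {j : Fin k} {g : G} : g ∈ EE P V e j ↔ g ∈ P ∧ ∃ π, ActsSym e V g 1 (Pi.mulSingle j π) := by
  refine ⟨fun hg => ?_, fun hg => subset_closure hg⟩
  refine closure_induction (fun x hx => hx) ⟨one_mem _, 1, ?_⟩ (fun x y _ _ hx hy => ?_) (fun x _ hx => ?_) hg
  · rw [Pi.mulSingle_one]
    exact h.gd_one.act
  · obtain ⟨hx, π, h1⟩ := hx
    obtain ⟨hy, ρ, h2⟩ := hy
    refine ⟨mul_mem hx hy, π * ρ, ?_⟩
    have h3 := act_mul (h.Vn y hy) h1 h2
    rw [one_mul] at h3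
    rw [Pi.mulSingle_mul]
    exact h3
  · obtain ⟨hx, π, h1⟩ := hx
    refine ⟨inv_mem hx, π⁻¹, ?_⟩
    have h2 := (h.gd_inv ⟨hx, fun d hd => by rw [mem_bot.1 hd, one_mul, mul_one], h1⟩).act
    rw [Pi.mulSingle_inv]
    exact h2

theorem gd_of {g : G} {τ : Fin k → Equiv.Perm (Fin n)} (hg : g ∈ P) (ha : ActsSym e V g 1 τ) : Gd P V ⊥ e τ g :=
  ⟨hg, fun d hd => by rw [mem_bot.1 hd, one_mul, mul_one], ha⟩

theorem EE_le (j : Fin k) : EE P V e j ≤ P := fun _ hg => ((mem_EE h).1 hg).1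

/-- elements of `C_P(V)` are in every `E j` -/
theorem cent_le_EE (j : Fin k) {g : G} (hg : g ∈ P) (hc : ∀ v ∈ V, g * v = v * g) : g ∈ EE P V e j := by
  refine (mem_EE h).2 ⟨hg, 1, fun v hv i x => ?_⟩
  rw [hc v hv, Pi.mulSingle_one]
  simp

/-- an element acting trivially on the coordinates centralises `V` -/
theorem comm_of_act {g : G} (hg : g ∈ P) (ha : ActsSym e V g 1 1) : ∀ v ∈ V, g * v = v * g := by
  refine h.cent g hg (fun d hd => by rw [mem_bot.1 hd, one_mul, mul_one]) fun v hv => ?_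
  funext i x
  have := ha v hv i x
  rwa [Equiv.Perm.one_apply, Pi.one_apply, Equiv.Perm.one_apply] at this

/-- `V` is generated by the factors -/
theorem V_le_iSup : V ≤ ⨆ j, FF V e j := by
  classical
  have key : ∀ s : Finset (Fin k), ∀ v ∈ V, (∀ i, i ∉ s → e v i = 0) → v ∈ ⨆ j, FF V e j := by
    intro s
    induction s using Finset.induction_on with
    | empty =>
      intro v hv h0
      have : v = 1 := eq_of_e h hv (one_mem V) (by
        rw [h.e_one]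
        funext i
        exact h0 i (by simp))
      rw [this]
      exact one_mem _
    | insert j s hj ih =>
      intro v hv h0
      obtain ⟨w, hw, hew⟩ := h.surj (fun i => if i = j then e v i else 0) fun i => by
        by_cases hi : i = j
        · simp only [hi, if_true]
          exact h.even v hv j
        · simp [hi]
      have h1 : w ∈ FF V e j := (mem_FF h).2 ⟨hw, fun i hi => by rw [hew]; simp [hi]⟩
      have h2 : v * w ∈ ⨆ j, FF V e j := by
        refine ih _ (mul_mem hv hw) fun i hi => ?_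
        rw [h.mul _ hv _ hw, Pi.add_apply, hew]
        by_cases hij : i = j
        · simp only [hij, if_true]
          funext x
          exact CharTwo.add_self_eq_zero _
        · simp only [hij, if_false]
          rw [h0 i (by simp [hij, hi])]
          exact add_zero _
      have h3 : v = (v * w) * w⁻¹ := by group
      rw [h3]
      exact mul_mem h2 (inv_mem ((le_iSup (fun j => FF V e j) j) h1))
  intro v hv
  exact key Finset.univ v hv fun i hi => absurd (Finset.mem_univ i) hi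

theorem V_eq : V = ⨆ j, FF V e j := le_antisymm (V_le_iSup h) (iSup_le fun j => FF_le h j)

/-- the join of the other factors -/
theorem e_of_mem_iSup {j : Fin k} {v : G} (hv : v ∈ ⨆ i, ⨆ _ : i ≠ j, FF V e i) : v ∈ V ∧ e v j = 0 := by
  have h1 : (⨆ i, ⨆ _ : i ≠ j, FF V e i) ≤ closure {v | v ∈ V ∧ e v j = 0} := by
    refine iSup_le fun i => iSup_le fun hi => fun v hv => subset_closure ⟨FF_le h i hv, ?_⟩
    exact ((mem_FF h).1 hv).2 j hi.symm
  refine closure_induction (fun x hx => hx) ⟨one_mem _, by rw [h.e_one]; rfl⟩ (fun x y _ _ hx hy => ?_)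
    (fun x _ hx => ?_) (h1 hv)
  · exact ⟨mul_mem hx.1 hy.1, by rw [h.mul _ hx.1 _ hy.1, Pi.add_apply, hx.2, hy.2, add_zero]⟩
  · exact ⟨inv_mem hx.1, by rw [h.e_inv hx.1, hx.2]⟩

theorem FF_dir (j : Fin k) : FF V e j ⊓ (⨆ i, ⨆ _ : i ≠ j, FF V e i) = ⊥ := by
  rw [eq_bot_iff]
  rintro v ⟨h1, h2⟩
  obtain ⟨hv, h3⟩ := e_of_mem_iSup h h2
  rw [mem_bot]
  refine eq_of_e h hv (one_mem V) ?_
  rw [h.e_one]
  funext i
  by_cases hi : i = j
  · rw [hi, h3]; rfl
  · rw [((mem_FF h).1 h1).2 i hi]; rfl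

theorem FF_inf {i j : Fin k} (hij : i ≠ j) : FF V e i ⊓ FF V e j = ⊥ := by
  rw [eq_bot_iff, inf_comm, ← FF_dir h j]
  exact inf_le_inf_left _ ((le_iSup₂ (f := fun i (_ : i ≠ j) => FF V e i) i hij))

/-- an element of `P` acting as `(σ, τ)` maps the factors -/
theorem cj_FF {g : G} (hg : g ∈ P) {σ : Equiv.Perm (Fin k)} {τ : Fin k → Equiv.Perm (Fin n)}
    (ha : ActsSym e V g σ τ) (j : Fin k) : cj g (FF V e j) = FF V e (σ j) := by
  ext v
  rw [mem_cj, mem_FF h, mem_FF h]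
  constructor
  · rintro ⟨h1, h2⟩
    have hv : v ∈ V := by
      have := h.Vn g hg _ h1
      have e1 : g * (g⁻¹ * v * g) * g⁻¹ = v := by group
      rwa [e1] at this
    refine ⟨hv, fun i hi => ?_⟩
    funext x
    have h3 := ha _ h1 (σ.symm i) ((τ (σ.symm i))⁻¹ x)
    have e1 : g * (g⁻¹ * v * g) * g⁻¹ = v := by group
    rw [e1, Equiv.apply_symm_apply, perm_inv_self] at h3
    rw [h3, h2 _ (fun hc => hi (by rw [← hc, Equiv.apply_symm_apply]))]
    rfl
  · rintro ⟨h1, h2⟩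
    refine ⟨h.Vn' hg v h1, fun i hi => ?_⟩
    funext x
    have h3 := ha _ (h.Vn' hg v h1) i x
    have e1 : g * (g⁻¹ * v * g) * g⁻¹ = v := by group
    rw [e1] at h3
    rw [← h3, h2 _ (fun hc => hi (σ.injective hc))]
    rfl

theorem cj_FP {o : Fin n} {g : G} (hg : g ∈ P) {σ : Equiv.Perm (Fin k)} {τ : Fin k → Equiv.Perm (Fin n)}
    (ha : ActsSym e V g σ τ) (j : Fin k) (ho : τ j o = o) : cj g (FP V o e j) = FP V o e (σ j) := by
  ext v
  have h0 := cj_FF h hg ha j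
  have h1 : v ∈ cj g (FF V e j) ↔ v ∈ FF V e (σ j) := by rw [h0]
  rw [mem_cj, mem_FF h, mem_FF h] at h1
  rw [mem_cj, mem_FP h, mem_FP h, ← and_assoc, ← and_assoc, h1]
  refine and_congr_right fun h2 => ?_
  have h3 := ha _ (h.Vn' hg v h2.1) j o
  have e1 : g * (g⁻¹ * v * g) * g⁻¹ = v := by group
  rw [e1, ho] at h3
  rw [h3]

theorem cj_EE {g : G} (hg : g ∈ P) {σ : Equiv.Perm (Fin k)} {τ : Fin k → Equiv.Perm (Fin n)}
    (ha : ActsSym e V g σ τ) (j : Fin k) : cj g (EE P V e j) = EE P V e (σ j) := by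
  refine le_antisymm ?_ ?_
  · rintro _ ⟨x, hx, rfl⟩
    obtain ⟨hxP, π, hπ⟩ := (mem_EE h).1 hx
    have h1 := h.gd_conj_single hg ha (gd_of h hxP hπ)
    exact (mem_EE h).2 ⟨h1.mem, _, h1.act⟩
  · intro x hx
    obtain ⟨hxP, π, hπ⟩ := (mem_EE h).1 hx
    rw [mem_cj]
    obtain ⟨σ', τ', ha'⟩ := h.perm g⁻¹ (inv_mem hg)
    have h1 := h.gd_conj_single (inv_mem hg) ha' (gd_of h hxP hπ)
    have h2 : σ' (σ j) = j := by
      have h3 := act_mul (h.Vn g hg) ha' ha
      rw [inv_mul_cancel] at h3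
      have h4 := (h.act_unique h3 h.gd_one.act).1
      exact congrArg (fun f : Equiv.Perm (Fin k) => f j) h4
    rw [h2, inv_inv] at h1
    exact (mem_EE h).2 ⟨h1.mem, _, h1.act⟩

/-- `E i` centralises `V_j`, `j ≠ i` -/
theorem EE_cent {i j : Fin k} (hij : i ≠ j) {g : G} (hg : g ∈ EE P V e i) {v : G} (hv : v ∈ FF V e j) :
    g * v = v * g := by
  obtain ⟨hgP, π, hπ⟩ := (mem_EE h).1 hg
  rw [mem_FF h] at hv
  have h1 : g * v * g⁻¹ = v := by
    refine eq_of_e h (h.Vn g hgP v hv.1) hv.1 ?_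
    funext l x
    by_cases hl : l = i
    · subst hl
      have h2 := hπ v hv.1 l ((π)⁻¹ x)
      rw [Equiv.Perm.one_apply, Pi.mulSingle_eq_same, perm_inv_self] at h2
      rw [h2, hv.2 l hij]
      rfl
    · have h2 := hπ v hv.1 l x
      rw [Equiv.Perm.one_apply, Pi.mulSingle_eq_of_ne hl, Equiv.Perm.one_apply] at h2
      exact h2
  calc g * v = g * v * g⁻¹ * g := by group
    _ = v * g := by rw [h1]

/-- `E j` normalises every factor -/
theorem EE_norm (i j : Fin k) : EE P V e i ≤ normalizer (FF V e j : Set G) := by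
  intro g hg
  obtain ⟨hgP, π, hπ⟩ := (mem_EE h).1 hg
  rw [mem_normalizer_iff_cj, cj_FF h hgP hπ, Equiv.Perm.one_apply]

/-- `[E i, E j] ≤ C(V)` -/
theorem EE_comm {i j : Fin k} (hij : i ≠ j) {x y : G} (hx : x ∈ EE P V e i) (hy : y ∈ EE P V e j) :
    ∀ v ∈ V, (x * y * x⁻¹ * y⁻¹) * v = v * (x * y * x⁻¹ * y⁻¹) := by
  obtain ⟨hxP, π, hπ⟩ := (mem_EE h).1 hx
  obtain ⟨hyP, ρ, hρ⟩ := (mem_EE h).1 hy
  have h1 := h.gd_conj_single hxP hπ (gd_of h hyP hρ)
  rw [Equiv.Perm.one_apply, Pi.mulSingle_eq_of_ne hij.symm] at h1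
  have h2 : (1 : Equiv.Perm (Fin n)) * ρ * (1 : Equiv.Perm (Fin n))⁻¹ = ρ := by group
  rw [h2] at h1
  have h3 := h.gd_mul h1 (h.gd_inv (gd_of h hyP hρ))
  rw [mul_inv_cancel] at h3
  exact comm_of_act h h3.mem h3.act

/-- a vector centralised by `E i` has `i`-component zero -/
theorem e_eq_zero (hn : Odd n) {i : Fin k} {v : G} (hv : v ∈ V) (hc : ∀ g ∈ EE P V e i, g * v = v * g) :
    e v i = 0 := by
  have h1 : ∀ x y : Fin n, e v i x = e v i y := by
    intro x y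
    obtain ⟨g, hg⟩ := h.exists_gd (Pi.mulSingle i (Equiv.swap x y))
    have h2 := hc g ((mem_EE h).2 ⟨hg.mem, _, hg.act⟩)
    have h3 := hg.act v hv i x
    have h4 : g * v * g⁻¹ = v := by rw [h2]; group
    rw [h4, Equiv.Perm.one_apply, Pi.mulSingle_eq_same, Equiv.swap_apply_left] at h3
    exact h3.symm
  funext x
  have h2 := h.even v hv i
  rw [Finset.sum_congr rfl fun y _ => h1 y x, Finset.sum_const, Finset.card_univ, Fintype.card_fin, nsmul_eq_mul] at h2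
  obtain ⟨c, hc⟩ := hn
  rw [hc, Nat.cast_add, Nat.cast_mul, Nat.cast_one] at h2
  have h3 : ((2 : ℕ) : ZMod 2) = 0 := by decide
  rw [h3, zero_mul, zero_add, one_mul] at h2
  exact h2

/-- `C_V(⟨E i : i ≠ j⟩) = V_j` -/
theorem cent_EE (hn : Odd n) {j : Fin k} {v : G} (hv : v ∈ V)
    (hc : ∀ i, i ≠ j → ∀ g ∈ EE P V e i, g * v = v * g) : v ∈ FF V e j :=
  (mem_FF h).2 ⟨hv, fun i hi => e_eq_zero h hn hv (hc i hi)⟩

/-- the action of `E j` on the points: `E j → Sym` is onto -/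
theorem exists_EE (j : Fin k) (π : Equiv.Perm (Fin n)) : ∃ g ∈ EE P V e j, ActsSym e V g 1 (Pi.mulSingle j π) := by
  obtain ⟨g, hg⟩ := h.exists_gd (Pi.mulSingle j π)
  exact ⟨g, (mem_EE h).2 ⟨hg.mem, _, hg.act⟩, hg.act⟩

/-! ### The heavy vector -/

section heavy

variable {o : Fin n} {z : G} {j : Fin k} (hz : z ∈ V)
  (ez : ∀ i x, e z i x = if i = j ∧ x ≠ o then 1 else 0)
include hz ez

theorem z_mem_FP : z ∈ FP V o e j := by
  refine (mem_FP h).2 ⟨hz, fun i hi => ?_, by simp [ez]⟩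
  funext x
  simp [ez, hi]

theorem z_ne_one : z ≠ 1 := by
  rintro rfl
  obtain ⟨x, hx, -⟩ := h.exists_third o o
  have h1 := ez j x
  rw [h.e_one] at h1
  simp [hx] at h1

/-- an element acting as `(σ, τ)` on the points maps `z j` to the complement of `τ j o` in `Ω (σ j)` -/
theorem e_conj_z {g : G} {σ : Equiv.Perm (Fin k)} {τ : Fin k → Equiv.Perm (Fin n)}
    (ha : ActsSym e V g σ τ) (i : Fin k) (x : Fin n) :
    e (g * z * g⁻¹) i x = if i = σ j ∧ x ≠ τ j o then 1 else 0 := by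
  have h1 := ha z hz (σ.symm i) ((τ (σ.symm i))⁻¹ x)
  rw [Equiv.apply_symm_apply, perm_inv_self] at h1
  rw [h1, ez]
  by_cases hi : i = σ j
  · subst hi
    rw [Equiv.symm_apply_apply]
    have h2 : (τ j)⁻¹ x = o ↔ x = τ j o := by
      rw [Equiv.Perm.inv_eq_iff_eq]
    simp only [true_and]
    by_cases hx : x = τ j o
    · rw [if_neg (not_not.2 hx), if_neg (not_not.2 (h2.2 hx))]
    · rw [if_pos hx, if_pos (fun hc => hx (h2.1 hc))]
  · have h2 : σ.symm i ≠ j := fun hc => hi (by rw [← hc, Equiv.apply_symm_apply])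
    rw [if_neg (fun hc => h2 hc.1), if_neg (fun hc => hi hc.1)]

/-- `g ∈ E j` fixes `z j` iff it fixes `o` -/
theorem fix_z_iff {g : G} (hg : g ∈ P) {π : Equiv.Perm (Fin n)} (ha : ActsSym e V g 1 (Pi.mulSingle j π)) :
    g * z * g⁻¹ = z ↔ π o = o := by
  have h1 := e_conj_z h hz ez ha
  constructor
  · intro hc
    by_contra hne
    have h2 := h1 j (π o)
    rw [hc, ez] at h2
    simp [Pi.mulSingle_eq_same, hne] at h2
  · intro hc
    refine eq_of_e h (h.Vn g hg z hz) hz ?_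
    funext i x
    rw [h1, ez, Pi.mulSingle_eq_same, hc, Equiv.Perm.one_apply]

/-- **the point stabiliser is maximal**: `E j = ⟨C_{E j}(z j), x⟩` for `x ∈ E j` moving `z j` -/
theorem EE_max {x : G} (hx : x ∈ EE P V e j) (hne : x * z * x⁻¹ ≠ z) {K : Subgroup G} (hxK : x ∈ K)
    (hK : ∀ g ∈ EE P V e j, g * z * g⁻¹ = z → g ∈ K) : EE P V e j ≤ K := by
  obtain ⟨hxP, π, hπ⟩ := (mem_EE h).1 hx
  have hπo : π o ≠ o := fun hc => hne ((fix_z_iff h hz ez hxP hπ).2 hc)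
  intro g hg
  obtain ⟨hgP, ρ, hρ⟩ := (mem_EE h).1 hg
  by_cases h0 : ρ o = o
  · exact hK g hg ((fix_z_iff h hz ez hgP hρ).2 h0)
  · -- choose `t` in `E j` fixing `o` and mapping `π o` to `ρ o`
    obtain ⟨t, ht, hta⟩ := exists_EE h j (Equiv.swap (π o) (ρ o))
    have hto : Equiv.swap (π o) (ρ o) o = o := Equiv.swap_apply_of_ne_of_ne (Ne.symm hπo) (Ne.symm h0)
    have htK : t ∈ K := hK t ht ((fix_z_iff h hz ez (EE_le h j ht) hta).2 hto)
    -- `(t x)⁻¹ g` fixes `o`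
    have h1 := h.gd_mul (gd_of h (EE_le h j ht) hta) (gd_of h hxP hπ)
    have h2 := h.gd_mul (h.gd_inv h1) (gd_of h hgP hρ)
    rw [← Pi.mulSingle_mul, ← Pi.mulSingle_inv, ← Pi.mulSingle_mul] at h2
    have h3 : ((Equiv.swap (π o) (ρ o) * π)⁻¹ * ρ) o = o := by
      rw [Equiv.Perm.mul_apply, Equiv.Perm.inv_eq_iff_eq, Equiv.Perm.mul_apply, Equiv.swap_apply_left]
    have h4 : (t * x)⁻¹ * g ∈ K := hK _ ((mem_EE h).2 ⟨h2.mem, _, h2.act⟩) ((fix_z_iff h hz ez h2.mem h2.act).2 h3)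
    have h5 : g = (t * x) * ((t * x)⁻¹ * g) := by group
    rw [h5]
    exact mul_mem (mul_mem htK hxK) h4

end heavy

/-- there are heavy vectors -/
theorem exists_zz (hn : Odd n) (o : Fin n) (j : Fin k) : ∃ z ∈ V, ∀ i x, e z i x = if i = j ∧ x ≠ o then 1 else 0 := by
  obtain ⟨z, hz, he⟩ := h.surj (fun i x => if i = j ∧ x ≠ o then 1 else 0) fun i => by
    by_cases hi : i = j
    · simp only [hi, true_and]
      rw [Finset.sum_ite, Finset.sum_const_zero, add_zero, Finset.sum_const, nsmul_eq_mul, mul_one,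
        Finset.filter_ne', Finset.card_erase_of_mem (Finset.mem_univ _), Finset.card_univ, Fintype.card_fin]
      obtain ⟨c, hc⟩ := hn
      rw [hc, Nat.add_sub_cancel, Nat.cast_mul]
      have h3 : ((2 : ℕ) : ZMod 2) = 0 := by decide
      rw [h3, zero_mul]
    · simp [hi]
  exact ⟨z, hz, fun i x => by rw [he]⟩

end

end Cfsg.Agent.Omega.NO3S.ESym.Coord
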