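import Mathlib

/-!
# SymManyL (E): even vectors (helper266)

`pr a b` = the vector `{a, b}`.
* `mem_of_pair` : a subgroup of `F₂^n`, invariant under the stabiliser of `o`, which contains some `{a, b}`
  (`a, b, o` different), contains every even vector `y` with `y o = 0`;
* `exists_pair` : a permutation `τ ≠ 1` with `τ o = o`: `{o, a} + {o, τ a} = {a, τ a}`;
* `mem_of_coheavy` : the vectors `Ω - {a}` generate the even vectors.
-/

set_option autoImplicit false

namespace Cfsg.Agent.Omega.NO3S.ESym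

open Equiv

/-- the vector `{a, b}` -/
def pr {n : ℕ} (a b : Fin n) : Fin n → ZMod 2 := Pi.single a 1 + Pi.single b 1

/-- the vector `Ω - {a}` -/
def hv {n : ℕ} (a : Fin n) : Fin n → ZMod 2 := fun x => if x = a then 0 else 1

variable {n : ℕ}

theorem two_zero (x : ZMod 2) : x + x = 0 := CharTwo.add_self_eq_zero x

theorem pr_self (a : Fin n) : pr a a = 0 := by
  funext x
  exact two_zero _

theorem pr_comm (a b : Fin n) : pr a b = pr b a := add_comm _ _

theorem pr_add (a b c : Fin n) : pr a b + pr b c = pr a c := by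
  funext x
  simp only [pr, Pi.add_apply]
  have := two_zero ((Pi.single b 1 : Fin n → ZMod 2) x)
  linear_combination this

theorem sum_pr (a b : Fin n) : ∑ x, pr a b x = 0 := by
  simp [pr, Finset.sum_add_distrib, two_zero]

theorem pr_comp (a b : Fin n) (σ : Perm (Fin n)) : pr a b ∘ σ = pr (σ⁻¹ a) (σ⁻¹ b) := by
  funext x
  simp only [pr, Function.comp_apply, Pi.add_apply, Pi.single_apply]
  have h : ∀ c, (σ x = c) ↔ (x = σ⁻¹ c) := fun c => by
    rw [Perm.eq_inv_iff_eq]
  rw [if_congr (h a) rfl rfl, if_congr (h b) rfl rfl]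

theorem hv_add (a b : Fin n) : hv a + hv b = pr a b := by
  funext x
  have h : ∀ (p q : Prop) [Decidable p] [Decidable q], (if p then (0 : ZMod 2) else 1) + (if q then 0 else 1) =
      (if p then 1 else 0) + (if q then 1 else 0) := by
    intro p q _ _
    by_cases hp : p <;> by_cases hq : q <;> simp only [hp, hq, if_true, if_false] <;> decide
  simp only [hv, pr, Pi.add_apply, Pi.single_apply]
  exact h _ _

/-- even vectors are sums of pairs -/
theorem even_eq (a : Fin n) {y : Fin n → ZMod 2} (hy : ∑ x, y x = 0) : y = ∑ x, y x • pr a x := by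
  funext c
  rw [Finset.sum_apply]
  have h1 : ∀ x, (y x • pr a x) c = y x * (Pi.single a 1 : Fin n → ZMod 2) c +
      (if c = x then y x else 0) := by
    intro x
    simp only [pr, Pi.smul_apply, Pi.add_apply, smul_eq_mul, mul_add]
    congr 1
    rw [Pi.single_apply]
    split_ifs <;> simp
  rw [Finset.sum_congr rfl fun x _ => h1 x, Finset.sum_add_distrib, ← Finset.sum_mul, hy, zero_mul, zero_add,
    Finset.sum_ite_eq, if_pos (Finset.mem_univ c)]

theorem smul_mem_add (Y : AddSubgroup (Fin n → ZMod 2)) (c : ZMod 2) {y : Fin n → ZMod 2} (hy : y ∈ Y) :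
    c • y ∈ Y := by
  have h : c = 0 ∨ c = 1 := by revert c; decide
  rcases h with rfl | rfl
  · rw [zero_smul]; exact Y.zero_mem
  · rwa [one_smul]

/-- **invariant subgroups** -/
theorem mem_of_pair {Y : AddSubgroup (Fin n → ZMod 2)} {o : Fin n}
    (hinv : ∀ σ : Perm (Fin n), σ o = o → ∀ y ∈ Y, y ∘ σ ∈ Y) {a b : Fin n} (hab : a ≠ b) (hbo : b ≠ o)
    (h : pr a b ∈ Y) {y : Fin n → ZMod 2} (hy : ∑ x, y x = 0) (hyo : y o = 0) : y ∈ Y := by
  have h1 : ∀ d, d ≠ o → pr a d ∈ Y := by
    intro d hd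
    by_cases hda : d = a
    · rw [hda, pr_self]; exact Y.zero_mem
    have h2 := hinv (swap b d) (swap_apply_of_ne_of_ne (Ne.symm hbo) (Ne.symm hd)) _ h
    rw [pr_comp, swap_inv, swap_apply_of_ne_of_ne hab (Ne.symm hda), swap_apply_left] at h2
    exact h2
  rw [even_eq a hy]
  refine Y.sum_mem fun x _ => ?_
  by_cases hx : x = o
  · rw [hx, hyo, zero_smul]; exact Y.zero_mem
  · exact smul_mem_add Y _ (h1 x hx)

/-- the vectors `Ω - {a}` generate -/
theorem mem_of_coheavy {Y : AddSubgroup (Fin n → ZMod 2)} (h : ∀ a, hv a ∈ Y) (o : Fin n) {y : Fin n → ZMod 2}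
    (hy : ∑ x, y x = 0) : y ∈ Y := by
  rw [even_eq o hy]
  refine Y.sum_mem fun x _ => smul_mem_add Y _ ?_
  rw [← hv_add]
  exact Y.add_mem (h o) (h x)

end Cfsg.Agent.Omega.NO3S.ESym
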