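import Cfsg.Agent.Omega.NO3S.ESym.Frame
import Cfsg.Agent.Omega.NO3S.ESym.EvenMod

/-!
# SymManyL (E): facts in coordinates (helper548)

`V` a sum of even-subset modules of `Ω_j = {0, .., 2^m}` for `P` (`Sy P V ⊥ e`), `F j = FF V e j`, `Fp j = FP V 0 e j`,
`E j = EE P V e j`, `z j` with coordinates `Ω_j \ 0`. No partners, no stage.

* `mem_FF`, `mem_FP`, `mem_EE`, `ext`, `comm_iff` : membership, `e` is injective on `V`;
* `fix_z` : `g ∈ E j` fixes `z j` iff its permutation fixes `0`;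
* `sub` : `E_j ∩ C(z_j)`-submodules of `F j`: `≤ ⟨z_j⟩` or `≥ Fp j`;
* `zx` : `F j = ⟨z_j ^ E_j⟩`; `cent_E` : `C_V(E i : i ≠ j) = F j`; `E_max` : `E_j ∩ C(z_j)` is maximal in `E_j`;
* `notv` : no transvection with centre `z_j`; `faith` : `T ∩ C(Fp j) ≤ C(F j)`;
* `zfix` : `C_{F j}(T) = {1, z_j}`; `cc`, `zcT` : fixed vectors;
* `offO` : a 2-group `R ≤ S` normalised by all `E_c ∩ C(z_c)` contains no offender on `V`.
-/

set_option autoImplicit false
set_option linter.unusedSectionVars false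

namespace Cfsg.Agent.Omega.NO3S.ESym.CoordT

open Subgroup Cfsg Cfsg.Agent.ZN.ChoiceBase Cfsg.Agent.ZN.ChoiceSit
open Cfsg.Agent.ZN (jj zj bau zc zl o2)
open Cfsg.Agent.Omega.FFThm (ActsSym SymK SymKM OffM ElemM)
open Cfsg.Agent.Omega.SQ1.FFSym
open Cfsg.Agent.Omega.OM.Lev.SymIn (SyL)

universe w

variable {G : Type w} [Group G] {H V : Subgroup G} {k n : ℕ} {o : Fin n} {e : G → Fin k → Fin n → ZMod 2}

/-! ### Membership -/

theorem mem_FF (h : Sy H V ⊥ e) {j : Fin k} {v : G} : v ∈ FF V e j ↔ v ∈ V ∧ ∀ i, i ≠ j → e v i = 0 := by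
  constructor
  · intro hv
    refine closure_induction (p := fun v _ => v ∈ V ∧ ∀ i, i ≠ j → e v i = 0) ?_ ?_ ?_ ?_ hv
    · exact fun x hx => hx
    · exact ⟨one_mem V, fun i _ => by rw [h.e_one]; rfl⟩
    · rintro x y _ _ ⟨hx, hx'⟩ ⟨hy, hy'⟩
      refine ⟨mul_mem hx hy, fun i hi => ?_⟩
      rw [h.mul x hx y hy, Pi.add_apply, hx' i hi, hy' i hi, add_zero]
    · rintro x _ ⟨hx, hx'⟩
      refine ⟨inv_mem hx, fun i hi => ?_⟩
      rw [h.e_inv hx, hx' i hi]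
  · exact fun hv => subset_closure hv

theorem mem_FP (h : Sy H V ⊥ e) {j : Fin k} {v : G} :
    v ∈ FP V o e j ↔ v ∈ V ∧ (∀ i, i ≠ j → e v i = 0) ∧ e v j o = 0 := by
  constructor
  · intro hv
    refine closure_induction (p := fun v _ => v ∈ V ∧ (∀ i, i ≠ j → e v i = 0) ∧ e v j o = 0) ?_ ?_ ?_ ?_ hv
    · exact fun x hx => hx
    · exact ⟨one_mem V, fun i _ => by rw [h.e_one]; rfl, by rw [h.e_one]; rfl⟩
    · rintro x y _ _ ⟨hx, hx', hx''⟩ ⟨hy, hy', hy''⟩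
      refine ⟨mul_mem hx hy, fun i hi => ?_, ?_⟩
      · rw [h.mul x hx y hy, Pi.add_apply, hx' i hi, hy' i hi, add_zero]
      · rw [h.mul x hx y hy, Pi.add_apply, Pi.add_apply, hx'', hy'', add_zero]
    · rintro x _ ⟨hx, hx', hx''⟩
      refine ⟨inv_mem hx, fun i hi => ?_, ?_⟩
      · rw [h.e_inv hx, hx' i hi]
      · rw [h.e_inv hx, hx'']
  · exact fun hv => subset_closure hv

theorem gd_mk {g : G} {τ : Fin k → Equiv.Perm (Fin n)} (hg : g ∈ H) (ha : ActsSym e V g 1 τ) : Gd H V ⊥ e τ g :=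
  ⟨hg, fun d hd => by rw [mem_bot.1 hd, mul_one, one_mul], ha⟩

theorem mem_EE (h : Sy H V ⊥ e) {j : Fin k} {g : G} :
    g ∈ EE H V e j ↔ ∃ π, Gd H V ⊥ e (Pi.mulSingle j π) g := by
  constructor
  · intro hg
    refine closure_induction (p := fun g _ => ∃ π, Gd H V ⊥ e (Pi.mulSingle j π) g) ?_ ?_ ?_ ?_ hg
    · rintro x ⟨hx, π, hπ⟩
      exact ⟨π, gd_mk hx hπ⟩
    · exact ⟨1, by rw [Pi.mulSingle_one]; exact h.gd_one⟩
    · rintro x y _ _ ⟨π, hx⟩ ⟨ρ, hy⟩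
      exact ⟨π * ρ, by rw [Pi.mulSingle_mul]; exact h.gd_mul hx hy⟩
    · rintro x _ ⟨π, hx⟩
      exact ⟨π⁻¹, by rw [Pi.mulSingle_inv]; exact h.gd_inv hx⟩
  · rintro ⟨π, hg⟩
    exact subset_closure ⟨hg.mem, π, hg.act⟩

theorem FF_le (h : Sy H V ⊥ e) {j : Fin k} : FF V e j ≤ V := fun _ hv => ((mem_FF h).1 hv).1

theorem FP_le (h : Sy H V ⊥ e) {j : Fin k} : FP V o e j ≤ FF V e j := fun _ hv =>
  (mem_FF h).2 ⟨((mem_FP h).1 hv).1, ((mem_FP h).1 hv).2.1⟩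

theorem EE_le (h : Sy H V ⊥ e) {j : Fin k} : EE H V e j ≤ H := fun _ hg => by
  obtain ⟨π, hπ⟩ := (mem_EE h).1 hg
  exact hπ.mem

/-- `e` is injective on `V` -/
theorem ext (h : Sy H V ⊥ e) {v w : G} (hv : v ∈ V) (hw : w ∈ V) (he : e v = e w) : v = w := by
  have h1 := mem_bot.1 (h.e_eq hv hw he)
  rw [← h.inv_eq hw]
  exact eq_inv_of_mul_eq_one_left h1

/-- `g` commutes with `v` iff it fixes the coordinates -/
theorem comm_iff (h : Sy H V ⊥ e) {g v : G} (hg : g ∈ H) (hv : v ∈ V) :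
    g * v = v * g ↔ e (g * v * g⁻¹) = e v := by
  constructor
  · intro h1
    rw [h1, mul_inv_cancel_right]
  · intro h1
    have h2 := ext h (h.Vn g hg v hv) hv h1
    exact mul_inv_eq_iff_eq_mul.1 h2

/-- the coordinates of a conjugate -/
theorem e_act {g v : G} {σ : Equiv.Perm (Fin k)} {τ : Fin k → Equiv.Perm (Fin n)} (ha : ActsSym e V g σ τ)
    (hv : v ∈ V) (i : Fin k) (x : Fin n) : e (g * v * g⁻¹) (σ i) (τ i x) = e v i x := ha v hv i x

theorem e_single {g v : G} {j : Fin k} {π : Equiv.Perm (Fin n)} (hg : Gd H V ⊥ e (Pi.mulSingle j π) g)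
    (hv : v ∈ V) (x : Fin n) : e (g * v * g⁻¹) j (π x) = e v j x := by
  have h1 := hg.act v hv j x
  rwa [Equiv.Perm.one_apply, Pi.mulSingle_eq_same] at h1

theorem e_single_ne {g v : G} {i j : Fin k} {π : Equiv.Perm (Fin n)} (hg : Gd H V ⊥ e (Pi.mulSingle j π) g)
    (hv : v ∈ V) (hi : i ≠ j) : e (g * v * g⁻¹) i = e v i := by
  funext x
  have h1 := hg.act v hv i x
  rwa [Equiv.Perm.one_apply, Pi.mulSingle_eq_of_ne hi, Equiv.Perm.one_apply] at h1

/-- an element of `E_j` with a given permutation -/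
theorem exists_E (h : Sy H V ⊥ e) (j : Fin k) (π : Equiv.Perm (Fin n)) :
    ∃ g ∈ EE H V e j, Gd H V ⊥ e (Pi.mulSingle j π) g := by
  obtain ⟨g, hg⟩ := h.exists_gd (Pi.mulSingle j π)
  exact ⟨g, (mem_EE h).2 ⟨π, hg⟩, hg⟩

/-- `[E_i, F_j] = 1` for `i ≠ j` -/
theorem E_comm_F (h : Sy H V ⊥ e) {i j : Fin k} (hij : i ≠ j) {g v : G} (hg : g ∈ EE H V e i)
    (hv : v ∈ FF V e j) : g * v = v * g := by
  obtain ⟨π, hπ⟩ := (mem_EE h).1 hg
  obtain ⟨hvV, hv'⟩ := (mem_FF h).1 hv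
  rw [comm_iff h hπ.mem hvV]
  funext l
  by_cases hl : l = i
  · subst hl
    funext x
    have h1 := e_single hπ hvV (π⁻¹ x)
    rw [perm_inv_self] at h1
    rw [h1, hv' l hij]
    rfl
  · exact e_single_ne hπ hvV hl

theorem E_norm_F (h : Sy H V ⊥ e) {i j : Fin k} {g v : G} (hg : g ∈ EE H V e i)
    (hv : v ∈ FF V e j) : g * v * g⁻¹ ∈ FF V e j := by
  by_cases hij : i = j
  · subst hij
    obtain ⟨π, hπ⟩ := (mem_EE h).1 hg
    obtain ⟨hvV, hv'⟩ := (mem_FF h).1 hv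
    refine (mem_FF h).2 ⟨h.Vn g hπ.mem v hvV, fun l hl => ?_⟩
    rw [e_single_ne hπ hvV hl, hv' l hl]
  · rw [E_comm_F h hij hg hv, mul_inv_cancel_right]
    exact hv

/-! ### The heavy vectors -/

/-- `z` is the heavy vector `Ω_j \ o`. -/
structure IsZ (V : Subgroup G) (o : Fin n) (e : G → Fin k → Fin n → ZMod 2) (j : Fin k) (z : G) : Prop where
  mem : z ∈ V
  ez : ∀ i x, e z i x = if i = j ∧ x ≠ o then 1 else 0

theorem IsZ.mem_F (h : Sy H V ⊥ e) {j : Fin k} {z : G} (hz : IsZ V o e j z) : z ∈ FF V e j :=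
  (mem_FF h).2 ⟨hz.mem, fun i hi => by
    funext x
    rw [hz.ez, if_neg fun hc => hi hc.1]
    rfl⟩

theorem IsZ.mem_Fp (h : Sy H V ⊥ e) {j : Fin k} {z : G} (hz : IsZ V o e j z) : z ∈ FP V o e j :=
  (mem_FP h).2 ⟨hz.mem, ((mem_FF h).1 (hz.mem_F h)).2, by rw [hz.ez, if_neg fun hc => hc.2 rfl]⟩

theorem IsZ.e_self {j : Fin k} {z : G} (hz : IsZ V o e j z) {x : Fin n} (hx : x ≠ o) : e z j x = 1 := by
  rw [hz.ez, if_pos ⟨rfl, hx⟩]

theorem IsZ.e_o {j : Fin k} {z : G} (hz : IsZ V o e j z) (i : Fin k) : e z i o = 0 := by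
  rw [hz.ez, if_neg fun hc => hc.2 rfl]

theorem IsZ.e_ne {i j : Fin k} {z : G} (hz : IsZ V o e j z) (hi : i ≠ j) (x : Fin n) : e z i x = 0 := by
  rw [hz.ez, if_neg fun hc => hi hc.1]

theorem IsZ.ne_one (h : Sy H V ⊥ e) {j : Fin k} {z : G} (hz : IsZ V o e j z) : z ≠ 1 := by
  obtain ⟨a, ha, -⟩ := h.exists_third o o
  intro h1
  have h2 := hz.e_self ha
  rw [h1, h.e_one] at h2
  exact zero_ne_one h2

/-- `g` acting as `(σ, τ)` fixes `z_j` iff `σ j = j` and `τ j o = o` -/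
theorem IsZ.comm_of (h : Sy H V ⊥ e) {j : Fin k} {z g : G} (hz : IsZ V o e j z) (hg : g ∈ H)
    {σ : Equiv.Perm (Fin k)} {τ : Fin k → Equiv.Perm (Fin n)} (ha : ActsSym e V g σ τ) (h1 : σ j = j)
    (h2 : τ j o = o) : g * z = z * g := by
  rw [comm_iff h hg hz.mem]
  funext i x
  obtain ⟨i', rfl⟩ := σ.surjective i
  obtain ⟨x', rfl⟩ := (τ i').surjective x
  rw [ha z hz.mem, hz.ez, hz.ez]
  by_cases hi : i' = j
  · subst hi
    rw [h1]
    have h3 : τ i' x' ≠ o ↔ x' ≠ o := not_congr ⟨fun hx => (τ i').injective (hx.trans h2.symm), fun hx => by rw [hx, h2]⟩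
    simp only [true_and, h3]
  · have h3 : σ i' ≠ j := fun hc => hi (σ.injective (hc.trans h1.symm))
    simp only [hi, h3, false_and]

theorem IsZ.of_comm (h : Sy H V ⊥ e) {j : Fin k} {z g : G} (hz : IsZ V o e j z)
    {σ : Equiv.Perm (Fin k)} {τ : Fin k → Equiv.Perm (Fin n)} (ha : ActsSym e V g σ τ) (hc : g * z = z * g) :
    σ j = j ∧ τ j o = o := by
  have h0 : g * z * g⁻¹ = z := by rw [hc, mul_inv_cancel_right]
  have key : ∀ i x, e z (σ i) (τ i x) = e z i x := fun i x => by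
    have := ha z hz.mem i x
    rwa [h0] at this
  have h1 : σ j = j := by
    by_contra hne
    obtain ⟨a, ha', -⟩ := h.exists_third o o
    have h2 := key j a
    rw [hz.e_ne hne, hz.e_self ha'] at h2
    exact zero_ne_one h2
  refine ⟨h1, ?_⟩
  by_contra hne
  have h2 := key j o
  rw [h1, hz.e_self hne, hz.e_o] at h2
  exact one_ne_zero h2

/-- `g ∈ E_j` fixes `z_j` iff its permutation fixes `o`. -/
theorem fix_z (h : Sy H V ⊥ e) {j : Fin k} {z g : G} (hz : IsZ V o e j z) {π : Equiv.Perm (Fin n)}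
    (hg : Gd H V ⊥ e (Pi.mulSingle j π) g) : g * z = z * g ↔ π o = o := by
  constructor
  · intro hc
    have h1 := (hz.of_comm h hg.act hc).2
    rwa [Pi.mulSingle_eq_same] at h1
  · intro h1
    refine hz.comm_of h hg.mem hg.act rfl ?_
    rw [Pi.mulSingle_eq_same]
    exact h1

/-- the pair `{a, b} ⊆ Ω_j` is in `F j` -/
theorem u_mem_F (h : Sy H V ⊥ e) (j : Fin k) (a b : Fin n) : u H V ⊥ e j a b ∈ FF V e j := by
  refine (mem_FF h).2 ⟨h.u_mem _ _ _, fun i hi => ?_⟩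
  rw [h.e_u]
  funext x
  simp only [Pi.add_apply, Cfsg.Agent.Omega.SQ1.FFSym.E, hi, false_and, if_false, add_zero]
  rfl

theorem e_u_eq (h : Sy H V ⊥ e) (j : Fin k) (a b : Fin n) : e (u H V ⊥ e j a b) j = pr a b := by
  rw [h.e_u]
  funext x
  simp only [Pi.add_apply, Cfsg.Agent.Omega.SQ1.FFSym.E, true_and, pr, Pi.single_apply]

theorem u_mem_Fp (h : Sy H V ⊥ e) (j : Fin k) {a b : Fin n} (ha : a ≠ o) (hb : b ≠ o) :
    u H V ⊥ e j a b ∈ FP V o e j := by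
  refine (mem_FP h).2 ⟨h.u_mem _ _ _, ((mem_FF h).1 (u_mem_F h j a b)).2, ?_⟩
  rw [e_u_eq h]
  simp only [pr, Pi.add_apply, Pi.single_apply, Ne.symm ha, Ne.symm hb, if_false, add_zero]

/-! ### Submodules -/

/-- the coordinates of a subgroup of `F j` -/
def co (h : Sy H V ⊥ e) (j : Fin k) (X : Subgroup G) (hX : X ≤ V) : AddSubgroup (Fin n → ZMod 2) where
  carrier := {y | ∃ x ∈ X, e x j = y}
  zero_mem' := ⟨1, one_mem X, by rw [h.e_one]; rfl⟩
  add_mem' := by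
    rintro _ _ ⟨x, hx, rfl⟩ ⟨y, hy, rfl⟩
    exact ⟨x * y, mul_mem hx hy, by rw [h.mul x (hX hx) y (hX hy), Pi.add_apply]⟩
  neg_mem' := by
    rintro _ ⟨x, hx, rfl⟩
    refine ⟨x, hx, ?_⟩
    funext a
    exact (CharTwo.neg_eq _).symm

theorem mem_co (h : Sy H V ⊥ e) {j : Fin k} {X : Subgroup G} (hX : X ≤ V) {y : Fin n → ZMod 2} :
    y ∈ co h j X hX ↔ ∃ x ∈ X, e x j = y := Iff.rfl

/-- an element of `F j` whose coordinates are those of an element of `X ≤ F j` is in `X` -/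
theorem mem_of_co (h : Sy H V ⊥ e) {j : Fin k} {X : Subgroup G} (hX : X ≤ FF V e j) {v : G} (hv : v ∈ FF V e j)
    (hy : e v j ∈ co h j X (hX.trans (FF_le h))) : v ∈ X := by
  obtain ⟨x, hx, hxe⟩ := hy
  obtain ⟨hvV, hv'⟩ := (mem_FF h).1 hv
  obtain ⟨hxV, hx'⟩ := (mem_FF h).1 (hX hx)
  have h1 : x = v := by
    refine ext h hxV hvV ?_
    funext i
    by_cases hi : i = j
    · subst hi; exact hxe
    · rw [hv' i hi, hx' i hi]
  exact h1 ▸ hx

theorem co_comp (h : Sy H V ⊥ e) {j : Fin k} {X : Subgroup G} (hX : X ≤ V)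
    {σ : Equiv.Perm (Fin n)} {g : G} (hg : Gd H V ⊥ e (Pi.mulSingle j σ⁻¹) g)
    (hgX : ∀ x ∈ X, g * x * g⁻¹ ∈ X) {y : Fin n → ZMod 2} (hy : y ∈ co h j X hX) : y ∘ σ ∈ co h j X hX := by
  obtain ⟨x, hx, rfl⟩ := hy
  refine ⟨g * x * g⁻¹, hgX x hx, ?_⟩
  funext a
  have h1 := e_single hg (hX hx) (σ a)
  have h2 : σ⁻¹ (σ a) = a := σ.symm_apply_apply a
  rw [h2] at h1
  rw [h1]
  rfl

variable {m : ℕ} {e' : G → Fin k → Fin (2 ^ m + 1) → ZMod 2}

/-- a vector of `F j` which is constant off `0` -/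
theorem const_cases (h : Sy H V ⊥ e') (hm : 1 ≤ m) {j : Fin k} {v : G} (hv : v ∈ V)
    (hc : ∀ a b, a ≠ 0 → b ≠ 0 → e' v j a = e' v j b) :
    e' v j = 0 ∨ ∀ x, e' v j x = if x ≠ 0 then 1 else 0 := by
  have hz2 : ∀ c : ZMod 2, c = 0 ∨ c = 1 := by decide
  obtain ⟨a, ha, -⟩ := h.exists_third (0 : Fin (2 ^ m + 1)) 0
  have hev := h.even v hv j
  rw [← Finset.add_sum_erase _ _ (Finset.mem_univ (0 : Fin (2 ^ m + 1))),
    Finset.sum_congr rfl (g := fun _ => e' v j a) fun x hx => hc x a (Finset.ne_of_mem_erase hx) ha,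
    Finset.sum_const, Finset.card_erase_of_mem (Finset.mem_univ _), Finset.card_univ, Fintype.card_fin,
    Nat.add_sub_cancel, nsmul_eq_mul] at hev
  have h2 : ((2 ^ m : ℕ) : ZMod 2) = 0 := by
    rw [ZMod.natCast_eq_zero_iff]
    exact dvd_pow_self 2 (by omega)
  rw [h2, zero_mul, add_zero] at hev
  rcases hz2 (e' v j a) with h3 | h3
  · left
    funext x
    by_cases hx : x = 0
    · rw [hx]; exact hev
    · rw [hc x a hx ha]; exact h3
  · right
    intro x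
    by_cases hx : x = 0
    · rw [hx, if_neg fun hc => hc rfl]; exact hev
    · rw [if_pos hx, hc x a hx ha]; exact h3

/-- a vector of `F j` constant off `0` is `1` or `z_j` -/
theorem eq_one_or_z (h : Sy H V ⊥ e') (hm : 1 ≤ m) {j : Fin k} {v z : G} (hz : IsZ V 0 e' j z)
    (hv : v ∈ FF V e' j) (hc : ∀ a b, a ≠ 0 → b ≠ 0 → e' v j a = e' v j b) : v = 1 ∨ v = z := by
  obtain ⟨hvV, hv'⟩ := (mem_FF h).1 hv
  rcases const_cases h hm hvV hc with h1 | h1
  · left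
    refine ext h hvV (one_mem V) ?_
    rw [h.e_one]
    funext i
    by_cases hi : i = j
    · subst hi; exact h1
    · rw [hv' i hi]; rfl
  · right
    refine ext h hvV hz.mem ?_
    funext i x
    by_cases hi : i = j
    · subst hi
      rw [h1, hz.ez]
      simp only [true_and]
    · rw [hv' i hi, hz.e_ne hi]; rfl

/-- **submodules of `F j` for `E_j ∩ C(z_j)`** -/
theorem sub (h : Sy H V ⊥ e') (hm : 1 ≤ m) {j : Fin k} {z : G} (hz : IsZ V 0 e' j z) {X : Subgroup G}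
    (hX : X ≤ FF V e' j) (hn : ∀ g ∈ EE H V e' j, g * z = z * g → ∀ x ∈ X, g * x * g⁻¹ ∈ X)
    (h1 : ¬ X ≤ zpowers z) : FP V 0 e' j ≤ X := by
  have hXV := hX.trans (FF_le h)
  obtain ⟨x, hx, hxz⟩ := SetLike.not_le_iff_exists.1 h1
  have h2 : ∃ a b, a ≠ 0 ∧ b ≠ 0 ∧ e' x j a ≠ e' x j b := by
    by_contra hcon
    push Not at hcon
    rcases eq_one_or_z h hm hz (hX hx) hcon with h3 | h3
    · exact hxz (h3 ▸ one_mem _)
    · exact hxz (h3 ▸ mem_zpowers z)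
  obtain ⟨a, b, ha, hb, hab⟩ := h2
  have hne : a ≠ b := fun hc => hab (by rw [hc])
  have hinv : ∀ σ : Equiv.Perm (Fin (2 ^ m + 1)), σ 0 = 0 → ∀ y ∈ co h j X hXV, y ∘ σ ∈ co h j X hXV := by
    intro σ hσ y hy
    obtain ⟨g, hg, hgd⟩ := exists_E h j σ⁻¹
    have h3 : g * z = z * g := (fix_z h hz hgd).2 (by rw [Equiv.Perm.inv_eq_iff_eq, hσ])
    exact co_comp h hXV hgd (hn g hg h3) hy
  -- the pair
  have hp : pr a b ∈ co h j X hXV := by
    have h3 := hinv (Equiv.swap a b) (Equiv.swap_apply_of_ne_of_ne (Ne.symm ha) (Ne.symm hb)) _ ⟨x, hx, rfl⟩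
    have h4 := (co h j X hXV).add_mem h3 ⟨x, hx, rfl⟩
    have h5 : e' x j ∘ Equiv.swap a b + e' x j = pr a b := by
      have key : ∀ p q : ZMod 2, p ≠ q → q + p = 1 := by decide
      funext c
      simp only [Pi.add_apply, Function.comp_apply, pr, Pi.single_apply]
      by_cases hca : c = a
      · subst hca
        rw [Equiv.swap_apply_left, if_pos rfl, if_neg hne, add_zero]
        exact key _ _ hab
      · by_cases hcb : c = b
        · subst hcb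
          rw [Equiv.swap_apply_right, if_neg hca, if_pos rfl, zero_add]
          exact key _ _ (Ne.symm hab)
        · rw [Equiv.swap_apply_of_ne_of_ne hca hcb, if_neg hca, if_neg hcb, add_zero]
          exact CharTwo.add_self_eq_zero _
    rwa [h5] at h4
  intro v hv
  obtain ⟨hvV, hv', hv0⟩ := (mem_FP h).1 hv
  exact mem_of_co h hX (FP_le h hv) (mem_of_pair hinv hne hb hp (h.even v hvV j) hv0)

/-- **`F j = ⟨z_j ^ E_j⟩`** -/
theorem zx (h : Sy H V ⊥ e) {j : Fin k} {z : G} (hz : IsZ V o e j z) {X : Subgroup G}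
    (hzX : z ∈ X) (hn : ∀ g ∈ EE H V e j, ∀ x ∈ X, g * x * g⁻¹ ∈ X) : FF V e j ≤ X := by
  have hYF : X ⊓ FF V e j ≤ FF V e j := inf_le_right
  have hYV := hYF.trans (FF_le h)
  intro v hvF
  have hvV := (FF_le h) hvF
  refine (inf_le_left : X ⊓ FF V e j ≤ X) (mem_of_co h hYF hvF (mem_of_coheavy (fun a => ?_) o (h.even v hvV j)))
  obtain ⟨g, hg, hgd⟩ := exists_E h j (Equiv.swap o a)
  refine ⟨g * z * g⁻¹, ⟨hn g hg z hzX, E_norm_F h hg (hz.mem_F h)⟩, ?_⟩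
  funext x
  have h1 := e_single hgd hz.mem (Equiv.swap o a x)
  rw [Equiv.swap_apply_self] at h1
  rw [h1, hz.ez]
  unfold hv
  have h2 : Equiv.swap o a x ≠ o ↔ x ≠ a := not_congr ⟨fun hx => by
    rw [← Equiv.swap_apply_self o a x, hx, Equiv.swap_apply_left], fun hx => by rw [hx, Equiv.swap_apply_right]⟩
  by_cases hx : x = a
  · rw [if_pos hx, if_neg fun hc => h2.1 hc.2 hx]
  · rw [if_neg hx, if_pos ⟨rfl, h2.2 hx⟩]

/-- **`C_V(E i : i ≠ j) ≤ F j`** -/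
theorem cent_E (h : Sy H V ⊥ e') {j : Fin k} {v : G} (hv : v ∈ V)
    (hc : ∀ i, i ≠ j → ∀ g ∈ EE H V e' i, g * v = v * g) : v ∈ FF V e' j := by
  refine (mem_FF h).2 ⟨hv, fun i hi => ?_⟩
  have hcon : ∀ a b, e' v i a = e' v i b := by
    intro a b
    obtain ⟨g, hg, hgd⟩ := exists_E h i (Equiv.swap a b)
    have h1 := e_single hgd hv a
    rw [hc i hi g hg, mul_inv_cancel_right, Equiv.swap_apply_left] at h1
    exact h1.symm
  have hev := h.even v hv i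
  rw [Finset.sum_congr rfl (g := fun _ => e' v i 0) fun x _ => hcon x 0, Finset.sum_const, Finset.card_univ,
    Fintype.card_fin, nsmul_eq_mul] at hev
  by_cases hm : m = 0
  · have := h.n3
    rw [hm] at this
    norm_num at this
  have h2 : ((2 ^ m + 1 : ℕ) : ZMod 2) = 1 := by
    have h3 : ((2 ^ m : ℕ) : ZMod 2) = 0 := by
      rw [ZMod.natCast_eq_zero_iff]
      exact dvd_pow_self 2 hm
    rw [Nat.cast_add, h3, zero_add, Nat.cast_one]
  rw [h2, one_mul] at hev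
  funext x
  rw [hcon x 0]
  exact hev

/-- **`E_j ∩ C(z_j)` is maximal in `E_j`** -/
theorem E_max (h : Sy H V ⊥ e) {j : Fin k} {z x : G} (hz : IsZ V o e j z) (hx : x ∈ EE H V e j)
    (hne : x * z ≠ z * x) : EE H V e j ≤ (EE H V e j ⊓ centralizer ({z} : Set G)) ⊔ zpowers x := by
  obtain ⟨π, hπ⟩ := (mem_EE h).1 hx
  have h1 : π o ≠ o := fun hc => hne ((fix_z h hz hπ).2 hc)
  have hcen : ∀ g ∈ EE H V e j, g * z = z * g → g ∈ (EE H V e j ⊓ centralizer ({z} : Set G)) ⊔ zpowers x :=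
    fun g hg hc => mem_sup_left ⟨hg, mem_centralizer_singleton_iff.2 hc⟩
  intro y hy
  obtain ⟨ρ, hρ⟩ := (mem_EE h).1 hy
  by_cases h2 : ρ o = o
  · exact hcen y hy ((fix_z h hz hρ).2 h2)
  · obtain ⟨g, hg, hgd⟩ := exists_E h j (Equiv.swap (π o) (ρ o))
    have h3 : g * z = z * g := (fix_z h hz hgd).2 (Equiv.swap_apply_of_ne_of_ne (Ne.symm h1) (Ne.symm h2))
    have h4 : Gd H V ⊥ e (Pi.mulSingle j ((Equiv.swap (π o) (ρ o) * π)⁻¹ * ρ)) ((g * x)⁻¹ * y) := by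
      have h5 := h.gd_mul (h.gd_inv (h.gd_mul hgd hπ)) hρ
      rwa [← Pi.mulSingle_mul, ← Pi.mulSingle_inv, ← Pi.mulSingle_mul] at h5
    have h5 : (g * x)⁻¹ * y * z = z * ((g * x)⁻¹ * y) := by
      refine (fix_z h hz h4).2 ?_
      rw [Equiv.Perm.mul_apply, Equiv.Perm.inv_eq_iff_eq, Equiv.Perm.mul_apply, Equiv.swap_apply_left]
    have h6 := hcen _ (mul_mem (inv_mem (mul_mem hg hx)) hy) h5
    have h7 : y = g * x * ((g * x)⁻¹ * y) := by group
    rw [h7]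
    exact mul_mem (mul_mem (hcen g hg h3) (mem_sup_right (mem_zpowers x))) h6

/-! ### The 2-group -/

section syl

variable [Finite G] {S Q Jg : Subgroup G} {AA : Set (Subgroup G)}
  (h : SyL S H Q V Jg ⊥ AA (0 : Fin (2 ^ m + 1)) e')
include h

theorem exists_pt (hm : 2 ≤ m) (a b c : Fin (2 ^ m + 1)) : ∃ d, d ≠ a ∧ d ≠ b ∧ d ≠ c := by
  by_contra hcon
  push Not at hcon
  have h1 : (Finset.univ : Finset (Fin (2 ^ m + 1))) ⊆ {a, b, c} := by
    intro z _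
    by_cases h1 : z = a
    · simp [h1]
    · by_cases h2 : z = b
      · simp [h2]
      · simp [hcon z h1 h2]
  have h2 := Finset.card_le_card h1
  have h3 := Finset.card_le_three (a := a) (b := b) (c := c)
  rw [Finset.card_univ, Fintype.card_fin] at h2
  have h4 : 2 ^ 2 ≤ 2 ^ m := Nat.pow_le_pow_right (by norm_num) hm
  omega

/-- **the fixed vectors of `S ∩ E_j` in the component `j`** -/
theorem const_of_fix {j : Fin k} {v : G} (hv : v ∈ V)
    (hc : ∀ g ∈ S, g ∈ EE H V e' j → g * v = v * g) : ∀ a b, a ≠ 0 → b ≠ 0 → e' v j a = e' v j b := by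
  intro a b ha hb
  obtain ⟨t, ht, π, hπ, hab⟩ := h.cyc_T Cfsg.Agent.Omega.SQ1.SymCyc.exists_pow j ha hb
  have h1 := hc t ht ((mem_EE h.toSy).2 ⟨π, hπ⟩)
  have h2 := e_single hπ hv a
  rw [h1, mul_inv_cancel_right, hab] at h2
  exact h2.symm

/-- **`C_{F j}(S ∩ E_j) = {1, z_j}`** -/
theorem zfix (hm : 1 ≤ m) {j : Fin k} {v z : G} (hz : IsZ V 0 e' j z) (hv : v ∈ FF V e' j)
    (hc : ∀ g ∈ S, g ∈ EE H V e' j → g * v = v * g) : v = 1 ∨ v = z :=
  eq_one_or_z h.toSy hm hz hv (const_of_fix h (FF_le h.toSy hv) hc)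

/-- an element of `S` which normalises `F j` maps the component `j` to itself -/
theorem S_act {j : Fin k} {t : G} (ht : t ∈ S) (hn : ∀ v ∈ FF V e' j, t * v * t⁻¹ ∈ FF V e' j) :
    ∃ σ τ, ActsSym e' V t σ τ ∧ σ j = j ∧ ∀ i, τ i 0 = 0 := by
  obtain ⟨σ, τ, ha, h0⟩ := h.exists_act ht
  refine ⟨σ, τ, ha, ?_, h0⟩
  by_contra hne
  obtain ⟨a, ha', -⟩ := h.toSy.exists_third (0 : Fin (2 ^ m + 1)) 0
  have h1 := hn _ (u_mem_F h.toSy j 0 a)
  have h2 := ((mem_FF h.toSy).1 h1).2 (σ j) hne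
  have h3 := ha _ (h.toSy.u_mem j 0 a) j 0
  rw [h2, e_u_eq h.toSy] at h3
  simp only [pr, Pi.add_apply, Pi.single_apply, if_true, Ne.symm ha', if_false, add_zero, Pi.zero_apply] at h3
  exact zero_ne_one h3

/-- an element acting trivially on the component `j` -/
theorem cent_of_one {j : Fin k} {t : G} (ht : t ∈ H) {σ : Equiv.Perm (Fin k)}
    {τ : Fin k → Equiv.Perm (Fin (2 ^ m + 1))} (ha : ActsSym e' V t σ τ) (h1 : σ j = j) (h2 : ∀ x, τ j x = x) {v : G}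
    (hv : v ∈ FF V e' j) : t * v = v * t := by
  obtain ⟨hvV, hv'⟩ := (mem_FF h.toSy).1 hv
  rw [comm_iff h.toSy ht hvV]
  funext i x
  obtain ⟨i', rfl⟩ := σ.surjective i
  obtain ⟨x', rfl⟩ := (τ i').surjective x
  rw [ha v hvV]
  by_cases hi : i' = j
  · subst hi
    rw [h1, h2]
  · have h3 : σ i' ≠ j := fun hc => hi (σ.injective (hc.trans h1.symm))
    rw [hv' i' hi, hv' (σ i') h3]
    rfl

/-- **no transvection with centre `z_j`** -/
theorem notv (hm : 2 ≤ m) {j : Fin k} {t z : G} (hz : IsZ V 0 e' j z) (ht : t ∈ S)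
    (hc : ∀ v ∈ FF V e' j, t * v * t⁻¹ * v⁻¹ ∈ zpowers z) : ∀ v ∈ FF V e' j, t * v = v * t := by
  have hzF := hz.mem_F h.toSy
  have hn : ∀ v ∈ FF V e' j, t * v * t⁻¹ ∈ FF V e' j := by
    intro v hv
    have h1 := mul_mem ((zpowers_le.2 hzF) (hc v hv)) hv
    rwa [inv_mul_cancel_right] at h1
  obtain ⟨σ, τ, ha, hσ, h0⟩ := S_act h ht hn
  have htH := h.TH ht
  intro v hv
  refine cent_of_one h htH ha hσ (fun x => ?_) hv
  by_contra hx
  have hx0 : x ≠ 0 := fun hc => hx (by rw [hc, h0])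
  have hy0 : τ j x ≠ 0 := fun hc => hx0 ((τ j).injective (hc.trans (h0 j).symm))
  have h1 := hc _ (u_mem_F h.toSy j 0 x)
  have h2 : t * u H V ⊥ e' j 0 x * t⁻¹ = u H V ⊥ e' j 0 (τ j x) := by
    rw [h.toSy.u_conj htH ha, hσ, h0]
  rw [h2, h.toSy.inv_eq (h.toSy.u_mem _ _ _)] at h1
  have h3 : e' (u H V ⊥ e' j 0 (τ j x) * u H V ⊥ e' j 0 x) j = pr (τ j x) x := by
    rw [h.toSy.mul _ (h.toSy.u_mem _ _ _) _ (h.toSy.u_mem _ _ _), Pi.add_apply, e_u_eq h.toSy, e_u_eq h.toSy,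
      pr_comm 0 (τ j x), pr_add]
  have h4 : ∀ w ∈ zpowers z, w = 1 ∨ w = z := by
    intro w hw
    obtain ⟨i, rfl⟩ := mem_zpowers_iff.1 hw
    have hzz : z ^ 2 = 1 := h.toSy.sq z hz.mem
    rcases Int.even_or_odd i with hi | hi
    · obtain ⟨r, rfl⟩ := hi
      left
      rw [← two_mul, zpow_mul, zpow_ofNat, hzz, one_zpow]
    · obtain ⟨r, rfl⟩ := hi
      right
      rw [zpow_add, zpow_mul, zpow_ofNat, hzz, one_zpow, one_mul, zpow_one]
  rcases h4 _ h1 with h5 | h5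
  · rw [h5, h.toSy.e_one] at h3
    have h6 := congrFun h3 x
    simp only [pr, Pi.add_apply, Pi.single_apply, Pi.zero_apply, if_true, Ne.symm hx, if_false, zero_add] at h6
    exact zero_ne_one h6
  · obtain ⟨d, hd0, hdx, hdy⟩ := exists_pt h hm 0 x (τ j x)
    rw [h5] at h3
    have h6 := congrFun h3 d
    rw [hz.e_self hd0] at h6
    simp only [pr, Pi.add_apply, Pi.single_apply, hdx, hdy, if_false, add_zero] at h6
    exact one_ne_zero h6

/-- **`S` is faithful on the hyperplane** -/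
theorem faith (hm : 2 ≤ m) {j : Fin k} {t : G} (ht : t ∈ S)
    (hc : ∀ v ∈ FP V 0 e' j, t * v = v * t) : ∀ v ∈ FF V e' j, t * v = v * t := by
  obtain ⟨σ, τ, ha, h0⟩ := h.exists_act ht
  have htH := h.TH ht
  have key : ∀ a b, a ≠ 0 → b ≠ 0 → a ≠ b → σ j = j ∧ ((τ j a = a ∧ τ j b = b) ∨ (τ j a = b ∧ τ j b = a)) := by
    intro a b ha' hb hab
    have h1 := hc _ (u_mem_Fp h.toSy j ha' hb)
    have h2 : t * u H V ⊥ e' j a b * t⁻¹ = u H V ⊥ e' j a b := by rw [h1, mul_inv_cancel_right]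
    rw [h.toSy.u_conj htH ha] at h2
    exact h.toSy.u_inj (fun hc => hab ((τ j).injective hc)) h2
  obtain ⟨a, ha', -, -⟩ := exists_pt h hm 0 0 0
  obtain ⟨b, hb, hba, -⟩ := exists_pt h hm 0 a a
  have hσ := (key a b ha' hb (Ne.symm hba)).1
  intro v hv
  refine cent_of_one h htH ha hσ (fun x => ?_) hv
  by_cases hx : x = 0
  · rw [hx, h0]
  · by_contra hne
    obtain ⟨y, hy0, hyx, -⟩ := exists_pt h hm 0 x x
    obtain ⟨w, hw0, hwx, hwy⟩ := exists_pt h hm 0 x y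
    have h1 : τ j x = y := by
      rcases (key x y hx hy0 (Ne.symm hyx)).2 with ⟨h1, -⟩ | ⟨h1, -⟩
      · exact absurd h1 hne
      · exact h1
    have h2 : τ j x = w := by
      rcases (key x w hx hw0 (Ne.symm hwx)).2 with ⟨h1, -⟩ | ⟨h1, -⟩
      · exact absurd h1 hne
      · exact h1
    exact hwy (h2.symm.trans h1)

/-- **fixed vectors of many components** : `v` is constant off `0` in the components of `s` -/
theorem mem_closure_of_const (hm : 1 ≤ m) {z : Fin k → G} (hz : ∀ j, IsZ V 0 e' j (z j)) {v : G} (hv : v ∈ V)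
    (s : Finset (Fin k)) (hc : ∀ j ∈ s, ∀ a b, a ≠ 0 → b ≠ 0 → e' v j a = e' v j b) :
    ∃ w ∈ closure {x | ∃ j ∈ s, z j = x}, (∀ i ∈ s, e' (v * w) i = 0) ∧ ∀ i, i ∉ s → e' (v * w) i = e' v i := by
  classical
  have hcV : ∀ s : Finset (Fin k), closure {x | ∃ j ∈ s, z j = x} ≤ V := by
    intro s
    rw [closure_le]
    rintro _ ⟨j, -, rfl⟩
    exact (hz j).mem
  induction s using Finset.induction_on with
  | empty => exact ⟨1, one_mem _, by simp, fun i _ => by rw [mul_one]⟩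
  | insert i s hi ih =>
    obtain ⟨w, hw, hws, hwn⟩ := ih fun j hj => hc j (Finset.mem_insert_of_mem hj)
    have hwV := hcV s hw
    have hmono : closure {x | ∃ j ∈ s, z j = x} ≤ closure {x | ∃ j ∈ insert i s, z j = x} := by
      refine closure_mono ?_
      rintro _ ⟨j, hj, rfl⟩
      exact ⟨j, Finset.mem_insert_of_mem hj, rfl⟩
    rcases const_cases h.toSy hm hv (hc i (Finset.mem_insert_self _ _)) with h1 | h1
    · refine ⟨w, hmono hw, fun l hl => ?_, fun l hl => ?_⟩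
      · rcases Finset.mem_insert.1 hl with rfl | hl
        · rw [hwn l hi, h1]
        · exact hws l hl
      · exact hwn l fun h => hl (Finset.mem_insert_of_mem h)
    · have hzV := (hz i).mem
      have hvw := mul_mem hv hwV
      refine ⟨w * z i, mul_mem (hmono hw) (subset_closure ⟨i, Finset.mem_insert_self _ _, rfl⟩), fun l hl => ?_,
        fun l hl => ?_⟩
      · rw [← mul_assoc, h.toSy.mul _ hvw _ hzV, Pi.add_apply]
        rcases Finset.mem_insert.1 hl with rfl | hl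
        · rw [hwn l hi]
          funext x
          rw [Pi.add_apply, h1, (hz l).ez]
          simp only [true_and]
          exact CharTwo.add_self_eq_zero _
        · have hli : l ≠ i := fun hc => hi (hc ▸ hl)
          rw [hws l hl, zero_add]
          funext x
          exact (hz i).e_ne hli x
      · have hli : l ≠ i := fun hc => hl (hc ▸ Finset.mem_insert_self _ _)
        rw [← mul_assoc, h.toSy.mul _ hvw _ hzV, Pi.add_apply, hwn l fun h => hl (Finset.mem_insert_of_mem h)]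
        funext x
        rw [Pi.add_apply, (hz i).e_ne hli x, add_zero]

/-- **`v ∈ F_i ⟨z_l : l ≠ i⟩`** if `S ∩ E_l` fixes `v` for `l ≠ i` -/
theorem mem_F_sup (hm : 1 ≤ m) {z : Fin k → G} (hz : ∀ j, IsZ V 0 e' j (z j)) {i : Fin k} {v : G} (hv : v ∈ V)
    (hc : ∀ l, l ≠ i → ∀ g ∈ S, g ∈ EE H V e' l → g * v = v * g) :
    v ∈ FF V e' i ⊔ closure {x | ∃ l, l ≠ i ∧ z l = x} := by
  classical
  obtain ⟨w, hw, hws, -⟩ := mem_closure_of_const h hm hz hv (Finset.univ.erase i)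
    fun j hj => const_of_fix h hv (hc j (Finset.ne_of_mem_erase hj))
  have hw' : w ∈ closure {x | ∃ l, l ≠ i ∧ z l = x} := by
    refine closure_mono ?_ hw
    rintro _ ⟨j, hj, rfl⟩
    exact ⟨j, Finset.ne_of_mem_erase hj, rfl⟩
  have hwV : w ∈ V := by
    refine (closure_le V).2 ?_ hw'
    rintro _ ⟨j, -, rfl⟩
    exact (hz j).mem
  have h1 : v * w ∈ FF V e' i := (mem_FF h.toSy).2 ⟨mul_mem hv hwV, fun l hl =>
    hws l (Finset.mem_erase.2 ⟨hl, Finset.mem_univ _⟩)⟩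
  have h2 : v = v * w * w⁻¹ := by group
  rw [h2]
  exact mul_mem (mem_sup_left h1) (inv_mem (mem_sup_right hw'))

/-- **`C_V(S ∩ E_l : l) = ⟨z_l⟩`** -/
theorem mem_closure_z (hm : 1 ≤ m) {z : Fin k → G} (hz : ∀ j, IsZ V 0 e' j (z j)) {v : G} (hv : v ∈ V)
    (hc : ∀ l, ∀ g ∈ S, g ∈ EE H V e' l → g * v = v * g) : v ∈ closure (Set.range z) := by
  classical
  obtain ⟨w, hw, hws, -⟩ := mem_closure_of_const h hm hz hv Finset.univ fun j _ => const_of_fix h hv (hc j)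
  have hw' : w ∈ closure (Set.range z) := by
    refine closure_mono ?_ hw
    rintro _ ⟨j, -, rfl⟩
    exact ⟨j, rfl⟩
  have hwV : w ∈ V := by
    refine (closure_le V).2 ?_ hw'
    rintro _ ⟨j, rfl⟩
    exact (hz j).mem
  have h1 : v * w = 1 := by
    refine ext h.toSy (mul_mem hv hwV) (one_mem V) ?_
    rw [h.toSy.e_one]
    funext i
    exact hws i (Finset.mem_univ _)
  rw [eq_inv_of_mul_eq_one_left h1]
  exact inv_mem hw'

/-- **No offender in a 2-group normalised by the `E_c ∩ C(z_c)`.** -/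
theorem offO (hm : 2 ≤ m) {D : Subgroup G} (N : SymKM S H V D k m) (hN : N.e = e') {z : Fin k → G}
    (hz : ∀ j, IsZ V 0 e' j (z j)) {R A : Subgroup G} (hRS : R ≤ S)
    (hn : ∀ c, ∀ g ∈ EE H V e' c, g * z c = z c * g → ∀ x ∈ R, g * x * g⁻¹ ∈ R) (hAR : A ≤ R) (hA : OffM V A) :
    False := by
  subst hN
  obtain ⟨-, h1⟩ := N.offM A (hAR.trans hRS) hA
  obtain ⟨a, ha, v, hv, hav⟩ : ∃ a ∈ A, ∃ v ∈ V, a * v ≠ v * a := by
    by_contra hcon
    push Not at hcon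
    exact hA.ne fun a ha => mem_centralizer_iff.2 fun v hv => (hcon a ha v hv).symm
  obtain ⟨τ, hτ, hτ'⟩ := h1 a ha
  have haS := hRS (hAR ha)
  have haH := h.TH haS
  obtain ⟨i, x, hx⟩ : ∃ i x, τ i x ≠ x := by
    by_contra hcon
    push Not at hcon
    apply hav
    rw [comm_iff h.toSy haH hv]
    funext i x
    have h2 := hτ v hv i x
    rwa [Equiv.Perm.one_apply, hcon i x] at h2
  obtain ⟨-, b, hb, hb'⟩ := hτ' i x hx
  have h0 : τ i 0 = 0 := h.fix0 a haS 1 τ hτ i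
  have hx0 : x ≠ 0 := fun hc => hx (by rw [hc, h0])
  have hy0 : τ i x ≠ 0 := fun hc => hx0 ((τ i).injective (hc.trans h0.symm))
  set y := τ i x with hy
  have hbR := hAR hb
  have hbH := h.TH (hRS hbR)
  have hbd : Gd H V ⊥ N.e (Pi.mulSingle i (Equiv.swap x y)) b := gd_mk hbH hb'
  obtain ⟨c, hc0, hcx, hcy⟩ := exists_pt h hm 0 x y
  obtain ⟨g, hg, hgd⟩ := exists_E h.toSy i (Equiv.swap x c)
  have hgz : g * z i = z i * g := (fix_z h.toSy (hz i) hgd).2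
    (Equiv.swap_apply_of_ne_of_ne (Ne.symm hx0) (Ne.symm hc0))
  have hbR' := hn i g hg hgz b hbR
  have h2 := h.toSy.gd_conj_single hgd.mem hgd.act hbd
  rw [Equiv.Perm.one_apply, Pi.mulSingle_eq_same, ← Equiv.swap_apply_apply, Equiv.swap_apply_left,
    Equiv.swap_apply_of_ne_of_ne hx (Ne.symm hcy)] at h2
  have h3 := h.toSy.gd_mul hbd h2
  rw [← Pi.mulSingle_mul] at h3
  have h4 := mul_mem hbR hbR'
  obtain ⟨M, hM⟩ := h.Tp ⟨_, hRS h4⟩
  have hM' : (b * (g * b * g⁻¹)) ^ 2 ^ M = 1 := by simpa using congrArg Subtype.val hM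
  have h5 := h.toSy.gd_pow h3 (2 ^ M)
  rw [hM', ← Pi.mulSingle_pow] at h5
  have h6 := congrFun (h.toSy.gd_unique h5 h.toSy.gd_one) i
  rw [Pi.mulSingle_eq_same, Pi.one_apply] at h6
  have h7 : (Equiv.swap y x * Equiv.swap y c).IsThreeCycle :=
    Equiv.Perm.isThreeCycle_swap_mul_swap_same hx (Ne.symm hcy) (Ne.symm hcx)
  have h8 := h7.orderOf
  rw [Equiv.swap_comm x y, Equiv.swap_comm c y] at h6
  have h9 := orderOf_dvd_of_pow_eq_one h6
  rw [h8] at h9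
  have h10 := Nat.Prime.dvd_of_dvd_pow Nat.prime_three h9
  omega

end syl

end Cfsg.Agent.Omega.NO3S.ESym.CoordT
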