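import Cfsg.Agent.Omega.NO3S.ESym.Frame
import Cfsg.Agent.Omega.NO3S.ESym.EvenMod

/-!
# `SymManyL`, case (E), the heavy frame `SF`: `N_G(B)` and the FF-blocks over `B` (helper266)

* `B_eq`, `d_mem`, `d_sq`, `d_ne`, `d_inj`, `Z_eq`, `mem_Z`, `d_V`, `W_V`, `fbl` : easy facts;
* `B_gd` : `b ∈ B` acts on `V` with trivial block permutation;
* `L_BE` : `L i ⊆ B E (J i)`;
* `uniE` : an FF-block `(L', V')` over `B` has `V' = W i`, `L' ⊆ B E (J i) C_G(W i ZJ)`, and `L'` moves `d i`;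
* `NB` : `g ∈ N_G(B)` permutes the `d i` and the `W i`; `NB_V` : `N_G(B) ≤ N_G(V)`;
* `NB_z` : `g z_j g⁻¹ = z_j` iff the permutation preserves `J⁻¹(j)`; `NB_F` : then `g` normalises `F j`; `NB_F'` : and `F i`,
  `i ≠ j`, are permuted inside `⨆_{i ≠ j} F i`.
-/

set_option autoImplicit false
set_option linter.unusedSectionVars false

namespace Cfsg.Agent.Omega.NO3S.ESym

open Subgroup Cfsg Cfsg.Agent.ZN.ChoiceBase Cfsg.Agent.ZN.ChoiceSit
open Cfsg.Agent.ZN (jj zj bau zc zl o2)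
open Cfsg.Agent.Omega.FFThm (ActsSym SymK SymKM)
open Cfsg.Agent.Omega.FrameFF (cv)
open Cfsg.Agent.Omega.SQ1.FFSym (u Gd)
open Cfsg.Agent.Omega.OM
open Cfsg.Agent.Omega.OM.Lev.SymIn (SyL)
open Cfsg.Agent.Omega.OM.Lev.SymIn.SyL (Ch)
open Cfsg.Agent.Omega.OM.Lev.Sym (SymOut)
open Cfsg.Agent.Omega.OM.Lev.SIn (Blk)
open Cfsg.Agent.Omega.OM.Lev.Uni (FrL)
open Cfsg.Agent.Omega.SQ1.Bau (mem_sup_norm)
open Cfsg.Agent.Omega.Node.MultiOf
open scoped Pointwise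

universe w

variable {G : Type w} [Group G] [Finite G] {S : Sylow 2 G} {P : Subgroup G}

namespace SF

variable (h : SF S P)

/-! ### Easy facts -/

theorem lb : LevD.LB S h.K h.B h.ZJ := h.stg.lb

theorem B_eq : h.B = (S : Subgroup G) ⊓ centralizer (h.ZJ : Set G) := h.lb.eqB

theorem B_S : h.B ≤ (S : Subgroup G) := by
  rw [h.B_eq]
  exact inf_le_left

theorem d_V (i : h.ι) : h.d i ∈ h.V := h.sy.u_mem _ _ _

theorem d_sq (i : h.ι) : h.d i ^ 2 = 1 := h.sy.sq _ (h.d_V i)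

theorem d_ne (i : h.ι) : h.d i ≠ 1 := h.sy.u_ne (h.ch.tr i).1

theorem d_inj {i j : h.ι} (e : h.d i = h.d j) : i = j := h.ch.inj i j e

theorem W_V (i : h.ι) : h.W i ≤ h.V := h.sy.NN_le _ _ _ _

/-- `z ∈ ⟨d i⟩` -/
theorem mem_zpowers_d {i : h.ι} {x : G} : x ∈ zpowers (h.d i) ↔ x = 1 ∨ x = h.d i := by
  constructor
  · rintro ⟨n, rfl⟩
    change h.d i ^ n = 1 ∨ h.d i ^ n = h.d i
    have h2 : h.d i ^ (2 : ℤ) = 1 := by
      rw [show (2 : ℤ) = ((2 : ℕ) : ℤ) from rfl, zpow_natCast]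
      exact h.d_sq i
    rcases Int.even_or_odd' n with ⟨c, hc | hc⟩
    · left
      rw [hc, zpow_mul, h2, one_zpow]
    · right
      rw [hc, zpow_add, zpow_mul, h2, one_zpow, one_mul, zpow_one]
  · rintro (rfl | rfl)
    · exact one_mem _
    · exact mem_zpowers _

/-- `⟨d i⟩ = C_{W i}(B)` -/
theorem mem_Z {i : h.ι} {x : G} : x ∈ zpowers (h.d i) ↔ x ∈ h.W i ∧ ∀ b ∈ h.B, b * x = x * b :=
  (h.frl.blk i).toMd.mem_Z_iff

theorem d_W (i : h.ι) : h.d i ∈ h.W i := (h.mem_Z.1 (mem_zpowers _)).1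

theorem B_d {b : G} (hb : b ∈ h.B) (i : h.ι) : b * h.d i = h.d i * b := (h.mem_Z.1 (mem_zpowers _)).2 b hb

theorem d_ZJ (i : h.ι) : h.d i ∈ h.ZJ := h.frl.Z_le i (mem_zpowers _)

theorem B_Z_comm {i : h.ι} {b : G} (hb : b ∈ h.B) : b * h.d i * b⁻¹ = h.d i := by
  rw [h.B_d hb]; group

theorem block (i : h.ι) : LemmaK.Block 2 h.B (h.L i) (h.W i) :=
  (h.frl.blk i).toBlock (h.frl.cardZ i) h.lb.Bp h.lb.weakNormal

theorem fbl (i : h.ι) : FBl h.B (h.L i) (h.W i) := ⟨⟨_, _, h.frl.blk i⟩, h.block i⟩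

/-- coordinates of `d i` -/
theorem e_d (i : h.ι) (j : Fin h.k) (x : Fin (2 ^ h.m + 1)) :
    h.N.e (h.d i) j x = if j = h.J i ∧ (x = h.X i ∨ x = h.X' i) then 1 else 0 := by
  have h1 : h.N.e (h.d i) = SQ1.FFSym.E (h.J i) (h.X i) + SQ1.FFSym.E (h.J i) (h.X' i) := h.sy.e_u _ _ _
  rw [h1, Pi.add_apply, Pi.add_apply]
  have hne : h.X i ≠ h.X' i := (h.ch.tr i).1
  simp only [SQ1.FFSym.E]
  by_cases hj : j = h.J i
  · by_cases hx : x = h.X i
    · have hy : x ≠ h.X' i := fun e => hne (hx.symm.trans e)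
      simp [hj, hx, hne]
    · by_cases hy : x = h.X' i
      · have : h.X' i ≠ h.X i := hne.symm
        simp [hj, hy, this]
      · simp [hj, hx, hy]
  · simp [hj]

/-! ### The action of `B` -/

/-- `b ∈ B` acts with trivial block permutation -/
theorem B_gd {b : G} (hb : b ∈ h.B) : ∃ τ, Gd P h.V ⊥ h.N.e τ b := by
  have h0 : h.B ≤ closure (Set.range h.t) ⊔ o2 P := by
    rw [h.B_eq]
    have h1 := h.out.bau.bau_EE
    refine le_trans (inf_le_inf_left _ (centralizer_le ?_)) h1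
    intro x hx
    have h2 : x ∈ closure (Set.range fun i => u P (zl (S : Subgroup G) P) ⊥ h.N.e (h.J i) (h.X i) (h.X' i)) := by
      rw [← h.out.ZJ_eq]
      exact hx
    have h3 : closure (Set.range fun i => u P (zl (S : Subgroup G) P) ⊥ h.N.e (h.J i) (h.X i) (h.X' i)) ≤ h.ZJ := by
      rw [closure_le]
      rintro _ ⟨i, rfl⟩
      exact h.d_ZJ i
    exact h3 h2
  let R : Subgroup G :=
    { carrier := {g | ∃ τ, Gd P h.V ⊥ h.N.e τ g}
      one_mem' := ⟨1, h.sy.gd_one⟩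
      mul_mem' := by
        rintro a c ⟨τ, h1⟩ ⟨τ', h2⟩
        exact ⟨_, h.sy.gd_mul h1 h2⟩
      inv_mem' := by
        rintro a ⟨τ, h1⟩
        exact ⟨_, h.sy.gd_inv h1⟩ }
  have h1 : closure (Set.range h.t) ⊔ o2 P ≤ R := by
    refine sup_le ?_ ?_
    · rw [closure_le]
      rintro _ ⟨i, rfl⟩
      exact ⟨_, h.ch.tg i⟩
    · intro q hq
      refine ⟨1, h.sy.TH (h.sy.QT hq), fun d hd => ?_, fun v hv i x => ?_⟩
      · rw [mem_bot.1 hd, one_mul, mul_one]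
      · have h2 : q * v * q⁻¹ = v := by
          rw [h.sy.VcQ q hq v hv]; group
        rw [h2]
        rfl
  exact h1 (h0 hb)

/-- membership in `E j` -/
theorem mem_EE' {j : Fin h.k} {g : G} : g ∈ h.E j ↔ ∃ π, Gd P h.V ⊥ h.N.e (Pi.mulSingle j π) g := by
  constructor
  · intro hg
    let R : Subgroup G :=
      { carrier := {g | ∃ π, Gd P h.V ⊥ h.N.e (Pi.mulSingle j π) g}
        one_mem' := ⟨1, by rw [Pi.mulSingle_one]; exact h.sy.gd_one⟩
        mul_mem' := by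
          rintro a c ⟨π, h1⟩ ⟨π', h2⟩
          exact ⟨π * π', by rw [Pi.mulSingle_mul]; exact h.sy.gd_mul h1 h2⟩
        inv_mem' := by
          rintro a ⟨π, h1⟩
          exact ⟨π⁻¹, by rw [Pi.mulSingle_inv]; exact h.sy.gd_inv h1⟩ }
    have h1 : h.E j ≤ R := by
      refine (closure_le _).2 ?_
      rintro g ⟨hg, π, hπ⟩
      exact ⟨π, hg, fun d hd => by rw [mem_bot.1 hd, one_mul, mul_one], hπ⟩
    exact h1 hg
  · rintro ⟨π, hπ⟩
    exact subset_closure ⟨hπ.mem, π, hπ.act⟩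

theorem E_P (j : Fin h.k) : h.E j ≤ P := fun _ hg => by
  obtain ⟨π, hπ⟩ := h.mem_EE'.1 hg
  exact hπ.mem

/-- `B` normalises `E j` -/
theorem B_NE (j : Fin h.k) : h.B ≤ normalizer (h.E j : Set G) := by
  intro b hb
  have key : ∀ b ∈ h.B, ∀ x ∈ h.E j, b * x * b⁻¹ ∈ h.E j := by
    intro b hb x hx
    obtain ⟨τ, hτ⟩ := h.B_gd hb
    obtain ⟨π, hπ⟩ := h.mem_EE'.1 hx
    have h1 := h.sy.gd_conj_single hτ.mem hτ.act hπ
    rw [Equiv.Perm.one_apply] at h1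
    exact h.mem_EE'.2 ⟨_, h1⟩
  rw [mem_normalizer_iff]
  intro x
  refine ⟨key b hb x, fun hx => ?_⟩
  have h1 := key b⁻¹ (inv_mem hb) _ hx
  have h2 : b⁻¹ * (b * x * b⁻¹) * b⁻¹⁻¹ = x := by group
  rwa [h2] at h1

theorem CV_E (j : Fin h.k) : P ⊓ centralizer (h.V : Set G) ≤ h.E j := by
  rintro g ⟨hg, hc⟩
  refine h.mem_EE'.2 ⟨1, hg, fun d hd => by rw [mem_bot.1 hd, one_mul, mul_one], ?_⟩
  rw [Pi.mulSingle_one]
  intro v hv i x
  have h1 : g * v * g⁻¹ = v := by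
    rw [← mem_centralizer_iff.1 hc v hv]; group
  rw [h1]
  rfl

/-- **`L i ⊆ B E (J i)`** -/
theorem L_BE {i : h.ι} {l : G} (hl : l ∈ h.L i) : ∃ b ∈ h.B, ∃ x ∈ h.E (h.J i), l = b * x := by
  have h1 := (h.blk i).LP hl
  have h2 : Lev.SIn.PP P (S : Subgroup G) (zl (S : Subgroup G) P) h.ZJ (h.r i) ≤ h.B ⊔ h.E (h.J i) := by
    refine sup_le (sup_le ?_ ?_) ?_
    · have : Lev.SIn.BB (S : Subgroup G) h.ZJ = h.B := h.B_eq.symm
      rw [this]
      exact le_sup_left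
    · rw [zpowers_le]
      exact le_sup_right (a := h.B) (h.mem_EE'.2 ⟨_, h.ch.rg i⟩)
    · exact (h.CV_E _).trans le_sup_right
  exact mem_sup_norm (h.B_NE _) (h2 h1)

/-! ### FF-blocks over `B` -/

/-- `L i` normalises `W i ZJ` -/
theorem L_NWZ (i : h.ι) : h.L i ≤ normalizer ((h.W i ⊔ h.ZJ : Subgroup G) : Set G) := by
  have key : ∀ l ∈ h.L i, ∀ x ∈ h.W i ⊔ h.ZJ, l * x * l⁻¹ ∈ h.W i ⊔ h.ZJ := by
    intro l hl x hx
    have hn : h.W i ⊔ h.ZJ ≤ (h.W i ⊔ h.ZJ).comap (MulAut.conj l).toMonoidHom := by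
      refine sup_le ?_ ?_
      · intro w hw
        have h2 : l * w * l⁻¹ ∈ h.W i := (h.frl.blk i).nV l hl w hw
        exact le_sup_left (a := h.W i) (b := h.ZJ) h2
      · intro z hz
        obtain ⟨w, hw, c, hc, hcJ, e⟩ := h.frl.split_ZJ i hz
        have h1 : l * c * l⁻¹ = c := by
          rw [h.frl.LC i l hl c hcJ hc]; group
        have h2 : l * z * l⁻¹ = (l * w * l⁻¹) * c := by
          rw [e]
          calc l * (w * c) * l⁻¹ = (l * w * l⁻¹) * (l * c * l⁻¹) := by group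
            _ = _ := by rw [h1]
        change l * z * l⁻¹ ∈ h.W i ⊔ h.ZJ
        rw [h2]
        have h3 : l * w * l⁻¹ ∈ h.W i := (h.frl.blk i).nV l hl w ((h.frl.blk i).ZV hw)
        exact mul_mem (le_sup_left (a := h.W i) (b := h.ZJ) h3) (le_sup_right (a := h.W i) (b := h.ZJ) hcJ)
    exact hn hx
  intro l hl
  rw [mem_normalizer_iff]
  intro x
  refine ⟨key l hl x, fun hx => ?_⟩
  have h1 := key l⁻¹ (inv_mem hl) _ hx
  have h2 : l⁻¹ * (l * x * l⁻¹) * l⁻¹⁻¹ = x := by group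
  rwa [h2] at h1

/-- `⟨d i⟩ = C_{V'}(B)` for an FF-block `(L', W i)` -/
theorem Z_of_fb {i : h.ι} {L' Z' : Subgroup G} {q : ℕ} (hF : OM.Uni.FB h.B L' (h.W i) Z' q) : Z' = zpowers (h.d i) := by
  ext x
  rw [hF.toMd.mem_Z_iff, h.mem_Z]

/-- **the FF-blocks over `B`** -/
theorem uniE {L' V' : Subgroup G} (hb : FBl h.B L' V') : ∃ i, V' = h.W i ∧
    (∀ l ∈ L', ∃ b ∈ h.B, ∃ x ∈ h.E (h.J i), ∃ c ∈ centralizer ((h.W i ⊔ h.ZJ : Subgroup G) : Set G), l = b * x * c) ∧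
    ∃ l ∈ L', l * h.d i * l⁻¹ ≠ h.d i := by
  obtain ⟨i, hV, hle⟩ := h.uni L' V' hb
  refine ⟨i, hV, fun l hl => ?_, ?_⟩
  · obtain ⟨a, ha, c, hc, e⟩ := mem_sup_norm ((h.L_NWZ i).trans (NO3L.LemP.normalizer_le_normalizer_cent _)) (hle hl)
    obtain ⟨b, hb', x, hx, e'⟩ := h.L_BE ha
    exact ⟨b, hb', x, hx, c, hc, by rw [e, e']⟩
  · obtain ⟨⟨Z', q', hF⟩, -⟩ := hb
    have hV' : V' = h.W i := hV
    subst hV'
    obtain ⟨l, hl, hne, -⟩ := hF.exists_mv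
    refine ⟨l, hl, fun hcon => hne ?_⟩
    rw [h.Z_of_fb hF]
    ext x
    rw [mem_cj, h.mem_zpowers_d, h.mem_zpowers_d]
    constructor
    · rintro (h1 | h1)
      · left
        have : x = l * (l⁻¹ * x * l) * l⁻¹ := by group
        rw [this, h1]; group
      · right
        have : x = l * (l⁻¹ * x * l) * l⁻¹ := by group
        rw [this, h1, hcon]
    · rintro (h1 | h1)
      · left
        rw [h1]; group
      · right
        have : l⁻¹ * h.d i * l = l⁻¹ * (l * h.d i * l⁻¹) * l := by rw [hcon]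
        rw [h1, this]; group

/-- **`N_G(B)` permutes the light blocks** -/
theorem NB {g : G} (hg : g ∈ normalizer (h.B : Set G)) :
    ∃ π : Equiv.Perm h.ι, ∀ i, g * h.d i * g⁻¹ = h.d (π i) ∧ cj g (h.W i) = h.W (π i) := by
  have := h.fi
  have h1 : ∀ i, ∃ j, cj g (h.W i) = h.W j ∧ g * h.d i * g⁻¹ = h.d j := by
    intro i
    obtain ⟨j, hj, -⟩ := h.uni _ _ ((h.fbl i).conj hg)
    have hj' : cj g (h.W i) = h.W j := hj
    refine ⟨j, hj', ?_⟩
    have h2 : g * h.d i * g⁻¹ ∈ zpowers (h.d j) := by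
      rw [h.mem_Z]
      refine ⟨?_, fun b hb => ?_⟩
      · rw [← hj']
        exact ⟨h.d i, h.d_W i, rfl⟩
      · have h3 : g⁻¹ * b * g ∈ h.B := by
          have := (mem_normalizer_iff.1 (inv_mem hg) b).1 hb
          rwa [inv_inv] at this
        have h4 := h.B_d h3 i
        calc b * (g * h.d i * g⁻¹) = g * ((g⁻¹ * b * g) * h.d i) * g⁻¹ := by group
          _ = g * (h.d i * (g⁻¹ * b * g)) * g⁻¹ := by rw [h4]
          _ = _ := by group
    rcases h.mem_zpowers_d.1 h2 with h3 | h3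
    · exfalso
      apply h.d_ne i
      have : h.d i = g⁻¹ * (g * h.d i * g⁻¹) * g := by group
      rw [this, h3]; group
    · exact h3
  choose π hπ using h1
  have hinj : Function.Injective π := by
    intro i j hij
    have h2 := (hπ i).2
    rw [hij, ← (hπ j).2] at h2
    exact h.d_inj (by
      have h3 : g⁻¹ * (g * h.d i * g⁻¹) * g = g⁻¹ * (g * h.d j * g⁻¹) * g := by rw [h2]
      have e1 : g⁻¹ * (g * h.d i * g⁻¹) * g = h.d i := by group
      have e2 : g⁻¹ * (g * h.d j * g⁻¹) * g = h.d j := by group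
      rwa [e1, e2] at h3)
  refine ⟨Equiv.ofBijective π (Finite.injective_iff_bijective.1 hinj), fun i => ⟨(hπ i).2, (hπ i).1⟩⟩

/-- `V = ⟨W i⟩` -/
theorem V_W : h.V = ⨆ i, h.W i := h.out.V_eq

/-- `N_G(B) ≤ N_G(V)` -/
theorem NB_V : normalizer (h.B : Set G) ≤ normalizer (h.V : Set G) := by
  have key : ∀ g ∈ normalizer (h.B : Set G), ∀ v ∈ h.V, g * v * g⁻¹ ∈ h.V := by
    intro g hg
    obtain ⟨π, hπ⟩ := h.NB hg
    have h1 : h.V ≤ h.V.comap (MulAut.conj g).toMonoidHom := by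
      conv_lhs => rw [h.V_W]
      refine iSup_le fun i w hw => ?_
      have h2 : g * w * g⁻¹ ∈ h.W (π i) := by
        rw [← (hπ i).2]
        exact ⟨w, hw, rfl⟩
      exact h.W_V _ h2
    exact fun v hv => h1 hv
  intro g hg
  rw [mem_normalizer_iff]
  intro v
  refine ⟨key g hg v, fun hv => ?_⟩
  have h1 := key g⁻¹ (inv_mem hg) _ hv
  have h2 : g⁻¹ * (g * v * g⁻¹) * g⁻¹⁻¹ = v := by group
  rwa [h2] at h1

end SF

end Cfsg.Agent.Omega.NO3S.ESym
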