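import Cfsg.Agent.Omega.NO3S.ESym.FactsB
import Cfsg.Agent.Omega.NO3S.ESym.Coord

/-!
# `SymManyL`, case (E), the heavy frame `SF`: pairs, heavy vectors and `N_G(B)` (helper266)

* `exists_pair`, `pair_unique` : the letters `≠ 0` of the block `j` are partitioned by the pairs;
* `e_z` : `z_j` is the sum of the `d i`, `J i = j`;  `W_F` : `W i ≤ F (J i)`, `F_W` : `F j = ⟨W i : J i = j⟩`;
* `NB_z` : `g ∈ N_G(B)` acts as `π`: `g z_j g⁻¹ = z_j` iff `π` preserves `J⁻¹(j)`; `NB_F` : then `g` normalises `F j`;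
  `NB_F'` : and `⨆_{i ≠ j} F i`.
-/

set_option autoImplicit false
set_option linter.unusedSectionVars false

namespace Cfsg.Agent.Omega.NO3S.ESym

open Subgroup Cfsg Cfsg.Agent.ZN.ChoiceBase Cfsg.Agent.ZN.ChoiceSit
open Cfsg.Agent.ZN (jj zj bau zc zl o2)
open Cfsg.Agent.Omega.FFThm (ActsSym SymK SymKM)
open Cfsg.Agent.Omega.FrameFF (cv)
open Cfsg.Agent.Omega.SQ1.FFSym (u Gd)
open Cfsg.Agent.Omega.OM
open Cfsg.Agent.Omega.OM.Lev.SymIn (SyL)
open Cfsg.Agent.Omega.OM.Lev.SymIn.SyL (Ch)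
open Cfsg.Agent.Omega.SQ1.Bau (mem_sup_norm)
open Cfsg.Agent.Omega.Node.MultiOf
open scoped Pointwise

universe w

variable {G : Type w} [Group G] [Finite G] {S : Sylow 2 G} {P : Subgroup G}

namespace SF

variable (h : SF S P)

/-! ### Pairs -/

theorem X_ne (i : h.ι) : h.X i ≠ h.X' i := (h.ch.tr i).1

theorem X_zero (i : h.ι) : h.X i ≠ 0 ∧ h.X' i ≠ 0 :=
  ⟨((h.ch.tr i).ne h.sy).1.symm, ((h.ch.tr i).ne h.sy).2.symm⟩

theorem exists_pair (j : Fin h.k) {x : Fin (2 ^ h.m + 1)} (hx : x ≠ 0) :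
    ∃ i, h.J i = j ∧ (x = h.X i ∨ x = h.X' i) := by
  obtain ⟨y, hy⟩ := h.sy.cover Cfsg.Agent.Omega.SQ1.SymCyc.exists_pow j hx
  obtain ⟨i, h1, -, -, h2⟩ := h.ch.exists_idx h.sy hy
  refine ⟨i, h1, ?_⟩
  rcases h2 with ⟨h2, -⟩ | ⟨-, h2⟩
  · exact Or.inl h2.symm
  · exact Or.inr h2.symm

theorem pair_unique {i i' : h.ι} (hJ : h.J i = h.J i') {x : Fin (2 ^ h.m + 1)} (hx : x = h.X i ∨ x = h.X' i)
    (hx' : x = h.X i' ∨ x = h.X' i') : i = i' := by
  by_contra hne
  obtain ⟨h1, h2, h3, h4⟩ := h.ch.cases h.sy hne hJ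
  rcases hx with rfl | rfl <;> rcases hx' with hx' | hx'
  · exact h1 hx'
  · exact h2 hx'
  · exact h3 hx'
  · exact h4 hx'

/-- the value of `d i` at a letter of the pair `a` -/
theorem e_d_at (i a : h.ι) {x : Fin (2 ^ h.m + 1)} (hx : x = h.X a ∨ x = h.X' a) [Decidable (i = a)] :
    h.N.e (h.d i) (h.J a) x = if i = a then 1 else 0 := by
  rw [h.e_d]
  by_cases hia : i = a
  · subst hia
    rw [if_pos ⟨rfl, hx⟩, if_pos rfl]
  · rw [if_neg hia, if_neg]
    rintro ⟨h1, h2⟩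
    exact hia (h.pair_unique h1.symm h2 hx)

theorem e_d_zero (i : h.ι) (j : Fin h.k) : h.N.e (h.d i) j 0 = 0 := by
  rw [h.e_d, if_neg]
  rintro ⟨-, h1 | h1⟩
  · exact (h.X_zero i).1 h1.symm
  · exact (h.X_zero i).2 h1.symm

/-- the value of a sum of light pairs -/
theorem sum_at [DecidableEq h.ι] (s : Finset h.ι) (a : h.ι) {x : Fin (2 ^ h.m + 1)} (hx : x = h.X a ∨ x = h.X' a) :
    (∑ i ∈ s, h.N.e (h.d i)) (h.J a) x = if a ∈ s then 1 else 0 := by
  rw [Finset.sum_apply, Finset.sum_apply, Finset.sum_congr rfl fun i _ => h.e_d_at i a hx,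
    Finset.sum_ite_eq']

/-- two vectors with value 0 at `∞` which agree at the pairs -/
theorem e_ext {y y' : Fin h.k → Fin (2 ^ h.m + 1) → ZMod 2} (h0 : ∀ j, y j 0 = y' j 0)
    (h1 : ∀ a x, (x = h.X a ∨ x = h.X' a) → y (h.J a) x = y' (h.J a) x) : y = y' := by
  funext j x
  by_cases hx : x = 0
  · rw [hx, h0]
  · obtain ⟨a, rfl, ha⟩ := h.exists_pair j hx
    exact h1 a x ha

/-- `z_j` is the product of the light pairs of the block `j` -/
theorem e_z (j : Fin h.k) (s : Finset h.ι) (hs : ∀ i, i ∈ s ↔ h.J i = j) :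
    h.N.e (h.z j) = ∑ i ∈ s, h.N.e (h.d i) := by
  classical
  refine h.e_ext (fun l => ?_) fun a x hx => ?_
  · rw [h.ez, if_neg (fun hc => hc.2 rfl), Finset.sum_apply, Finset.sum_apply,
      Finset.sum_eq_zero fun i _ => h.e_d_zero i l]
  · rw [h.sum_at s a hx, h.ez]
    have hx0 : x ≠ 0 := by
      rcases hx with rfl | rfl
      · exact (h.X_zero a).1
      · exact (h.X_zero a).2
    by_cases ha : h.J a = j
    · rw [if_pos ⟨ha, hx0⟩, if_pos ((hs a).2 ha)]
    · rw [if_neg fun hc => ha hc.1, if_neg fun hc => ha ((hs a).1 hc)]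

/-- products of light pairs -/
theorem exists_prod {g : G} {π : Equiv.Perm h.ι} (hg : ∀ v ∈ h.V, g * v * g⁻¹ ∈ h.V)
    (hπ : ∀ i, g * h.d i * g⁻¹ = h.d (π i)) (s : Finset h.ι) :
    ∃ v ∈ h.V, h.N.e v = ∑ i ∈ s, h.N.e (h.d i) ∧ h.N.e (g * v * g⁻¹) = ∑ i ∈ s, h.N.e (h.d (π i)) := by
  classical
  induction s using Finset.induction_on with
  | empty =>
    refine ⟨1, one_mem _, ?_, ?_⟩
    · rw [Finset.sum_empty, h.sy.e_one]
    · rw [Finset.sum_empty, mul_one, mul_inv_cancel, h.sy.e_one]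
  | insert i s hi ih =>
    obtain ⟨v, hv, h1, h2⟩ := ih
    refine ⟨h.d i * v, mul_mem (h.d_V i) hv, ?_, ?_⟩
    · rw [h.sy.mul _ (h.d_V i) _ hv, h1, Finset.sum_insert hi]
    · have e1 : g * (h.d i * v) * g⁻¹ = h.d (π i) * (g * v * g⁻¹) := by
        rw [← hπ]; group
      rw [e1, h.sy.mul _ (h.d_V _) _ (hg v hv), h2, Finset.sum_insert hi]

/-- **`g ∈ N_G(B)` fixes `z_j` iff it preserves the pairs of the block `j`** -/
theorem NB_z {g : G} {π : Equiv.Perm h.ι} (hg : ∀ v ∈ h.V, g * v * g⁻¹ ∈ h.V)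
    (hπ : ∀ i, g * h.d i * g⁻¹ = h.d (π i)) (j : Fin h.k) :
    g * h.z j * g⁻¹ = h.z j ↔ ∀ i, h.J (π i) = j ↔ h.J i = j := by
  classical
  have := h.fi
  have := Fintype.ofFinite h.ι
  set s : Finset h.ι := Finset.univ.filter fun i => h.J i = j with hs
  have hs' : ∀ i, i ∈ s ↔ h.J i = j := by
    intro i
    rw [hs, Finset.mem_filter]
    exact ⟨fun h => h.2, fun h => ⟨Finset.mem_univ _, h⟩⟩
  obtain ⟨v, hv, h1, h2⟩ := h.exists_prod hg hπ s
  have hvz : v = h.z j := Coord.eq_of_e h.sy.toSy hv (h.zV j) (h1.trans (h.e_z j s hs').symm)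
  subst hvz
  have h3 : ∑ i ∈ s, h.N.e (h.d (π i)) = ∑ i ∈ s.map π.toEmbedding, h.N.e (h.d i) := by
    rw [Finset.sum_map]
    rfl
  have h4 : g * h.z j * g⁻¹ = h.z j ↔ s.map π.toEmbedding = s := by
    constructor
    · intro he
      rw [he, h1, h3] at h2
      ext a
      have h5 := congrFun (congrFun h2 (h.J a)) (h.X a)
      rw [h.sum_at s a (Or.inl rfl), h.sum_at _ a (Or.inl rfl)] at h5
      by_cases ha : a ∈ s <;> by_cases ha' : a ∈ s.map π.toEmbedding
      · exact ⟨fun _ => ha, fun _ => ha'⟩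
      · rw [if_pos ha, if_neg ha'] at h5
        exact absurd h5 (by decide)
      · rw [if_neg ha, if_pos ha'] at h5
        exact absurd h5 (by decide)
      · exact ⟨fun h => absurd h ha', fun h => absurd h ha⟩
    · intro he
      refine Coord.eq_of_e h.sy.toSy (hg _ hv) hv ?_
      rw [h2, h3, he, h1]
  rw [h4]
  constructor
  · intro he i
    rw [← hs', ← hs']
    constructor
    · intro h5
      rw [← he, Finset.mem_map] at h5
      obtain ⟨i', hi', e⟩ := h5
      have : i' = i := π.injective e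
      rwa [this] at hi'
    · intro h5
      rw [← he, Finset.mem_map]
      exact ⟨i, h5, rfl⟩
  · intro he
    ext a
    rw [Finset.mem_map]
    constructor
    · rintro ⟨i, hi, rfl⟩
      exact (hs' _).2 ((he i).2 ((hs' i).1 hi))
    · intro ha
      refine ⟨π.symm a, (hs' _).2 ((he _).1 ?_), π.apply_symm_apply a⟩
      rw [π.apply_symm_apply]
      exact (hs' a).1 ha

/-! ### The factors -/

theorem W_F (i : h.ι) : h.W i ≤ h.F (h.J i) := by
  intro w hw
  refine (Coord.mem_FF h.sy.toSy).2 ⟨h.W_V i hw, fun l hl => ?_⟩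
  have h1 : ∀ a b, ∀ x, h.N.e (u P (zl (S : Subgroup G) P) ⊥ h.N.e (h.J i) a b) l x = 0 := by
    intro a b x
    rw [h.sy.e_u, Pi.add_apply, Pi.add_apply, SQ1.FFSym.E_ne fun hc => hl hc.1,
      SQ1.FFSym.E_ne fun hc => hl hc.1, add_zero]
  funext x
  rcases (h.sy.mem_NN.1 hw) with rfl | rfl | rfl | rfl
  · rw [h.sy.e_one]
    rfl
  · exact h1 _ _ x
  · exact h1 _ _ x
  · exact h1 _ _ x

theorem u_W {i : h.ι} {x : Fin (2 ^ h.m + 1)} (hx : x = h.X i ∨ x = h.X' i) :
    u P (zl (S : Subgroup G) P) ⊥ h.N.e (h.J i) 0 x ∈ h.W i := by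
  rcases hx with rfl | rfl
  · exact Or.inr (Or.inl rfl)
  · exact Or.inr (Or.inr (Or.inl rfl))

/-- `F j = ⟨W i : J i = j⟩` -/
theorem F_W (j : Fin h.k) : h.F j = ⨆ i, ⨆ _ : h.J i = j, h.W i := by
  apply le_antisymm
  · intro v hv
    obtain ⟨hvV, hv0⟩ := (Coord.mem_FF h.sy.toSy).1 hv
    have key : ∀ s : Finset (Fin (2 ^ h.m + 1)), ∃ w ∈ (⨆ i, ⨆ _ : h.J i = j, h.W i : Subgroup G), w ∈ h.V ∧
        h.N.e w = ∑ x ∈ s, (Pi.single j (h.N.e v j x • pr 0 x) : Fin h.k → Fin (2 ^ h.m + 1) → ZMod 2) := by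
      intro s
      classical
      induction s using Finset.induction_on with
      | empty => exact ⟨1, one_mem _, one_mem _, by rw [Finset.sum_empty, h.sy.e_one]⟩
      | insert x s hx ih =>
        obtain ⟨w, hw, hwV, he⟩ := ih
        rw [Finset.sum_insert hx]
        have h01 : h.N.e v j x = 0 ∨ h.N.e v j x = 1 := by
          generalize h.N.e v j x = c
          revert c; decide
        rcases h01 with h0 | h1
        · rw [h0, zero_smul, Pi.single_zero, zero_add]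
          exact ⟨w, hw, hwV, he⟩
        · rw [h1, one_smul]
          by_cases hx0 : x = 0
          · rw [hx0, pr_self, Pi.single_zero, zero_add]
            exact ⟨w, hw, hwV, he⟩
          · obtain ⟨i, hi, hxi⟩ := h.exists_pair j hx0
            have h2 : u P (zl (S : Subgroup G) P) ⊥ h.N.e j 0 x ∈ h.W i := by
              rw [← hi]
              exact h.u_W hxi
            refine ⟨u P (zl (S : Subgroup G) P) ⊥ h.N.e j 0 x * w, mul_mem ?_ hw,
              mul_mem (h.sy.u_mem _ _ _) hwV, ?_⟩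
            · have h3 : h.W i ≤ (⨆ i, ⨆ _ : h.J i = j, h.W i : Subgroup G) :=
                le_iSup₂_of_le i hi le_rfl
              exact h3 h2
            · rw [h.sy.mul _ (h.sy.u_mem _ _ _) _ hwV, he, h.sy.e_u]
              congr 1
              funext l y
              by_cases hl : l = j
              · subst hl
                rw [Pi.single_eq_same]
                simp only [Pi.add_apply, SQ1.FFSym.E, true_and, pr, Pi.single_apply]
              · rw [Pi.single_eq_of_ne hl, Pi.add_apply, Pi.add_apply, SQ1.FFSym.E_ne fun hc => hl hc.1,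
                  SQ1.FFSym.E_ne fun hc => hl hc.1, add_zero]
                rfl
    obtain ⟨w, hw, hwV, he⟩ := key Finset.univ
    have h1 : h.N.e w = h.N.e v := by
      rw [he]
      funext l y
      rw [Finset.sum_apply, Finset.sum_apply]
      by_cases hl : l = j
      · subst hl
        have h2 := congrFun (even_eq (0 : Fin (2 ^ h.m + 1)) (h.sy.even v hvV l)) y
        rw [Finset.sum_apply] at h2
        rw [h2]
        refine Finset.sum_congr rfl fun x _ => ?_
        rw [Pi.single_eq_same]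
      · rw [hv0 l hl]
        refine Finset.sum_eq_zero fun x _ => ?_
        rw [Pi.single_eq_of_ne hl]
        rfl
    rw [← Coord.eq_of_e h.sy.toSy hwV hvV h1]
    exact hw
  · refine iSup_le fun i => iSup_le fun hi => ?_
    rw [← hi]
    exact h.W_F i

/-- `g` normalises `F j` if it preserves the pairs of the block `j` -/
theorem NB_F {g : G} {π : Equiv.Perm h.ι} (hπ : ∀ i, cj g (h.W i) = h.W (π i)) {j l : Fin h.k}
    (hj : ∀ i, h.J i = j → h.J (π i) = l) : cj g (h.F j) ≤ h.F l := by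
  rw [h.F_W j]
  intro x hx
  rw [mem_cj] at hx
  have h1 : (⨆ i, ⨆ _ : h.J i = j, h.W i : Subgroup G) ≤ (h.F l).comap (MulAut.conj g).toMonoidHom := by
    refine iSup_le fun i => iSup_le fun hi => ?_
    intro w hw
    change g * w * g⁻¹ ∈ h.F l
    have h2 : g * w * g⁻¹ ∈ h.W (π i) := by
      rw [← hπ i]
      exact ⟨w, hw, rfl⟩
    have h3 := h.W_F (π i) h2
    rwa [hj i hi] at h3
  have h2 : g * (g⁻¹ * x * g) * g⁻¹ ∈ h.F l := h1 hx
  have h3 : g * (g⁻¹ * x * g) * g⁻¹ = x := by group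
  rwa [h3] at h2

end SF

end Cfsg.Agent.Omega.NO3S.ESym
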