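import Cfsg.Agent.Omega.Node.SymOf
import Cfsg.Agent.Omega.TC.LevFix

/-!
# SymManyL (E): LEMMA FIX for `MulS` at every stage (CARD #20940, #22692, #23106)

* `FixK S P K0` : `K0 ≤ O₂(P)` (`1` at stage `-1`, `lev S n` at stage `n`), `N_G(Y) ≤ N_G(K0)` for `K0 ≤ Y ≤ S`,
  `V_P ≤ C(K0)`, and **LEMMA FIX**: `e ∈ O₂(P)` an involution, `e ∈ C(K0)`, `[e, O₂(P)] ≤ ⟨p⟩`, `p ∈ V_P` implies
  `e ∈ V_P`;
* `fix_gen` : the abstract form, one `A ≤ S` inducing a group of order 2 on `V_P`;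
* `fixK_neg`, `fixK_lev`, **`fixK_of`** (`MulS`, all stages).
-/

set_option autoImplicit false

namespace Cfsg.Agent.Omega.NO3S.ESym

open Subgroup Cfsg Cfsg.Agent.ZN.ChoiceBase Cfsg.Agent.ZN.ChoiceSit
open Cfsg.Agent.ZN (jj zj bau zc zl o2)
open Cfsg.Agent.PLocal.ThompsonJ Cfsg.Agent.PLocal.ElemAbSup
open Cfsg.Agent.Omega.FFThm (SymK SymKM OffM ElemM)
open Cfsg.Agent.Omega.FrameFF (cv)
open Cfsg.Agent.Omega.MinPar (IsPar IsParS)
open Cfsg.Agent.Omega.NO3S (HypL HypN HypJ Hyp PSS)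
open Cfsg.Agent.Omega.NO3S.Level (lev lev_isLev)
open Cfsg.Agent.Omega.OM
open Cfsg.Agent.Omega.OM.Uni (FB Md)
open Cfsg.Agent.Omega.TC (LevFix.Dat)
open Cfsg.Agent.Omega.NO1.BestOff (Best)

universe u

variable {G : Type u} [Group G] [Finite G]

/-- **LEMMA FIX**, with the level `K0`. -/
structure FixK (S : Sylow 2 G) (P K0 : Subgroup G) : Prop where
  le : K0 ≤ o2 P
  nrm : ∀ Y : Subgroup G, K0 ≤ Y → Y ≤ (S : Subgroup G) → normalizer (Y : Set G) ≤ normalizer (K0 : Set G)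
  cen : zl (S : Subgroup G) P ≤ centralizer (K0 : Set G)
  fix : ∀ e ∈ o2 P, e * e = 1 → e ∈ centralizer (K0 : Set G) → ∀ p ∈ zl (S : Subgroup G) P,
    (∀ o ∈ o2 P, o * e * o⁻¹ = e ∨ o * e * o⁻¹ = e * p) → e ∈ zl (S : Subgroup G) P

theorem mul_mem_of_card_le_two {B C : Subgroup G} (hCB : C ≤ B) (hc : Nat.card B ≤ 2 * Nat.card C) {x y : G}
    (hx : x ∈ B) (hxC : x ∉ C) (hy : y ∈ B) (hyC : y ∉ C) : x * y ∈ C := by
  have h1 : (C.subgroupOf B).index * Nat.card C = Nat.card B := by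
    have h := (C.subgroupOf B).index_mul_card
    rwa [Nat.card_congr (subgroupOfEquivOfLe hCB).toEquiv] at h
  have hpos : 0 < Nat.card C := Nat.card_pos
  have h2 : (C.subgroupOf B).index ≤ 2 := by
    refine Nat.le_of_mul_le_mul_right ?_ hpos
    rw [h1]; exact hc
  have h3 : (C.subgroupOf B).index ≠ 1 := by
    intro h
    have h4 : (⟨x, hx⟩ : B) ∈ C.subgroupOf B := by
      rw [index_eq_one.1 h]; exact mem_top _
    exact hxC (mem_subgroupOf.1 h4)
  have h5 : (C.subgroupOf B).index ≠ 0 := index_ne_zero_of_finite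
  have h6 : (C.subgroupOf B).index = 2 := by omega
  have h7 := (mul_mem_iff_of_index_two h6 (a := (⟨x, hx⟩ : B)) (b := (⟨y, hy⟩ : B))).2
    (iff_of_false (fun h => hxC (mem_subgroupOf.1 h)) fun h => hyC (mem_subgroupOf.1 h))
  exact mem_subgroupOf.1 h7

/-- a 2-group `T` fixes a nontrivial element of a nontrivial elementary abelian `M ≤ T`, `T ≤ N(M)` -/
theorem exists_fixed {T M : Subgroup G} (hT : IsPGroup 2 T) (hTM : T ≤ normalizer (M : Set G)) (hM1 : M ≠ ⊥)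
    (hM2 : IsPGroup 2 M) : ∃ x ∈ M, x ≠ 1 ∧ ∀ t ∈ T, t * x = x * t := by
  have hfact : Fact (Nat.Prime 2) := ⟨Nat.prime_two⟩
  let act : MulAction T M :=
    { smul := fun t m => ⟨(t : G) * m * (t : G)⁻¹, (mem_normalizer_iff.1 (hTM t.2) _).1 m.2⟩
      one_smul := fun m => Subtype.ext (by change ((1 : T) : G) * m * ((1 : T) : G)⁻¹ = m; simp)
      mul_smul := fun s t m => Subtype.ext (by
        change ((s * t : T) : G) * m * ((s * t : T) : G)⁻¹ = s * (t * m * (t : G)⁻¹) * (s : G)⁻¹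
        rw [Subgroup.coe_mul]; group) }
  have h1 : (1 : M) ∈ MulAction.fixedPoints T M := fun t => Subtype.ext (by
    change (t : G) * ((1 : M) : G) * (t : G)⁻¹ = ((1 : M) : G)
    simp)
  have hnt : Nontrivial M := (nontrivial_iff_ne_bot M).2 hM1
  have h2 : 2 ∣ Nat.card M := by
    obtain ⟨n, hn⟩ := IsPGroup.iff_card.1 hM2
    rw [hn]
    refine dvd_pow_self 2 ?_
    rintro rfl
    rw [pow_zero] at hn
    exact hM1 (card_eq_one.1 hn)
  obtain ⟨b, hb, hb1⟩ := hT.exists_fixed_point_of_prime_dvd_card_of_fixed_point M h2 h1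
  refine ⟨b, b.2, fun h => hb1 (Subtype.ext h.symm), fun t ht => ?_⟩
  have h3 : t * (b : G) * t⁻¹ = b := congrArg Subtype.val (hb ⟨t, ht⟩)
  rw [← mul_inv_eq_iff_eq_mul]
  exact h3

section gen

variable {S : Sylow 2 G} {P K A : Subgroup G}

/-- `A ≤ S`, `A ≰ O₂(P)` does not centralise a nontrivial normal subgroup of `P` in `V_P`. -/
theorem not_centralizes (hP : IsPar (S : Subgroup G) P) (hcv : zc (S : Subgroup G) ⊓ centralizer (P : Set G) = ⊥)
    (hA : A ≤ (S : Subgroup G)) (hAQ : ¬ A ≤ o2 P) {M : Subgroup G} (hM1 : M ≠ ⊥) (hMS : M ≤ (S : Subgroup G))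
    (hM : P ≤ normalizer (M : Set G)) (hsq : ∀ x ∈ M, x ^ 2 = 1) : ¬ A ≤ centralizer (M : Set G) := by
  intro hAM
  have hfact : Fact (Nat.Prime 2) := ⟨Nat.prime_two⟩
  -- `N := P ⊓ C(M)` is normal in `P`
  set N : Subgroup G := P ⊓ centralizer (M : Set G) with hN
  have hNn : P ≤ normalizer (N : Set G) := by
    refine fun x hx => mem_normalizer_of_cj_le ?_
    rintro _ ⟨y, hy, rfl⟩
    change x * y * x⁻¹ ∈ N
    refine mem_inf.2 ⟨mul_mem (mul_mem hx hy.1) (inv_mem hx), mem_centralizer_iff.2 fun z hz => ?_⟩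
    have h1 : x⁻¹ * z * x ∈ M := (mem_normalizer_iff''.1 (hM hx) z).1 hz
    have h2 := mem_centralizer_iff.1 hy.2 _ h1
    calc z * (x * y * x⁻¹) = x * (x⁻¹ * z * x * y) * x⁻¹ := by group
      _ = x * (y * (x⁻¹ * z * x)) * x⁻¹ := by rw [h2]
      _ = x * y * x⁻¹ * z := by group
  rcases hP.sup_eq_or_inf_le S inf_le_left hNn with h | h
  · -- `C_M(S) ≠ 1` is central in `P`
    obtain ⟨x, hxM, hx1, hxS⟩ := exists_fixed S.isPGroup' (hP.le.trans hM) hM1 (S.isPGroup'.to_le hMS)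
    apply hx1
    rw [← mem_bot, ← hcv]
    refine mem_inf.2 ⟨?_, ?_⟩
    · exact mem_zc.2 ⟨hMS hxM, hsq x hxM, hxS⟩
    · have h2 : P ≤ centralizer ({x} : Set G) := by
        rw [← h]
        refine sup_le (fun y hy => ?_) fun y hy => ?_
        · exact mem_centralizer_singleton_iff.2 (mem_centralizer_iff.1 hy.2 x hxM).symm
        · exact mem_centralizer_singleton_iff.2 (hxS y hy)
      exact mem_centralizer_iff.2 fun y hy => mem_centralizer_singleton_iff.1 (h2 hy)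
  · exact hAQ ((le_inf hA (le_inf (hA.trans hP.le) hAM)).trans h)

/-- **LEMMA FIX**, one `A ≤ S` inducing a group of order 2 on `V_P`. -/
theorem fix_gen (hP : IsParS (S : Subgroup G) P)
    (hcv : zc (S : Subgroup G) ⊓ centralizer (P : Set G) = ⊥)
    (hz : zc (o2 P) = zl (S : Subgroup G) P) (hKV : zl (S : Subgroup G) P ≤ centralizer (K : Set G))
    (hKn : P ≤ normalizer (K : Set G)) (hA : A ≤ (S : Subgroup G)) {τ : G} (hτ : τ ∈ A) (hτQ : τ ∉ o2 P)
    (idx : ∀ a ∈ A, a ∈ o2 P ∨ τ * a ∈ o2 P)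
    (off : ∀ F : Subgroup G, F ≤ o2 P → F ≤ centralizer (K : Set G) → zl (S : Subgroup G) P ≤ F →
      (∀ x ∈ F, ∀ y ∈ F, x * y = y * x) → (∀ x ∈ F, x * x = 1) → A ≤ normalizer (F : Set G) → OffM F A)
    {e p : G} (he : e ∈ o2 P) (he2 : e * e = 1) (heK : e ∈ centralizer (K : Set G)) (hp : p ∈ zl (S : Subgroup G) P)
    (hec : ∀ o ∈ o2 P, o * e * o⁻¹ = e ∨ o * e * o⁻¹ = e * p) : e ∈ zl (S : Subgroup G) P := by
  set V := zl (S : Subgroup G) P with hV
  have hzm : ∀ x : G, x ∈ V ↔ x ∈ o2 P ∧ x ^ 2 = 1 ∧ ∀ y ∈ o2 P, y * x = x * y := by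
    intro x; rw [← hz]; exact mem_zc
  by_cases hp1 : p = 1
  · subst hp1
    refine (hzm e).2 ⟨he, by rw [pow_two]; exact he2, fun o ho => ?_⟩
    have h1 : o * e * o⁻¹ = e := by
      rcases hec o ho with h | h
      · exact h
      · rw [h, mul_one]
    exact mul_inv_eq_iff_eq_mul.1 h1
  have hPV : P ≤ normalizer (V : Set G) := MinSimple.VModule.le_normalizer_zl _ _
  have hVO : V ≤ o2 P := fun x hx => ((hzm x).1 hx).1
  have hVS : V ≤ (S : Subgroup G) := hVO.trans (hP.isLoc.o2_le S)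
  have hPO : P ≤ normalizer (o2 P : Set G) := ZN.le_normalizer_o2 P
  have hSP : (S : Subgroup G) ≤ P := hP.le
  -- some conjugate of `p` is moved by `τ`
  obtain ⟨g, hg, hgp⟩ : ∃ g ∈ P, τ * (g * p * g⁻¹) * τ⁻¹ ≠ g * p * g⁻¹ := by
    by_contra hcon
    push Not at hcon
    set M : Subgroup G := closure {x | ∃ g ∈ P, x = g * p * g⁻¹} with hM
    have hMV : M ≤ V := by
      rw [hM, closure_le]
      rintro _ ⟨g, hg, rfl⟩
      exact (mem_normalizer_iff.1 (hPV hg) p).1 hp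
    have hpM : p ∈ M := subset_closure ⟨1, one_mem _, by group⟩
    have hM1 : M ≠ ⊥ := fun h => hp1 (mem_bot.1 (h ▸ hpM))
    have hPM : P ≤ normalizer (M : Set G) := by
      refine fun x hx => mem_normalizer_of_cj_le ?_
      rintro _ ⟨y, hy, rfl⟩
      change x * y * x⁻¹ ∈ M
      rw [hM] at hy
      induction hy using closure_induction with
      | mem y hy =>
        obtain ⟨g, hg, rfl⟩ := hy
        refine subset_closure ⟨x * g, mul_mem hx hg, by group⟩
      | one => rw [mul_one, mul_inv_cancel]; exact one_mem _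
      | mul a b _ _ ha hb =>
        have e1 : x * (a * b) * x⁻¹ = (x * a * x⁻¹) * (x * b * x⁻¹) := by group
        rw [e1]; exact mul_mem ha hb
      | inv a _ ha =>
        have e1 : x * a⁻¹ * x⁻¹ = (x * a * x⁻¹)⁻¹ := by group
        rw [e1]; exact inv_mem ha
    refine not_centralizes hP.toIsPar hcv hA (fun h => hτQ (h hτ)) hM1 (hMV.trans hVS) hPM
      (fun x hx => ((hzm x).1 (hMV hx)).2.1) ?_
    have hτM : ∀ x ∈ M, τ * x = x * τ := by
      have h1 : M ≤ centralizer ({τ} : Set G) := by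
        rw [hM, closure_le]
        rintro _ ⟨g, hg, rfl⟩
        exact mem_centralizer_singleton_iff.2 (mul_inv_eq_iff_eq_mul.1 (hcon g hg)).symm
      exact fun x hx => (mem_centralizer_singleton_iff.1 (h1 hx)).symm
    intro a ha
    refine mem_centralizer_iff.2 fun x hx => ?_
    have hcO : ∀ o ∈ o2 P, o * x = x * o := fun o ho => ((hzm x).1 (hMV hx)).2.2 o ho
    rcases idx a ha with h | h
    · exact (hcO a h).symm
    · have h1 := hcO _ h
      have h2 := hτM x hx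
      have h3 : τ * (a * x) = τ * (x * a) := by
        calc τ * (a * x) = τ * a * x := by group
          _ = x * (τ * a) := h1
          _ = x * τ * a := by group
          _ = τ * x * a := by rw [h2]
          _ = τ * (x * a) := by group
      exact (mul_left_cancel h3).symm
  have hOg : ∀ o ∈ o2 P, g⁻¹ * o * g ∈ o2 P := fun o ho => (mem_normalizer_iff''.1 (hPO hg) o).1 ho
  have heK' : g * e * g⁻¹ ∈ centralizer (K : Set G) := by
    refine mem_centralizer_iff.2 fun y hy => ?_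
    have h1 : g⁻¹ * y * g ∈ K := (mem_normalizer_iff''.1 (hKn hg) y).1 hy
    have h2 := mem_centralizer_iff.1 heK _ h1
    calc y * (g * e * g⁻¹) = g * (g⁻¹ * y * g * e) * g⁻¹ := by group
      _ = g * (e * (g⁻¹ * y * g)) * g⁻¹ := by rw [h2]
      _ = g * e * g⁻¹ * y := by group
  have hAP : A ≤ P := hA.trans hSP
  have hτK : τ * (g * e * g⁻¹) * τ⁻¹ ∈ centralizer (K : Set G) := by
    refine mem_centralizer_iff.2 fun y hy => ?_
    have h1 : τ⁻¹ * y * τ ∈ K := (mem_normalizer_iff''.1 (hKn (hAP hτ)) y).1 hy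
    have h2 := mem_centralizer_iff.1 heK' _ h1
    calc y * (τ * (g * e * g⁻¹) * τ⁻¹) = τ * (τ⁻¹ * y * τ * (g * e * g⁻¹)) * τ⁻¹ := by group
      _ = τ * (g * e * g⁻¹ * (τ⁻¹ * y * τ)) * τ⁻¹ := by rw [h2]
      _ = τ * (g * e * g⁻¹) * τ⁻¹ * y := by group
  have D : LevFix.Dat A (o2 P) V τ (g * p * g⁻¹) (g * e * g⁻¹) :=
    { VO := hVO
      OV := fun o ho x hx => ((hzm x).1 hx).2.2 o ho
      V2 := fun x hx => by rw [← pow_two]; exact ((hzm x).1 hx).2.1
      AO := fun a ha o ho => (mem_normalizer_iff.1 (hPO (hAP ha)) o).1 ho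
      AV := fun a ha x hx => (mem_normalizer_iff.1 (hPV (hAP ha)) x).1 hx
      τA := hτ
      idx := idx
      pV := (mem_normalizer_iff.1 (hPV hg) p).1 hp
      p1 := fun h => hp1 (conj_eq_one_iff.1 h)
      pτ := hgp
      eO := (mem_normalizer_iff.1 (hPO hg) e).1 he
      e2 := by
        have e1 : g * e * g⁻¹ * (g * e * g⁻¹) = g * (e * e) * g⁻¹ := by group
        rw [e1, he2, mul_one, mul_inv_cancel]
      ec := by
        intro o ho
        have e1 : o * (g * e * g⁻¹) * o⁻¹ = g * ((g⁻¹ * o * g) * e * (g⁻¹ * o * g)⁻¹) * g⁻¹ := by group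
        rw [e1]
        rcases hec _ (hOg o ho) with h | h
        · left; rw [h]
        · right; rw [h]; group
      off := by
        intro F hFO hVF hFc hFcm hFsq hAF
        refine off F hFO (hFc.trans ((closure_le _).2 ?_)) hVF hFcm hFsq hAF
        rintro x (hx | rfl | rfl)
        · exact hKV hx
        · exact heK'
        · exact hτK }
  have hmain := D.main
  have h1 : g * e * g⁻¹ ∈ V := (hzm _).2 ⟨D.eO, by rw [pow_two]; exact D.e2, hmain⟩
  exact (mem_normalizer_iff.1 (hPV hg) e).2 h1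

end gen

section stage

variable {S : Sylow 2 G} {P : Subgroup G}

/-- `τ ∈ A` moves `W`, `|B : C_B(W)| ≤ 2` -/
theorem idx_of {B W A Q : Subgroup G} (hc : Nat.card B ≤ 2 * Nat.card ↥(B ⊓ centralizer (W : Set G)))
    (hAB : A ≤ B) (hQ : ∀ a ∈ A, (∀ w ∈ W, a * w = w * a) → a ∈ Q)
    {τ : G} (hτ : τ ∈ A) {v : G} (hv : v ∈ W) (hτv : τ * v ≠ v * τ) : ∀ a ∈ A, a ∈ Q ∨ τ * a ∈ Q := by
  intro a ha
  by_cases haC : ∀ w ∈ W, a * w = w * a
  · exact Or.inl (hQ a ha haC)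
  · right
    refine hQ _ (mul_mem hτ ha) fun w hw => ?_
    have h1 : τ * a ∈ B ⊓ centralizer (W : Set G) := by
      refine mul_mem_of_card_le_two inf_le_left hc (hAB hτ) (fun h => hτv ?_) (hAB ha) fun h => haC ?_
      · exact (mem_centralizer_iff.1 h.2 v hv).symm
      · exact fun w hw => (mem_centralizer_iff.1 h.2 w hw).symm
    exact (mem_centralizer_iff.1 h1.2 w hw).symm

/-- stage `-1` -/
theorem fixK_neg (h : HypL S P) (hJ : ¬ jj (S : Subgroup G) ≤ o2 P) {k m : ℕ} (hk : 0 < k) (hm : 2 ≤ m)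
    (N : SymKM (S : Subgroup G) P (zl (S : Subgroup G) P) (cv (S : Subgroup G) P) k m) : FixK S P ⊥ := by
  obtain ⟨ι, hι, W, d, t, r, L, A, hs, -, -, hAA, hL⟩ := Line.exists_sym ⟨h.toHypN, hJ⟩ hk hm N.toSymK
  obtain ⟨i⟩ := hs.ne
  have hAi := hAA i
  have hne := hL.fr.Ane i
  push Not at hne
  obtain ⟨τ, hτ, v, hv, hτv⟩ := hne
  have hAB : A i ≤ bau (S : Subgroup G) := hL.fr.AB i
  have hAQ : ∀ a ∈ A i, (∀ w ∈ W i, a * w = w * a) → a ∈ o2 P := by
    intro a ha hw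
    refine (hL.fr.mem_Q a (hAB ha)).2 fun x hx => ?_
    obtain ⟨w, hw', c, hc, rfl⟩ := hL.fr.WC i x hx
    have c1 : Commute a w := hw w hw'
    have c2 : Commute a c := hL.fr.AC i a ha c hc
    exact (c1.mul_right c2).eq
  have hτQ : τ ∉ o2 P := fun hh => hτv ((hL.fr.mem_Q τ (hAB hτ)).1 hh v (hL.fr.WV i hv))
  have hAi1 := (isElementaryAbelian_iff.1 hAi.1).1
  have hAi2 := (isElementaryAbelian_iff.1 hAi.1).2
  have hbot : ∀ x : G, x ∈ normalizer ((⊥ : Subgroup G) : Set G) := fun x => by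
    rw [mem_normalizer_iff]
    intro y
    rw [mem_bot, mem_bot]
    exact conj_eq_one_iff.symm
  have hcb : ∀ x : G, x ∈ centralizer ((⊥ : Subgroup G) : Set G) := fun x => by
    refine mem_centralizer_iff.2 fun y hy => ?_
    rw [mem_bot.1 hy, one_mul, mul_one]
  refine ⟨bot_le, fun Y _ _ x _ => hbot x, fun x _ => hcb x, fun e he he2 heK p hp hec => ?_⟩
  refine fix_gen (K := ⊥) h.star h.toHyp.inf_eq_bot hs.zc_eq (fun x _ => hcb x) (fun x _ => hbot x) hAi.2.1 hτ hτQ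
    (idx_of (hL.fr.blk i).cardB hAB hAQ hτ hv hτv) ?_ he he2 heK hp hec
  intro F hF _ hVF hFc hFs hAF
  refine { sq := fun a ha => by rw [hAi2 a ha]; exact one_mem _
           comm := fun a ha b hb => by
            rw [hAi1 a ha b hb, mul_inv_cancel_right, mul_inv_cancel]; exact one_mem _
           ne := fun hh => hτv (mem_centralizer_iff.1 (hh hτ) v (hVF (hL.fr.WV i hv))).symm
           le := ?_ }
  have hFe : IsElementaryAbelian 2 F := isElementaryAbelian_iff.2 ⟨hFc, fun x hx => by rw [pow_two]; exact hFs x hx⟩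
  have hFT : F ≤ (S : Subgroup G) := hF.trans (h.star.isLoc.o2_le S)
  have hc : A i ⊓ centralizer (F : Set G) ≤ centralizer (F : Set G) := inf_le_right
  have h1 := card_sup_mul_card_inf hc
  have h2 : Nat.card (F ⊔ (A i ⊓ centralizer (F : Set G)) : Subgroup G) ≤ Nat.card (A i) :=
    hAi.2.2 _ (isElementaryAbelian_sup hFe (isElementaryAbelian_mono hAi.1 inf_le_left) hc)
      (sup_le hFT (inf_le_left.trans hAi.2.1))
  have h3 : Nat.card (F ⊓ (A i ⊓ centralizer (F : Set G)) : Subgroup G) ≤ Nat.card ↥(F ⊓ centralizer (A i : Set G)) := by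
    refine Subgroup.card_le_of_le (inf_le_inf_left _ (inf_le_left.trans ?_))
    intro a ha
    exact mem_centralizer_iff.2 fun b hb => hAi1 b hb a ha
  rw [← h1]
  exact Nat.mul_le_mul h2 h3

/-- stage `n` -/
theorem fixK_lev (h : HypL S P) {n : ℕ} (hn : lev (S : Subgroup G) n ≤ o2 P)
    (hn1 : ¬ lev (S : Subgroup G) (n + 1) ≤ o2 P) {k m : ℕ} (hk : 0 < k) (hm : 2 ≤ m)
    (N : SymKM (S : Subgroup G) P (zl (S : Subgroup G) P) (cv (S : Subgroup G) P) k m) :
    FixK S P (lev (S : Subgroup G) n) := by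
  obtain ⟨ι, hι, W, d, t, r, L, A, hs, -, -, -, h2, hF⟩ := Lev.Sym.exists_sym_lev FF.Glob.ffthmM
    h.toHyp.ctx.char2 h.star (lev_isLev (S : Subgroup G) n) hn h.toHyp.inf_eq_bot
    (NO3S.exists_BO h.toHyp.ctx.char2 h.star hn hn1) hk hm N
  obtain ⟨i⟩ := hs.ne
  have hne := hF.Ane i
  push Not at hne
  obtain ⟨τ, hτ, v, hv, hτv⟩ := hne
  have hAB := hF.AB i
  have hAS : A i ≤ (S : Subgroup G) := hAB.trans inf_le_left
  have hlev := lev_isLev (S : Subgroup G) n
  have hOS : o2 P ≤ (S : Subgroup G) := h.star.isLoc.o2_le S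
  have hτQ : τ ∉ o2 P := fun hh => hτv ((hF.mem_Q τ (hAB hτ)).1 hh v (hF.WV i hv))
  have hVX : zl (S : Subgroup G) P ≤ zc (lev (S : Subgroup G) n) := hF.VX
  have hKV : zl (S : Subgroup G) P ≤ centralizer (lev (S : Subgroup G) n : Set G) := by
    intro x hx
    exact mem_centralizer_iff.2 fun y hy => (mem_zc.1 (hVX hx)).2.2 y hy
  have hKn : P ≤ normalizer (lev (S : Subgroup G) n : Set G) := hlev.le_norm_of_o2 hn hOS
  have hbest : Best (zc (lev (S : Subgroup G) n)) (A i) := by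
    refine ⟨hF.AX i, fun Y h1 h2 => ?_⟩
    exact hF.best i Y h2 h1
  refine ⟨hn, fun Y hY hYS => hlev.norm Y hY hYS, hKV, fun e he he2 heK p hp hec => ?_⟩
  refine fix_gen (K := lev (S : Subgroup G) n) h.star h.toHyp.inf_eq_bot hs.zc_eq hKV hKn hAS hτ hτQ
    (idx_of (hF.blk i).cardB hAB (fun a ha => hF.A_Q ha) hτ hv hτv) ?_ he he2 heK hp hec
  intro F hFO hFK hVF hFc hFs hAF
  have hFX : F ≤ zc (lev (S : Subgroup G) n) := fun x hx =>
    hlev.mem_of_comm (hOS (hFO hx)) (by rw [pow_two]; exact hFs x hx) fun y hy =>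
      mem_centralizer_iff.1 (hFK hx) y hy
  exact hbest.offM hFX fun hh => hτv (mem_centralizer_iff.1 (hh hτ) v (hVF (hF.WV i hv))).symm

end stage

open Cfsg.Agent.Omega.Node.MultiOf Cfsg.Agent.Omega.Node.SymOf in
/-- **LEMMA FIX for `MulS`, every stage.** -/
theorem fixK_of {S : Sylow 2 G} {P K B ZJ : Subgroup G} {ι : Type} {L W Z C : ι → Subgroup G} {k m : ℕ}
    (h : MulS S P K B ZJ L W Z C k m) (hk : 0 < k) (hm : 2 ≤ m) : ∃ K0 : Subgroup G, FixK S P K0 := by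
  obtain ⟨N⟩ := h.sym
  cases h.stg with
  | neg hj => exact ⟨_, fixK_neg h.hyp hj hk hm N⟩
  | lev n hall hn hn1 => exact ⟨_, fixK_lev h.hyp hn hn1 hk hm N⟩

end Cfsg.Agent.Omega.NO3S.ESym
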