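import Mathlib.GroupTheory.Index
import Mathlib.GroupTheory.Coset.Card
import Mathlib.Algebra.Group.Subgroup.Pointwise
import Cfsg.Agent.ZN.Facts
import Cfsg.Agent.OddOrderLocal.RankBasics
import Cfsg.Agent.WeakTI.FlatLine5

/-!
# LEMMA FIX inside an abelian group, every stage (helper691 #22160, helper900 #22692, helper164 #22847)

Pure group theory, no frame: `A` is best on the elementary abelian group `X`, induces a group of order `≤ 2` on
`V ≤ X`, `a ∈ A` moves `u ∈ V`; `n ∈ X` with `[n, Q] ≤ ⟨u⟩`. Then `n` centralises `Q`.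

* `Fix.fixX` : the statement above (`A ≤ N(X)`, `|E| |C_X(E)| ≤ |A| |C_X(A)|` for `E ≤ A`);
* `Fix.fixQ` : stage `-1`: `A` elementary abelian of maximal order in `T`, `V, n ≤ Q ≤ T`, `n² = 1`.
-/

set_option autoImplicit false
set_option linter.unusedSectionVars false

namespace Cfsg.Agent.Omega.NO3S.ESym.Fix

open Subgroup Cfsg Cfsg.Agent Cfsg.Agent.ZN

universe u

variable {G : Type u} [Group G]

/-- index at most two -/
theorem card_le_two_mul [Finite G] {A C : Subgroup G} {τ : G}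
    (hidx : ∀ a ∈ A, a ∈ C ∨ τ * a ∈ C) : Nat.card A ≤ 2 * Nat.card C := by
  classical
  -- the map `A → C × Bool`
  let f : A → C × Bool := fun a => if h : (a : G) ∈ C then (⟨a, h⟩, true) else
    (⟨τ * a, (hidx a a.2).resolve_left h⟩, false)
  have hf : Function.Injective f := by
    intro a b hab
    by_cases ha : (a : G) ∈ C <;> by_cases hb : (b : G) ∈ C
    · simp only [f, ha, hb, dif_pos, Prod.mk.injEq, Subtype.mk.injEq, and_true] at hab
      exact Subtype.ext hab
    · simp [f, ha, hb] at hab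
    · simp [f, ha, hb] at hab
    · simp only [f, ha, hb, dif_neg, not_false_eq_true, Prod.mk.injEq, Subtype.mk.injEq, and_true,
        mul_right_inj] at hab
      exact Subtype.ext hab
  have h1 := Nat.card_le_card_of_injective f hf
  rw [Nat.card_prod, Nat.card_eq_fintype_card (α := Bool), Fintype.card_bool, mul_comm] at h1
  exact h1

/-- a proper subgroup has at most half the elements -/
theorem two_mul_card_le [Finite G] {C D : Subgroup G} (h : C ≤ D) {x : G} (hx : x ∈ D) (hxC : x ∉ C) :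
    2 * Nat.card C ≤ Nat.card D := by
  obtain ⟨k, hk⟩ := Subgroup.card_dvd_of_le h
  have hlt : Nat.card C ≠ Nat.card D := by
    intro he
    have : C = D := Subgroup.eq_of_le_of_card_ge h he.ge
    exact hxC (this ▸ hx)
  have hpos : 0 < Nat.card D := Nat.card_pos
  rcases k with _ | _ | k
  · simp at hk; omega
  · simp at hk; exact absurd hk.symm hlt
  · rw [hk]
    nlinarith [Nat.zero_le (Nat.card C * k)]

/-- four cosets -/
theorem four_mul_card_le [Finite G] {C D X : Subgroup G} (hX : ∀ x ∈ X, ∀ y ∈ X, x * y = y * x)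
    (hDX : D ≤ X) (h : C ≤ D) {x y : G} (hx : x ∈ D) (hy : y ∈ D) (hx2 : x * x ∈ C) (hxC : x ∉ C)
    (hyC : y ∉ C) (hxy : x * y ∉ C) : 4 * Nat.card C ≤ Nat.card D := by
  -- `C₁ = C ∪ x C`
  let C₁ : Subgroup G :=
    { carrier := {g | g ∈ C ∨ x * g ∈ C}
      one_mem' := Or.inl C.one_mem
      mul_mem' := by
        rintro a b ha hb
        have hcomm : ∀ g, (g ∈ C ∨ x * g ∈ C) → x * g = g * x := by
          rintro g (hg | hg)
          · exact hX x (hDX hx) g (hDX (h hg))
          · have hgD : g ∈ D := by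
              have := D.mul_mem (D.inv_mem hx) (h hg)
              rwa [inv_mul_cancel_left] at this
            exact hX x (hDX hx) g (hDX hgD)
        rcases ha with ha | ha <;> rcases hb with hb | hb
        · exact Or.inl (C.mul_mem ha hb)
        · right
          have : x * (a * b) = a * (x * b) := by
            rw [← mul_assoc, hcomm a (Or.inl ha), mul_assoc]
          rw [this]
          exact C.mul_mem ha hb
        · right
          rw [← mul_assoc]
          exact C.mul_mem ha hb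
        · left
          have h1 := C.mul_mem ha hb
          have h2 : x * a * (x * b) = (x * x) * (a * b) := by
            rw [show x * a * (x * b) = x * (a * x) * b by group, ← hcomm a (Or.inr ha)]
            group
          rw [h2] at h1
          have := C.mul_mem (C.inv_mem hx2) h1
          rwa [inv_mul_cancel_left] at this
      inv_mem' := by
        rintro a (ha | ha)
        · exact Or.inl (C.inv_mem ha)
        · right
          have haD : a ∈ D := by
            have := D.mul_mem (D.inv_mem hx) (h ha)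
            rwa [inv_mul_cancel_left] at this
          have hc := hX x (hDX hx) a (hDX haD)
          have h1 := C.mul_mem hx2 (C.inv_mem ha)
          have h2 : x * x * (x * a)⁻¹ = x * a⁻¹ := by
            rw [hc]; group
          rwa [h2] at h1 }
  have hC₁D : C₁ ≤ D := by
    rintro g (hg | hg)
    · exact h hg
    · have := D.mul_mem (D.inv_mem hx) (h hg)
      rwa [inv_mul_cancel_left] at this
  have hCC₁ : C ≤ C₁ := fun g hg => Or.inl hg
  have h1 := two_mul_card_le hCC₁ (x := x) (show x ∈ C ∨ x * x ∈ C from Or.inr hx2) hxC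
  have h2 := two_mul_card_le hC₁D hy (fun hy' : y ∈ C ∨ x * y ∈ C => hy'.elim hyC hxy)
  omega

section fix

variable [Finite G] {Q V X A : Subgroup G} {a u n : G}

/-- **LEMMA FIX inside `X`.** -/
theorem fixX (hX : ∀ x ∈ X, ∀ y ∈ X, x * y = y * x) (hX2 : ∀ x ∈ X, x * x = 1) (hVX : V ≤ X)
    (hVQ : V ≤ centralizer (Q : Set G)) (hA : ∀ b ∈ A, ∀ c ∈ A, b * c * b⁻¹ * c⁻¹ ∈ centralizer (X : Set G))
    (hAX : A ≤ normalizer (X : Set G)) (hE₀ : A ⊓ centralizer (V : Set G) ≤ Q)
    (best : ∀ E : Subgroup G, A ⊓ centralizer (X : Set G) ≤ E → E ≤ A →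
      Nat.card E * Nat.card ↥(X ⊓ centralizer (E : Set G)) ≤
        Nat.card A * Nat.card ↥(X ⊓ centralizer (A : Set G)))
    (haA : a ∈ A) (haQ : a ∈ normalizer (Q : Set G)) (hidx : ∀ b ∈ A, b ∈ centralizer (V : Set G) ∨
      a * b ∈ centralizer (V : Set G)) (hu : u ∈ V) (hau : a * u * a⁻¹ ≠ u) (hauV : a * u * a⁻¹ ∈ V)
    (hn : n ∈ X) (hnQ : ∀ q ∈ Q, n * q * n⁻¹ * q⁻¹ = 1 ∨ n * q * n⁻¹ * q⁻¹ = u) :
    n ∈ centralizer (Q : Set G) := by
  set n' := a * n * a⁻¹ with hn'
  set u' := a * u * a⁻¹ with hu'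
  have haX := hAX haA
  have hn'X : n' ∈ X := (mem_normalizer_iff.1 haX n).1 hn
  have hu1 : u ≠ 1 := by
    intro h
    apply hau
    rw [hu', h, mul_one, mul_inv_cancel]
  have hu'1 : u' ≠ 1 := by
    intro h
    apply hu1
    have : a⁻¹ * u' * a = u := by rw [hu']; group
    rw [← this, h]
    group
  -- `[n', q]`
  have hn'Q : ∀ q ∈ Q, n' * q * n'⁻¹ * q⁻¹ = 1 ∨ n' * q * n'⁻¹ * q⁻¹ = u' := by
    intro q hq
    have hq' : a⁻¹ * q * a ∈ Q := by
      have := (mem_normalizer_iff.1 (inv_mem haQ) q).1 hq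
      rwa [inv_inv] at this
    have he : n' * q * n'⁻¹ * q⁻¹ = a * (n * (a⁻¹ * q * a) * n⁻¹ * (a⁻¹ * q * a)⁻¹) * a⁻¹ := by
      rw [hn']; group
    rcases hnQ _ hq' with h | h
    · left; rw [he, h]; group
    · right; rw [he, h]
  set E₀ := A ⊓ centralizer (V : Set G) with hE₀def
  have hcomm : ∀ e ∈ A, n' * e * n'⁻¹ * e⁻¹ = a * (n * e * n⁻¹ * e⁻¹) * a⁻¹ := by
    intro e he
    -- `a e a⁻¹ = c e`, `c ∈ C(X)`
    have hc := hA a haA e he
    set c := a * e * a⁻¹ * e⁻¹ with hcdef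
    have h1 : e = c⁻¹ * (a * e * a⁻¹) := by rw [hcdef]; group
    have h2 : n' * c⁻¹ = c⁻¹ * n' := mem_centralizer_iff.1 (inv_mem hc) n' hn'X
    calc n' * e * n'⁻¹ * e⁻¹ = n' * (c⁻¹ * (a * e * a⁻¹)) * n'⁻¹ * (c⁻¹ * (a * e * a⁻¹))⁻¹ := by rw [← h1]
      _ = (n' * c⁻¹) * (a * e * a⁻¹) * n'⁻¹ * (a * e * a⁻¹)⁻¹ * c := by group
      _ = c⁻¹ * (a * (n * e * n⁻¹ * e⁻¹) * a⁻¹) * c := by rw [h2, hn']; group
      _ = _ := by
        have h3 : a * (n * e * n⁻¹ * e⁻¹) * a⁻¹ ∈ X := by
          refine (mem_normalizer_iff.1 haX _).1 ?_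
          have h4 : e * n⁻¹ * e⁻¹ ∈ X := (mem_normalizer_iff.1 (hAX he) _).1 (X.inv_mem hn)
          have h5 : n * e * n⁻¹ * e⁻¹ = n * (e * n⁻¹ * e⁻¹) := by group
          rw [h5]
          exact X.mul_mem hn h4
        have h6 := mem_centralizer_iff.1 hc _ h3
        rw [mul_assoc, h6]; group
  -- centralising
  have hcent : ∀ {x e : G}, x * e * x⁻¹ * e⁻¹ = 1 → x * e = e * x := by
    intro x e h
    have h2 : x * e = (x * e * x⁻¹ * e⁻¹) * (e * x) := by group
    rw [h2, h, one_mul]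
  have hcent' : ∀ {x e : G}, x * e = e * x → x * e * x⁻¹ * e⁻¹ = 1 := by
    intro x e h
    rw [h]; group
  have hcardA : Nat.card A ≤ 2 * Nat.card E₀ := by
    refine card_le_two_mul (τ := a) fun b hb => ?_
    rcases hidx b hb with h | h
    · exact Or.inl ⟨hb, h⟩
    · exact Or.inr ⟨A.mul_mem haA hb, h⟩
  have huE : ∀ E ≤ E₀, u ∈ X ⊓ centralizer (E : Set G) := by
    intro E hE
    refine ⟨hVX hu, mem_centralizer_iff.2 fun e he => ?_⟩
    exact (mem_centralizer_iff.1 ((hE he).2) u hu).symm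
  have huA : u ∉ X ⊓ centralizer (A : Set G) := by
    intro h
    apply hau
    have := mem_centralizer_iff.1 h.2 a haA
    rw [hu', this]; group
  have hCA : X ⊓ centralizer (A : Set G) ≤ X ⊓ centralizer (E₀ : Set G) :=
    inf_le_inf_left _ (centralizer_le (fun x hx => (inf_le_left : E₀ ≤ A) hx))
  have hpos : 0 < Nat.card (X ⊓ centralizer (A : Set G) : Subgroup G) := Nat.card_pos
  have hposA : 0 < Nat.card A := Nat.card_pos
  by_cases hw : ∃ e ∈ E₀, n * e * n⁻¹ * e⁻¹ = u
  · -- the case `w ≠ 0`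
    exfalso
    obtain ⟨e₀, he₀, hne⟩ := hw
    have hn'e : n' * e₀ * n'⁻¹ * e₀⁻¹ = u' := by rw [hcomm e₀ he₀.1, hne]
    set E := E₀ ⊓ centralizer ({n} : Set G) with hEdef
    have hE : E ≤ E₀ := inf_le_left
    have hcardE₀ : Nat.card E₀ ≤ 2 * Nat.card E := by
      refine card_le_two_mul (τ := e₀) fun e he => ?_
      rcases hnQ e (hE₀ he) with h | h
      · left
        refine ⟨he, mem_centralizer_iff.2 fun x hx => ?_⟩
        rw [Set.mem_singleton_iff.1 hx]
        exact hcent h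
      · right
        refine ⟨mul_mem he₀ he, mem_centralizer_iff.2 fun x hx => ?_⟩
        rw [Set.mem_singleton_iff.1 hx]
        apply hcent
        -- `[n, e₀ e] = [n, e₀] e₀ [n, e] e₀⁻¹ = u u`
        have h1 : n * (e₀ * e) * n⁻¹ * (e₀ * e)⁻¹ =
            (n * e₀ * n⁻¹ * e₀⁻¹) * (e₀ * (n * e * n⁻¹ * e⁻¹) * e₀⁻¹) := by group
        rw [h1, hne, h]
        have h2 : e₀ * u * e₀⁻¹ = u := by
          have := mem_centralizer_iff.1 he₀.2 u hu
          rw [← this]; group
        rw [h2]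
        exact hX2 u (hVX hu)
    -- the four cosets
    have hmemE : ∀ {x : G}, x ∈ X → (∀ e ∈ E, x * e = e * x) → x ∈ X ⊓ centralizer (E : Set G) := by
      intro x hx h
      exact ⟨hx, mem_centralizer_iff.2 fun e he => (h e he).symm⟩
    have hnE : n ∈ X ⊓ centralizer (E : Set G) :=
      hmemE hn fun e he => mem_centralizer_iff.1 he.2 n rfl
    have hn'E : n' ∈ X ⊓ centralizer (E : Set G) := by
      refine hmemE hn'X fun e he => hcent ?_
      rw [hcomm e (hE he).1, hcent' (mem_centralizer_iff.1 he.2 n rfl)]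
      group
    have hnot : ∀ {x : G}, x * e₀ * x⁻¹ * e₀⁻¹ ≠ 1 → x ∉ X ⊓ centralizer (E₀ : Set G) := by
      intro x h hx
      exact h (hcent' (mem_centralizer_iff.1 hx.2 e₀ he₀).symm)
    have h4 := four_mul_card_le (C := X ⊓ centralizer (E₀ : Set G)) (D := X ⊓ centralizer (E : Set G))
      hX inf_le_left (inf_le_inf_left _ (centralizer_le (fun x hx => hE hx))) hnE hn'E
      (by rw [hX2 n hn]; exact one_mem _) (hnot (by rw [hne]; exact hu1)) (hnot (by rw [hn'e]; exact hu'1))
      (by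
        apply hnot
        have h1 : n * n' * e₀ * (n * n')⁻¹ * e₀⁻¹ =
            (n * (n' * e₀ * n'⁻¹ * e₀⁻¹) * n⁻¹) * (n * e₀ * n⁻¹ * e₀⁻¹) := by group
        rw [h1, hn'e, hne]
        have h2 : n * u' * n⁻¹ = u' := by rw [hX n hn u' (hVX hauV)]; group
        rw [h2]
        intro h3
        apply hau
        have h4 : u' * (u * u) = u := by rw [← mul_assoc, h3, one_mul]
        rwa [hX2 u (hVX hu), mul_one] at h4)
    have h2 := two_mul_card_le hCA (huE E₀ le_rfl) huA
    have hXE : A ⊓ centralizer (X : Set G) ≤ E := by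
      refine fun x hx => ⟨⟨hx.1, centralizer_le hVX hx.2⟩, mem_centralizer_iff.2 fun y hy => ?_⟩
      rw [Set.mem_singleton_iff.1 hy]
      exact mem_centralizer_iff.1 hx.2 n hn
    have h3 := best E hXE (hE.trans inf_le_left)
    have h5 : 2 * (Nat.card A * Nat.card (X ⊓ centralizer (A : Set G) : Subgroup G)) ≤
        Nat.card E * Nat.card (X ⊓ centralizer (E : Set G) : Subgroup G) := by
      have h6 : Nat.card A ≤ 4 * Nat.card E := by omega
      have h7 : 8 * Nat.card (X ⊓ centralizer (A : Set G) : Subgroup G) ≤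
          Nat.card (X ⊓ centralizer (E : Set G) : Subgroup G) := by omega
      have h8 := Nat.mul_le_mul h6 h7
      nlinarith
    have h9 := Nat.mul_pos hposA hpos
    omega
  · -- the case `w = 0`
    push Not at hw
    have hnE₀ : n ∈ X ⊓ centralizer (E₀ : Set G) := by
      refine ⟨hn, mem_centralizer_iff.2 fun e he => ?_⟩
      exact (hcent ((hnQ e (hE₀ he)).resolve_right (hw e he))).symm
    -- `n` or `n u` is centralised by `A`
    have hn2 : n ∈ X ⊓ centralizer (A : Set G) ∨ u * n ∈ X ⊓ centralizer (A : Set G) := by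
      by_contra hcon
      push Not at hcon
      have h4 := four_mul_card_le (C := X ⊓ centralizer (A : Set G)) (D := X ⊓ centralizer (E₀ : Set G))
        hX inf_le_left hCA (huE E₀ le_rfl) hnE₀ (by rw [hX2 u (hVX hu)]; exact one_mem _) huA hcon.1 hcon.2
      have h3 := best E₀ (inf_le_inf_left _ (centralizer_le hVX)) inf_le_left
      have h8 := Nat.mul_le_mul hcardA h4
      have h9 := Nat.mul_pos hposA hpos
      nlinarith
    -- `n' = n v`
    have hn'v : ∃ v ∈ V, n' = n * v := by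
      rcases hn2 with h | h
      · refine ⟨1, V.one_mem, ?_⟩
        have := mem_centralizer_iff.1 h.2 a haA
        rw [hn', this]; group
      · refine ⟨u * u'⁻¹, V.mul_mem hu (V.inv_mem hauV), ?_⟩
        have h1 := mem_centralizer_iff.1 h.2 a haA
        have h2 : u' * n' = u * n := by
          have : u' * n' = a * (u * n) * a⁻¹ := by rw [hu', hn']; group
          rw [this, h1]; group
        have h3 : n' = u'⁻¹ * (u * n) := by rw [← h2]; group
        rw [h3, ← mul_assoc, hX _ (X.mul_mem (X.inv_mem (hVX hauV)) (hVX hu)) n hn]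
        congr 1
        exact hX _ (X.inv_mem (hVX hauV)) _ (hVX hu)
    obtain ⟨v, hv, hnv⟩ := hn'v
    refine mem_centralizer_iff.2 fun q hq => ?_
    refine (hcent ?_).symm
    refine (hnQ q hq).resolve_right fun h => ?_
    have h1 : n' * q * n'⁻¹ * q⁻¹ = u := by
      have h2 : v * q = q * v := (mem_centralizer_iff.1 (hVQ hv) q hq).symm
      have h3 : v * q * v⁻¹ = q := by rw [h2]; group
      calc n' * q * n'⁻¹ * q⁻¹ = n * (v * q * v⁻¹) * n⁻¹ * q⁻¹ := by rw [hnv]; group
        _ = u := by rw [h3, h]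
    rcases hn'Q q hq with h2 | h2
    · exact hu1 (h1.symm.trans h2)
    · exact hau (h2.symm.trans h1)

/-- **LEMMA FIX, stage `-1`**: `A` elementary abelian of maximal order in `T`, `n ∈ Q` an involution. -/
theorem fixQ {T : Subgroup G} (hAT : IsMaxIn T A) (hQT : Q ≤ T)
    (hV2 : ∀ x ∈ V, x * x = 1) (hVleQ : V ≤ Q) (hVQ : V ≤ centralizer (Q : Set G))
    (hE₀ : A ⊓ centralizer (V : Set G) ≤ Q) (haA : a ∈ A) (haQ : a ∈ normalizer (Q : Set G))
    (hAV : ∀ b ∈ A, ∀ v ∈ V, b * v * b⁻¹ ∈ V) (hidx : ∀ b ∈ A, b ∈ centralizer (V : Set G) ∨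
      a * b ∈ centralizer (V : Set G)) (hu : u ∈ V) (hau : a * u * a⁻¹ ≠ u)
    (hn : n ∈ Q) (hn2 : n * n = 1) (hnQ : ∀ q ∈ Q, n * q * n⁻¹ * q⁻¹ = 1 ∨ n * q * n⁻¹ * q⁻¹ = u) :
    n ∈ centralizer (Q : Set G) := by
  have hAel := OddOrderLocal.RankBasics.isElementaryAbelian_iff.1 hAT.2.1
  have hAc : ∀ b ∈ A, ∀ c ∈ A, b * c = c * b := fun b hb c hc => hAel.1 b hb c hc
  have ha2 : a * a = 1 := by
    have := hAel.2 a haA
    rwa [pow_two] at this
  have hainv : a⁻¹ = a := inv_eq_of_mul_eq_one_left ha2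
  have hauV : a * u * a⁻¹ ∈ V := hAV a haA u hu
  set n' := a * n * a⁻¹ with hn'
  set u' := a * u * a⁻¹ with hu'
  have hn'Q' : n' ∈ Q := (mem_normalizer_iff.1 haQ n).1 hn
  have hu1 : u ≠ 1 := by
    intro h
    apply hau
    rw [hu', h, mul_one, mul_inv_cancel]
  have hn'Q : ∀ q ∈ Q, n' * q * n'⁻¹ * q⁻¹ = 1 ∨ n' * q * n'⁻¹ * q⁻¹ = u' := by
    intro q hq
    have hq' : a⁻¹ * q * a ∈ Q := by
      have := (mem_normalizer_iff.1 (inv_mem haQ) q).1 hq
      rwa [inv_inv] at this
    have he : n' * q * n'⁻¹ * q⁻¹ = a * (n * (a⁻¹ * q * a) * n⁻¹ * (a⁻¹ * q * a)⁻¹) * a⁻¹ := by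
      rw [hn']; group
    rcases hnQ _ hq' with h | h
    · left; rw [he, h]; group
    · right; rw [he, h]
  have hcent : ∀ {x e : G}, x * e * x⁻¹ * e⁻¹ = 1 → x * e = e * x := by
    intro x e h
    have h2 : x * e = (x * e * x⁻¹ * e⁻¹) * (e * x) := by group
    rw [h2, h, one_mul]
  have hsq : ∀ {x : G}, x * x = 1 → x⁻¹ = x := fun h => inv_eq_of_mul_eq_one_left h
  have hnn : n * n' = n' * n := by
    rcases hnQ n' hn'Q' with h | h
    · exact hcent h
    · exfalso
      rcases hn'Q n hn with h1 | h1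
      · have h2 : n * n' * n⁻¹ * n'⁻¹ = (n' * n * n'⁻¹ * n⁻¹)⁻¹ := by group
        rw [h, h1, inv_one] at h2
        exact hu1 h2
      · have h2 : n * n' * n⁻¹ * n'⁻¹ = (n' * n * n'⁻¹ * n⁻¹)⁻¹ := by group
        rw [h, h1, hsq (hV2 u' hauV)] at h2
        exact hau h2.symm
  have hVn : ∀ v ∈ V, ∀ q ∈ Q, v * q = q * v := fun v hv q hq => (mem_centralizer_iff.1 (hVQ hv) q hq).symm
  have hn'2 : n' * n' = 1 := by
    have : n' * n' = a * (n * n) * a⁻¹ := by rw [hn']; group
    rw [this, hn2]; group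
  -- `X = V⟨n, n'⟩`
  let X : Subgroup G :=
    { carrier := {x | ∃ v ∈ V, ∃ y, (y = 1 ∨ y = n) ∧ ∃ z, (z = 1 ∨ z = n') ∧ x = v * y * z}
      one_mem' := ⟨1, V.one_mem, 1, Or.inl rfl, 1, Or.inl rfl, by group⟩
      mul_mem' := by
        rintro x x' ⟨v, hv, y, hy, z, hz, rfl⟩ ⟨v', hv', y', hy', z', hz', rfl⟩
        have hyQ : y ∈ Q := by rcases hy with rfl | rfl; exacts [Q.one_mem, hn]
        have hzQ : z ∈ Q := by rcases hz with rfl | rfl; exacts [Q.one_mem, hn'Q']
        have hzy : z * y' = y' * z := by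
          rcases hz with rfl | rfl <;> rcases hy' with rfl | rfl <;> first | (simp; done) | exact hnn.symm
        refine ⟨v * v', V.mul_mem hv hv', y * y', ?_, z * z', ?_, ?_⟩
        · rcases hy with rfl | rfl <;> rcases hy' with rfl | rfl <;> simp [hn2]
        · rcases hz with rfl | rfl <;> rcases hz' with rfl | rfl <;> simp [hn'2]
        · calc v * y * z * (v' * y' * z') = v * (y * z * v') * y' * z' := by group
            _ = v * (v' * (y * z)) * y' * z' := by rw [hVn v' hv' (y * z) (Q.mul_mem hyQ hzQ)]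
            _ = v * v' * y * (z * y') * z' := by group
            _ = v * v' * y * (y' * z) * z' := by rw [hzy]
            _ = _ := by group
      inv_mem' := by
        rintro x ⟨v, hv, y, hy, z, hz, rfl⟩
        have hyQ : y ∈ Q := by rcases hy with rfl | rfl; exacts [Q.one_mem, hn]
        have hzQ : z ∈ Q := by rcases hz with rfl | rfl; exacts [Q.one_mem, hn'Q']
        have hy2 : y⁻¹ = y := by rcases hy with rfl | rfl; exacts [inv_one, hsq hn2]
        have hz2 : z⁻¹ = z := by rcases hz with rfl | rfl; exacts [inv_one, hsq hn'2]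
        have hzy : z * y = y * z := by
          rcases hz with rfl | rfl <;> rcases hy with rfl | rfl <;> first | (simp; done) | exact hnn.symm
        refine ⟨v, hv, y, hy, z, hz, ?_⟩
        calc (v * y * z)⁻¹ = z⁻¹ * y⁻¹ * v⁻¹ := by group
          _ = z * y * v := by rw [hy2, hz2, hsq (hV2 v hv)]
          _ = v * (z * y) := (hVn v hv (z * y) (Q.mul_mem hzQ hyQ)).symm
          _ = _ := by rw [hzy]; group }
  have hmemX : ∀ {x : G}, x ∈ X ↔ ∃ v ∈ V, ∃ y, (y = 1 ∨ y = n) ∧ ∃ z, (z = 1 ∨ z = n') ∧ x = v * y * z := Iff.rfl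
  have hVX : V ≤ X := fun v hv => ⟨v, hv, 1, Or.inl rfl, 1, Or.inl rfl, by group⟩
  have hnX : n ∈ X := ⟨1, V.one_mem, n, Or.inr rfl, 1, Or.inl rfl, by group⟩
  have hn'X : n' ∈ X := ⟨1, V.one_mem, 1, Or.inl rfl, n', Or.inr rfl, by group⟩
  have hXQ : X ≤ Q := by
    rintro x ⟨v, hv, y, hy, z, hz, rfl⟩
    have hyQ : y ∈ Q := by rcases hy with rfl | rfl; exacts [Q.one_mem, hn]
    have hzQ : z ∈ Q := by rcases hz with rfl | rfl; exacts [Q.one_mem, hn'Q']
    exact Q.mul_mem (Q.mul_mem (hVleQ hv) hyQ) hzQ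
  have hXc : ∀ x ∈ X, ∀ y ∈ X, x * y = y * x := by
    rintro x ⟨v, hv, y, hy, z, hz, rfl⟩ x' hx'
    have e1 : v * x' = x' * v := hVn v hv x' (hXQ hx')
    obtain ⟨v', hv', y', hy', z', hz', rfl⟩ := hx'
    have hyz : ∀ w, (w = 1 ∨ w = n ∨ w = n') → w * (v' * y' * z') = v' * y' * z' * w := by
      intro w hw
      have hwQ : w ∈ Q := by rcases hw with rfl | rfl | rfl; exacts [Q.one_mem, hn, hn'Q']
      have hwy : w * y' = y' * w := by
        rcases hw with rfl | rfl | rfl <;> rcases hy' with rfl | rfl <;>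
          first | (simp; done) | exact hnn.symm | rfl
      have hwz : w * z' = z' * w := by
        rcases hw with rfl | rfl | rfl <;> rcases hz' with rfl | rfl <;>
          first | (simp; done) | exact hnn | rfl
      calc w * (v' * y' * z') = (w * v') * y' * z' := by group
        _ = v' * (w * y') * z' := by rw [← hVn v' hv' w hwQ]; group
        _ = v' * y' * (w * z') := by rw [hwy]; group
        _ = _ := by rw [hwz]; group
    have e2 : y * (v' * y' * z') = v' * y' * z' * y := hyz y (by rcases hy with h | h <;> simp [h])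
    have e3 : z * (v' * y' * z') = v' * y' * z' * z := hyz z (by rcases hz with h | h <;> simp [h])
    calc v * y * z * (v' * y' * z') = v * y * (z * (v' * y' * z')) := by group
      _ = v * (y * (v' * y' * z')) * z := by rw [e3]; group
      _ = (v * (v' * y' * z')) * y * z := by rw [e2]; group
      _ = _ := by rw [e1]; group
  have hX2 : ∀ x ∈ X, x * x = 1 := by
    rintro x ⟨v, hv, y, hy, z, hz, rfl⟩
    have hyX : y ∈ X := by rcases hy with rfl | rfl; exacts [X.one_mem, hnX]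
    have hzX : z ∈ X := by rcases hz with rfl | rfl; exacts [X.one_mem, hn'X]
    have hy2 : y * y = 1 := by rcases hy with rfl | rfl; exacts [one_mul 1, hn2]
    have hz2 : z * z = 1 := by rcases hz with rfl | rfl; exacts [one_mul 1, hn'2]
    have e1 := hXc (v * y) (X.mul_mem (hVX hv) hyX) z hzX
    have e2 := hXc v (hVX hv) y hyX
    calc v * y * z * (v * y * z) = (v * y) * (z * (v * y)) * z := by group
      _ = (v * y) * ((v * y) * z) * z := by rw [← e1]
      _ = (v * y) * (v * y) * (z * z) := by group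
      _ = v * (y * v) * y := by rw [hz2]; group
      _ = (v * v) * (y * y) := by rw [← e2]; group
      _ = 1 := by rw [hV2 v hv, hy2, one_mul]
  -- `A ≤ N(X)`
  have huX : u ∈ X := hVX hu
  have hu'X : u' ∈ X := hVX hauV
  have hE₀X : ∀ e ∈ A, e ∈ centralizer (V : Set G) → ∀ x ∈ X, e * x * e⁻¹ ∈ X := by
    rintro e heA he x ⟨v, hv, y, hy, z, hz, rfl⟩
    have heQ : e ∈ Q := hE₀ ⟨heA, he⟩
    have hev : e * v * e⁻¹ = v := by
      have := mem_centralizer_iff.1 he v hv
      rw [← this]; group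
    have hen : ∀ w t, w ∈ X → t ∈ X → (w * e * w⁻¹ * e⁻¹ = 1 ∨ w * e * w⁻¹ * e⁻¹ = t) → e * w * e⁻¹ ∈ X := by
      intro w t hw ht h
      have h1 : e * w * e⁻¹ = (w * e * w⁻¹ * e⁻¹)⁻¹ * w := by group
      rw [h1]
      rcases h with h | h
      · rw [h]; exact X.mul_mem (X.inv_mem X.one_mem) hw
      · rw [h]; exact X.mul_mem (X.inv_mem ht) hw
    have hy3 : e * y * e⁻¹ ∈ X := by
      rcases hy with rfl | rfl
      · rw [show e * 1 * e⁻¹ = 1 by group]; exact X.one_mem
      · exact hen _ u hnX huX (hnQ e heQ)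
    have hz3 : e * z * e⁻¹ ∈ X := by
      rcases hz with rfl | rfl
      · rw [show e * 1 * e⁻¹ = 1 by group]; exact X.one_mem
      · exact hen _ u' hn'X hu'X (hn'Q e heQ)
    have h1 : e * (v * y * z) * e⁻¹ = (e * v * e⁻¹) * (e * y * e⁻¹) * (e * z * e⁻¹) := by group
    rw [h1, hev]
    exact X.mul_mem (X.mul_mem (hVX hv) hy3) hz3
  have haX : ∀ x ∈ X, a * x * a⁻¹ ∈ X := by
    rintro x ⟨v, hv, y, hy, z, hz, rfl⟩
    have h1 : a * (v * y * z) * a⁻¹ = (a * v * a⁻¹) * (a * y * a⁻¹) * (a * z * a⁻¹) := by group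
    rw [h1]
    have hy3 : a * y * a⁻¹ ∈ X := by
      rcases hy with rfl | rfl
      · rw [show a * 1 * a⁻¹ = 1 by group]; exact X.one_mem
      · exact hn'X
    have hz3 : a * z * a⁻¹ ∈ X := by
      rcases hz with rfl | rfl
      · rw [show a * 1 * a⁻¹ = 1 by group]; exact X.one_mem
      · have : a * (a * n * a⁻¹) * a⁻¹ = (a * a) * n * (a * a)⁻¹ := by group
        rw [hn', this, ha2]
        simpa using hnX
    exact X.mul_mem (X.mul_mem (hVX (hAV a haA v hv)) hy3) hz3
  have hAXm : ∀ b ∈ A, ∀ x ∈ X, b * x * b⁻¹ ∈ X := by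
    intro b hb x hx
    rcases hidx b hb with h | h
    · exact hE₀X b hb h x hx
    · have h1 := hE₀X (a * b) (A.mul_mem haA hb) h x hx
      have h2 := haX _ h1
      have h3 : a * (a * b * x * (a * b)⁻¹) * a⁻¹ = (a * a) * (b * x * b⁻¹) * (a * a)⁻¹ := by group
      rw [h3, ha2] at h2
      simpa using h2
  have hAX : A ≤ normalizer (X : Set G) := by
    intro b hb
    refine mem_normalizer_iff.2 fun x => ⟨fun hx => hAXm b hb x hx, fun hx => ?_⟩
    have := hAXm b⁻¹ (A.inv_mem hb) _ hx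
    have h1 : b⁻¹ * (b * x * b⁻¹) * b⁻¹⁻¹ = x := by group
    rwa [h1] at this
  have hXel : IsElementaryAbelian 2 X :=
    OddOrderLocal.RankBasics.isElementaryAbelian_iff.2 ⟨fun x hx y hy => hXc x hx y hy,
      fun x hx => by rw [pow_two]; exact hX2 x hx⟩
  -- best
  refine fixX (X := X) (A := A) (a := a) (u := u) (n := n) hXc hX2 hVX hVQ ?_ hAX hE₀ ?_ haA haQ hidx hu hau
    hauV hnX hnQ
  · intro b hb c hc
    rw [hAc b hb c hc]
    have : c * b * b⁻¹ * c⁻¹ = 1 := by group
    rw [this]; exact one_mem _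
  · intro E hE1 hE
    have hEel : IsElementaryAbelian 2 E :=
      OddOrderLocal.RankBasics.isElementaryAbelian_iff.2 ⟨fun x hx y hy => hAc x (hE hx) y (hE hy),
        fun x hx => hAel.2 x (hE hx)⟩
    have hCel : IsElementaryAbelian 2 (X ⊓ centralizer (E : Set G) : Subgroup G) :=
      OddOrderLocal.RankBasics.isElementaryAbelian_iff.2 ⟨fun x hx y hy => hXc x hx.1 y hy.1,
        fun x hx => by rw [pow_two]; exact hX2 x hx.1⟩
    have hcm : ∀ e ∈ E, ∀ x ∈ (X ⊓ centralizer (E : Set G) : Subgroup G), e * x = x * e :=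
      fun e he x hx => mem_centralizer_iff.1 hx.2 e he
    have h1 := WeakTI.FlatLine.card_sup_mul_card_inf (U := E) (V := X ⊓ centralizer (E : Set G)) hcm
    have h2 := hAT.2.2 (E ⊔ (X ⊓ centralizer (E : Set G)))
      (sup_le (hE.trans hAT.1) (inf_le_left.trans (hXQ.trans hQT)))
      (OddOrderLocal.RankBasics.isElementaryAbelian_sup hEel hCel hcm)
    have h3 : Nat.card ↥(E ⊓ (X ⊓ centralizer (E : Set G))) ≤ Nat.card ↥(X ⊓ centralizer (A : Set G)) := by
      refine Subgroup.card_le_of_le ?_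
      refine fun x hx => ⟨hx.2.1, mem_centralizer_iff.2 fun b hb => hAc b hb x (hE hx.1)⟩
    calc Nat.card E * Nat.card ↥(X ⊓ centralizer (E : Set G)) = _ := h1.symm
      _ ≤ _ := Nat.mul_le_mul h2 h3

end fix

end Cfsg.Agent.Omega.NO3S.ESym.Fix
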