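import Cfsg.Agent.MinSimple.MinParabolic
import Mathlib.Algebra.Group.Subgroup.Pointwise

/-!
# SymMany (E): (QP) and LEMMA G' (bb #22692 (1), (2)), abstract part

`T ≤ D ≤ H`, `z` fixed by `T`.

* `qp` : if `⟨R, D⟩ = H` for every minimal parabolic `R ≤ H` over `T` and for `R = N_H(T)`, provided `R` moves `z`,
  then `H = K D` for every `K` normalised by `H` which moves `z`;
* `conj_mem` : `C = H ∩ C(V₁)` is normalised by `E` if `E` normalises `V₁`, fixes `z`, and `E` fixes `z^g` for the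
  elements `g` of `C ∩ R`, `R ≤ C T` as before (`C(V₁) ∩ C(z) ≤ H`);
* `not_le` : (G') no `K ≤ C(V₁)` normalised by `H` moves `z`, if `H` and `E` do not normalise a common nontrivial
  group `⟨z^H⟩`.
-/

set_option autoImplicit false

namespace Cfsg.Agent.Omega.NO3S.ESym.GP

open Subgroup Cfsg.Agent.MinSimple.MinParabolic
open scoped Pointwise

universe u

variable {G : Type u} [Group G] [Finite G] {T D H V₁ E K : Subgroup G} {z : G}

omit [Finite G] in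
/-- `C T = {c t}` if `T` normalises `C`. -/
theorem mem_sup_of_normal_right' {C T : Subgroup G} (h : T ≤ normalizer (C : Set G)) {x : G} :
    x ∈ C ⊔ T ↔ ∃ c ∈ C, ∃ t ∈ T, x = c * t := by
  constructor
  · intro hx
    rw [← SetLike.mem_coe, coe_mul_of_right_le_normalizer_left C T h] at hx
    obtain ⟨c, hc, t, ht, e⟩ := Set.mem_mul.1 hx
    exact ⟨c, hc, t, ht, e.symm⟩
  · rintro ⟨c, hc, t, ht, rfl⟩
    exact mul_mem (mem_sup_left hc) (mem_sup_right ht)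

/-- A subgroup over `T` which moves `z` contains a minimal parabolic over `T`, or the normaliser of `T` in it, which
moves `z`. -/
theorem exists_mover {X : Subgroup G} (hT : T ≤ X) (hX : ∃ x ∈ X, x * z ≠ z * x) :
    ∃ R : Subgroup G, R ≤ X ∧ (IsMinPar T R ∨ R = X ⊓ normalizer (T : Set G)) ∧ ∃ r ∈ R, r * z ≠ z * r := by
  by_contra hcon
  push Not at hcon
  obtain ⟨x, hx, hxz⟩ := hX
  have h1 : X ≤ centralizer {z} := by
    refine le_of_forall hT (fun r hr => ?_) fun P hP hPX r hr => ?_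
    · exact mem_centralizer_singleton_iff.2 (hcon _ inf_le_left (Or.inr rfl) r hr)
    · exact mem_centralizer_singleton_iff.2 (hcon P hPX (Or.inl hP) r hr)
  exact hxz (mem_centralizer_singleton_iff.1 (h1 hx))

/-- **(QP)** -/
theorem qp (hTH : T ≤ H) (hTD : T ≤ D)
    (mov : ∀ R : Subgroup G, R ≤ H → (IsMinPar T R ∨ R ≤ normalizer (T : Set G)) → T ≤ R →
      (∃ r ∈ R, r * z ≠ z * r) → H ≤ R ⊔ D)
    (hKH : K ≤ H) (hK : ∃ k ∈ K, k * z ≠ z * k) : H ≤ K ⊔ D := by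
  obtain ⟨k, hk, hkz⟩ := hK
  obtain ⟨R, hR, hRt, hRz⟩ := exists_mover (T := T) (X := K ⊔ T) le_sup_right
    ⟨k, mem_sup_left hk, hkz⟩
  have hTR : T ≤ R := by
    rcases hRt with h | h
    · exact h.le
    · rw [h]; exact le_inf le_sup_right le_normalizer
  have h1 := mov R (hR.trans (sup_le hKH hTH)) (hRt.imp_right fun h => h.trans_le inf_le_right) hTR hRz
  exact h1.trans (sup_le (hR.trans (sup_le le_sup_left (hTD.trans le_sup_right))) le_sup_right)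

/-! ### `C = H ∩ C(V₁)` is normalised by `E` -/

/-- the elements of `C` all of whose `E`-conjugates lie in `H` -/
def SS (H V₁ E : Subgroup G) : Subgroup G where
  carrier := {g | (g ∈ H ∧ g ∈ centralizer (V₁ : Set G)) ∧ ∀ l ∈ E, l⁻¹ * g * l ∈ H}
  mul_mem' := by
    rintro a b ⟨⟨h1, h2⟩, h3⟩ ⟨⟨h4, h5⟩, h6⟩
    refine ⟨⟨mul_mem h1 h4, mul_mem h2 h5⟩, fun l hl => ?_⟩
    have e : l⁻¹ * (a * b) * l = l⁻¹ * a * l * (l⁻¹ * b * l) := by group
    rw [e]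
    exact mul_mem (h3 l hl) (h6 l hl)
  one_mem' := ⟨⟨one_mem _, one_mem _⟩, fun l _ => by
    have e : l⁻¹ * 1 * l = 1 := by group
    rw [e]; exact one_mem _⟩
  inv_mem' := by
    rintro a ⟨⟨h1, h2⟩, h3⟩
    refine ⟨⟨inv_mem h1, inv_mem h2⟩, fun l hl => ?_⟩
    have e : l⁻¹ * a⁻¹ * l = (l⁻¹ * a * l)⁻¹ := by group
    rw [e]
    exact inv_mem (h3 l hl)

omit [Finite G] in
theorem mem_SS {g : G} : g ∈ SS H V₁ E ↔ (g ∈ H ∧ g ∈ centralizer (V₁ : Set G)) ∧ ∀ l ∈ E, l⁻¹ * g * l ∈ H :=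
  Iff.rfl

omit [Finite G] in
theorem mem_cz {v g : G} : g ∈ centralizer {v} ↔ g * v = v * g := by
  rw [mem_centralizer_singleton_iff]

omit [Finite G] in
theorem conj_cent {l g : G} (hl : l ∈ normalizer (V₁ : Set G)) (hg : g ∈ centralizer (V₁ : Set G)) :
    l⁻¹ * g * l ∈ centralizer (V₁ : Set G) := by
  rw [mem_centralizer_iff] at hg ⊢
  intro v hv
  have h1 : l * v * l⁻¹ ∈ V₁ := (mem_normalizer_iff.1 hl v).1 hv
  have h2 := hg _ h1
  calc v * (l⁻¹ * g * l) = l⁻¹ * (l * v * l⁻¹ * g) * l := by group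
    _ = l⁻¹ * (g * (l * v * l⁻¹)) * l := by rw [h2]
    _ = l⁻¹ * g * l * v := by group

omit [Finite G] in
/-- one element -/
theorem mem_SS_of {g : G} (hE : E ≤ normalizer (V₁ : Set G)) (hEz : ∀ l ∈ E, l * z = z * l)
    (hcz : centralizer (V₁ : Set G) ⊓ centralizer {z} ≤ H) (hg : g ∈ H) (hgc : g ∈ centralizer (V₁ : Set G))
    (hgz : ∀ l ∈ E, l * (g⁻¹ * z * g) = g⁻¹ * z * g * l) : g ∈ SS H V₁ E := by
  refine mem_SS.2 ⟨⟨hg, hgc⟩, fun l hl => ?_⟩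
  have h1 : l⁻¹ * g * l * g⁻¹ ∈ centralizer (V₁ : Set G) ⊓ centralizer {z} := by
    refine mem_inf.2 ⟨mul_mem (conj_cent (hE hl) hgc) (inv_mem hgc), mem_cz.2 ?_⟩
    have h2 := hgz l hl
    have h3 := hEz l hl
    calc l⁻¹ * g * l * g⁻¹ * z = l⁻¹ * g * (l * (g⁻¹ * z * g)) * g⁻¹ := by group
      _ = l⁻¹ * g * (g⁻¹ * z * g * l) * g⁻¹ := by rw [h2]
      _ = l⁻¹ * (z * g * l * g⁻¹) := by group
      _ = l⁻¹ * (z * l) * l⁻¹ * (g * l * g⁻¹) := by group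
      _ = l⁻¹ * (l * z) * l⁻¹ * (g * l * g⁻¹) := by rw [h3]
      _ = z * (l⁻¹ * g * l * g⁻¹) := by group
  have h2 := mul_mem (hcz h1) hg
  have e : l⁻¹ * g * l * g⁻¹ * g = l⁻¹ * g * l := by group
  rwa [e] at h2

/-- **`C = H ∩ C(V₁)` is normalised by `E`.** -/
theorem conj_mem (hTH : T ≤ H) (hTV : T ≤ normalizer (V₁ : Set G)) (hTE : T ≤ normalizer (E : Set G))
    (hE : E ≤ normalizer (V₁ : Set G)) (hEz : ∀ l ∈ E, l * z = z * l)
    (hcz : centralizer (V₁ : Set G) ⊓ centralizer {z} ≤ H)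
    (typ : ∀ R : Subgroup G, R ≤ H ⊓ centralizer (V₁ : Set G) ⊔ T → T ≤ R →
      (IsMinPar T R ∨ R ≤ normalizer (T : Set G)) → ∀ g ∈ R, g ∈ centralizer (V₁ : Set G) →
        ∀ l ∈ E, l * (g * z * g⁻¹) = g * z * g⁻¹ * l)
    {g : G} (hg : g ∈ H ⊓ centralizer (V₁ : Set G)) {l : G} (hl : l ∈ E) :
    l⁻¹ * g * l ∈ H ⊓ centralizer (V₁ : Set G) := by
  set C := H ⊓ centralizer (V₁ : Set G) with hC
  have hCT : T ≤ normalizer (C : Set G) := by
    intro t ht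
    rw [mem_normalizer_iff]
    intro c
    constructor
    · intro hc
      have h1 := conj_cent (inv_mem (hTV ht)) (mem_inf.1 hc).2
      rw [inv_inv] at h1
      exact mem_inf.2 ⟨mul_mem (mul_mem (hTH ht) (mem_inf.1 hc).1) (inv_mem (hTH ht)), h1⟩
    · intro hc
      have h1 := conj_cent (hTV ht) (mem_inf.1 hc).2
      have e : t⁻¹ * (t * c * t⁻¹) * t = c := by group
      have h2 := mul_mem (mul_mem (inv_mem (hTH ht)) (mem_inf.1 hc).1) (hTH ht)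
      rw [e] at h1 h2
      exact mem_inf.2 ⟨h2, h1⟩
  have hone : ∀ R : Subgroup G, R ≤ C ⊔ T → T ≤ R → (IsMinPar T R ∨ R ≤ normalizer (T : Set G)) →
      ∀ g ∈ R, g ∈ C → g ∈ SS H V₁ E := by
    intro R hR hTR hRt g hg hgC
    refine mem_SS_of hE hEz hcz (mem_inf.1 hgC).1 (mem_inf.1 hgC).2 fun l hl => ?_
    have h1 := typ R hR hTR hRt g⁻¹ (inv_mem hg) (inv_mem (mem_inf.1 hgC).2) l hl
    rwa [inv_inv] at h1
  have hsplit : ∀ R : Subgroup G, R ≤ C ⊔ T → T ≤ R → (IsMinPar T R ∨ R ≤ normalizer (T : Set G)) →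
      R ≤ SS H V₁ E ⊔ T := by
    intro R hR hTR hRt r hr
    obtain ⟨c, hc, t, ht, rfl⟩ := (mem_sup_of_normal_right' hCT).1 (hR hr)
    exact mul_mem (mem_sup_left (hone R hR hTR hRt c
      (by simpa using mul_mem hr (inv_mem (hTR ht))) hc)) (mem_sup_right ht)
  have hle : C ⊔ T ≤ SS H V₁ E ⊔ T := by
    refine le_of_forall le_sup_right ?_ fun P hP hPX => hsplit P hPX hP.le (Or.inl hP)
    exact hsplit _ inf_le_left (le_inf le_sup_right le_normalizer) (Or.inr inf_le_right)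
  have hST : T ≤ normalizer (SS H V₁ E : Set G) := by
    intro t ht
    have key : ∀ s ∈ T, ∀ c, c ∈ SS H V₁ E → s * c * s⁻¹ ∈ SS H V₁ E := by
      intro s hs c hc
      obtain ⟨hc1, hc2⟩ := mem_SS.1 hc
      refine mem_SS.2 ⟨mem_inf.1 ((mem_normalizer_iff.1 (hCT hs) c).1 (mem_inf.2 hc1)), fun l hl => ?_⟩
      have h1 : s⁻¹ * l * s ∈ E := by
        have h2 := (mem_normalizer_iff.1 (inv_mem (hTE hs)) l).1 hl
        rwa [inv_inv] at h2
      have h2 := mul_mem (mul_mem (hTH hs) (hc2 _ h1)) (inv_mem (hTH hs))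
      have e : s * ((s⁻¹ * l * s)⁻¹ * c * (s⁻¹ * l * s)) * s⁻¹ = l⁻¹ * (s * c * s⁻¹) * l := by group
      rwa [e] at h2
    rw [mem_normalizer_iff]
    intro c
    refine ⟨key t ht c, fun hc => ?_⟩
    have h1 := key t⁻¹ (inv_mem ht) _ hc
    have e : t⁻¹ * (t * c * t⁻¹) * t⁻¹⁻¹ = c := by group
    rwa [e] at h1
  have hgS : g ∈ SS H V₁ E := by
    obtain ⟨s, hs, t, ht, rfl⟩ := (mem_sup_of_normal_right' hST).1 (hle (mem_sup_left hg))
    have h1 : t ∈ C := by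
      have h2 := mul_mem (inv_mem (mem_inf.2 (mem_SS.1 hs).1 : s ∈ C)) hg
      have e : s⁻¹ * (s * t) = t := by group
      rwa [e] at h2
    exact mul_mem hs (hone T le_sup_right le_rfl (Or.inr le_normalizer) t ht h1)
  exact mem_inf.2 ⟨(mem_SS.1 hgS).2 l hl, conj_cent (hE hl) (mem_inf.1 hg).2⟩

/-- **(G')** No `K ≤ C(V₁)` normalised by `H` moves `z`, if the 2-group `⟨z^H⟩` cannot be normalised by `H` and
`E`. -/
theorem not_le (hTH : T ≤ H) (hTV : T ≤ normalizer (V₁ : Set G)) (hTE : T ≤ normalizer (E : Set G))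
    (hE : E ≤ normalizer (V₁ : Set G)) (hEz : ∀ l ∈ E, l * z = z * l)
    (hcz : centralizer (V₁ : Set G) ⊓ centralizer {z} ≤ H)
    (typ : ∀ R : Subgroup G, R ≤ H ⊓ centralizer (V₁ : Set G) ⊔ T → T ≤ R →
      (IsMinPar T R ∨ R ≤ normalizer (T : Set G)) → ∀ g ∈ R, g ∈ centralizer (V₁ : Set G) →
        ∀ l ∈ E, l * (g * z * g⁻¹) = g * z * g⁻¹ * l)
    (qp : H ≤ K ⊔ D) (hD : ∀ d ∈ D, d * z = z * d) (hKH : K ≤ H) (hHK : H ≤ normalizer (K : Set G))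
    (hDH : D ≤ H)
    (nl : ∀ U : Subgroup G, U = closure {x | ∃ h ∈ H, x = h * z * h⁻¹} → H ≤ normalizer (U : Set G) →
      ¬ E ≤ normalizer (U : Set G)) : ¬ K ≤ centralizer (V₁ : Set G) := by
  intro hK
  set U := closure {x | ∃ h ∈ H, x = h * z * h⁻¹} with hU
  have hnorm : ∀ L : Subgroup G, (∀ l ∈ L, ∀ h ∈ H, l * (h * z * h⁻¹) * l⁻¹ ∈ U) →
      L ≤ normalizer (U : Set G) := by
    intro L hL l hl
    have key : ∀ l ∈ L, ∀ u ∈ U, l * u * l⁻¹ ∈ U := by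
      intro l hl u hu
      have h1 : U ≤ U.comap (MulAut.conj l).toMonoidHom := by
        rw [hU, closure_le]
        rintro _ ⟨h, hh, rfl⟩
        exact hL l hl h hh
      exact h1 hu
    rw [mem_normalizer_iff]
    intro u
    refine ⟨key l hl u, fun hu => ?_⟩
    have h1 := key l⁻¹ (inv_mem hl) _ hu
    have e : l⁻¹ * (l * u * l⁻¹) * l⁻¹⁻¹ = u := by group
    rwa [e] at h1
  refine nl U rfl (hnorm H fun l hl h hh => subset_closure ⟨l * h, mul_mem hl hh, by group⟩) (hnorm E ?_)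
  intro l hl h hh
  obtain ⟨k, hk, d, hd, rfl⟩ := (mem_sup_of_normal_right' (hDH.trans hHK)).1 (qp hh)
  have h1 : k * d * z * (k * d)⁻¹ = k * z * k⁻¹ := by
    calc k * d * z * (k * d)⁻¹ = k * (d * z) * d⁻¹ * k⁻¹ := by group
      _ = k * (z * d) * d⁻¹ * k⁻¹ := by rw [hD d hd]
      _ = k * z * k⁻¹ := by group
  rw [h1]
  have hTE' : ∀ l ∈ E, l⁻¹ ∈ E := fun l hl => inv_mem hl
  have h2 := conj_mem hTH hTV hTE hE hEz hcz typ (mem_inf.2 ⟨hKH hk, hK hk⟩) (hTE' l hl)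
  rw [inv_inv] at h2
  refine subset_closure ⟨l * k * l⁻¹, (mem_inf.1 h2).1, ?_⟩
  have h3 := hEz l hl
  calc l * (k * z * k⁻¹) * l⁻¹ = l * k * l⁻¹ * (l * z) * k⁻¹ * l⁻¹ := by group
    _ = l * k * l⁻¹ * (z * l) * k⁻¹ * l⁻¹ := by rw [h3]
    _ = l * k * l⁻¹ * z * (l * k * l⁻¹)⁻¹ := by group

end Cfsg.Agent.Omega.NO3S.ESym.GP
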