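import Cfsg.Agent.Omega.TC.No
import Cfsg.Agent.Omega.NO3S.EThree.ExactA

/-!
# SymManyL (E): the heavy pair `HP` (paper: bb OMEGA #22692, helper900, THEOREM KLF_k), all `k, m, d`

`F j`, `Fp j`, `E j` (`j : ι`): the factors `V_j`, the hyperplanes `V_j⁺ = z_j^⊥`, the groups `E_j`; `b : Fin 2 → ι` the
two partners, `z : Fin 2 → G` the heavy vectors `z i ∈ F (b i)`.

* `DD z = C(z 0) ∩ C(z 1)`, `HH z E b i = H_i = ⟨D, E (b (i+1))⟩`, `NN z E b i = N_i = ⟨z (i+1) ^ H_i⟩`;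
* `HP T V F E Fp b z` : the axioms (fields `qp`, `gp` = (1), (2) of the text);
* `HP.zc_le_Q`, `HP.F_le_Q` (LEMMA K), `HP.V_le_O`, `HP.N_le_Q`, `HP.Q_le_cent_N`, `HP.eab_N`;
* `HP.no`, `HP.no_N`, `HP.no_M`, `HP.no_C` : **(NO)** for `H_i` on `N_i`, `N_i / ⟨z i⟩`, for `C_{H_i}(V_i) T` on `U_F`.
-/

set_option autoImplicit false
set_option linter.unusedSectionVars false

namespace Cfsg.Agent.Omega.NO3S.ESym

open Subgroup Cfsg Cfsg.Agent.Omega.MinPar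
open Cfsg.Agent.ZN (o2 zc jj zj)
open Cfsg.Agent.Omega.OM.KTwo (ne_add_one eq_add_one add_one_add_one le_normalizer_V le_V)
open Cfsg.Agent.Omega.NoFF.Basic (conj_conj mem_conj conj_le_iff conj_le_centralizer comm_symm comm_mono V_le)
open Cfsg.Agent.Omega.NOThreeL.Pair (conj_eq_of_mem)
open Cfsg.Agent.ZN.ChoiceSit (Syl)
open Cfsg.Agent.ZN.ChoiceBase (AA mm mm_eq mem_AA_iff AA_nonempty card_le_mm cj_mem_AA mm_cj mm_mono mem_zc)
open Cfsg.Agent.Omega.NO3S.EThree.ExactA (eab_iff eab_mono eab_sup swp)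
open Cfsg.Agent.MinSimple.VModule (le_normalizer_o2 le_o2 o2_le o2_isPGroup)
open scoped Pointwise

universe u

variable {G : Type u} [Group G]

/-- `C_G(z 0) ∩ C_G(z 1)` -/
def DD (z : Fin 2 → G) : Subgroup G := centralizer ({z 0} : Set G) ⊓ centralizer ({z 1} : Set G)

/-- `H_i = ⟨D, E_{b (i+1)}⟩` -/
def HH {ι : Type} (z : Fin 2 → G) (E : ι → Subgroup G) (b : Fin 2 → ι) (i : Fin 2) : Subgroup G :=
  DD z ⊔ E (b (i + 1))

/-- `N_i = ⟨z_{i+1} ^ H_i⟩` -/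
def NN {ι : Type} (z : Fin 2 → G) (E : ι → Subgroup G) (b : Fin 2 → ι) (i : Fin 2) : Subgroup G :=
  NoFF.Basic.V (zpowers (z (i + 1))) (HH z E b i)

theorem mem_DD {z : Fin 2 → G} (i : Fin 2) {c : G} :
    c ∈ DD z ↔ c ∈ centralizer ({z i} : Set G) ∧ c ∈ centralizer ({z (i + 1)} : Set G) := by
  rcases Fin.exists_fin_two.1 ⟨i, rfl⟩ with h | h
  · rw [h]; exact Iff.rfl
  · rw [h]; exact and_comm

theorem DD_le {z : Fin 2 → G} (i : Fin 2) : DD z ≤ centralizer ({z i} : Set G) := fun _ h => ((mem_DD i).1 h).1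

/-- **The heavy pair.** -/
structure HP [Finite G] (T V : Subgroup G) {ι : Type} (F E Fp : ι → Subgroup G) (b : Fin 2 → ι) (z : Fin 2 → G) :
    Prop where
  syl : ∀ i, Syl T (HH z E b i)
  TD : T ≤ DD z
  char2 : ∀ i, HH z E b i ⊓ centralizer (o2 (HH z E b i) : Set G) ≤ o2 (HH z E b i)
  /-- the module `V` -/
  sqV : ∀ x ∈ V, x ^ 2 = 1
  VC : V ≤ centralizer (V : Set G)
  VT : V ≤ T
  FV : ∀ j, F j ≤ V
  supV : V ≤ ⨆ j, F j
  /-- `Ω₁Z(C_T(V)) ≤ V` -/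
  zQ : ∀ x ∈ T ⊓ centralizer (V : Set G), x ^ 2 = 1 → (∀ y ∈ T ⊓ centralizer (V : Set G), y * x = x * y) → x ∈ V
  inj : b 0 ≠ b 1
  mem : ∀ i, z i ∈ F (b i)
  ne : ∀ i, z i ≠ 1
  TF : ∀ i, T ≤ normalizer (F (b i) : Set G)
  /-- the groups `E_j` -/
  EN : ∀ i, E (b i) ≤ normalizer (F (b i) : Set G)
  EC : ∀ i j, j ≠ b i → E j ≤ centralizer (F (b i) : Set G)
  ED : ∀ j, j ≠ b 0 → j ≠ b 1 → E j ≤ DD z
  /-- `V_j ≤ ⟨Ω₁Z(T) ^ E_j⟩` -/
  Zx : ∀ (j : ι) (X : Subgroup G), zc T ≤ X → E j ≤ normalizer (X : Set G) → F j ≤ X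
  /-- `V_{b i} = ⟨z_i ^ E_{b i}⟩` -/
  zx : ∀ (i : Fin 2) (X : Subgroup G), z i ∈ X → E (b i) ≤ normalizer (X : Set G) → F (b i) ≤ X
  /-- `C_V(⟨E_j : j ≠ b i⟩) = V_{b i}` -/
  cE : ∀ (i : Fin 2), ∀ x ∈ V, (∀ j, j ≠ b i → ∀ e ∈ E j, e * x = x * e) → x ∈ F (b i)
  /-- `z i` is the only fixed vector of `T` on `F (b i)` -/
  zfix : ∀ i, ∀ x ∈ F (b i), (∀ t ∈ T, t * x = x * t) → x = 1 ∨ x = z i
  /-- the hyperplanes -/
  FpF : ∀ i, Fp (b i) ≤ F (b i)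
  FpT : ∀ i, T ≤ normalizer (Fp (b i) : Set G)
  Fpi : ∀ i, ∀ x ∈ F (b i), ∀ y ∈ F (b i), x ∉ Fp (b i) → y ∉ Fp (b i) → x * y⁻¹ ∈ Fp (b i)
  /-- `T C_{E_i}(z_i)`-submodules of `V_i` -/
  sub : ∀ (i : Fin 2) (Y : Subgroup G), Y ≤ F (b i) → T ≤ normalizer (Y : Set G) →
    E (b i) ⊓ centralizer ({z i} : Set G) ≤ normalizer (Y : Set G) → ¬ Y ≤ zpowers (z i) → Fp (b i) ≤ Y
  /-- no transvection with centre `z i` -/
  notv : ∀ i, ∀ t ∈ T, (∀ x ∈ F (b i), t * x * t⁻¹ * x⁻¹ ∈ zpowers (z i)) → t ∈ centralizer (F (b i) : Set G)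
  /-- `T` is faithful on the hyperplane -/
  faith : ∀ i, T ⊓ centralizer (Fp (b i) : Set G) ≤ centralizer (F (b i) : Set G)
  /-- no offender in `O₂(D)` on `V` -/
  offO : ∀ A : Subgroup G, A ≤ o2 (DD z) → IsElementaryAbelian 2 A →
    (centralizer (A : Set G)).relIndex V ≤ (centralizer (V : Set G)).relIndex A → A ≤ centralizer (V : Set G)
  swap : ∃ s : G, MulAut.conj s • T = T ∧ ∀ i, s * z i * s⁻¹ = z (i + 1) ∧ MulAut.conj s • F (b i) = F (b (i + 1)) ∧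
    MulAut.conj s • E (b i) = E (b (i + 1)) ∧ MulAut.conj s • Fp (b i) = Fp (b (i + 1))
  nonloc : NonLoc (HH z E b 0) (HH z E b 1)
  /-- **(1) QP** -/
  qp : ∀ (i : Fin 2) (K : Subgroup G), K ≤ HH z E b i → HH z E b i ≤ normalizer (K : Set G) →
    ¬ K ≤ centralizer ({z (i + 1)} : Set G) → HH z E b i ≤ K ⊔ DD z
  /-- **(2) G'** -/
  gp : ∀ i : Fin 2, E (b i) ≤ normalizer ((HH z E b i ⊓ centralizer (F (b i) : Set G) : Subgroup G) : Set G)

namespace HP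

variable [Finite G] {T V : Subgroup G} {ι : Type} {F E Fp : ι → Subgroup G} {b : Fin 2 → ι} {z : Fin 2 → G}
  (D : HP T V F E Fp b z)

include D

/-! ### Easy facts -/

theorem b_ne (i : Fin 2) : b i ≠ b (i + 1) := by
  rcases Fin.exists_fin_two.1 ⟨i, rfl⟩ with h | h
  · rw [h]; exact D.inj
  · rw [h]; exact D.inj.symm

theorem T_isPGroup : IsPGroup 2 T := (D.syl 0).2.1

theorem T_le_H (i : Fin 2) : T ≤ HH z E b i := (D.syl i).1

omit D in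
theorem D_le_H (i : Fin 2) : DD z ≤ HH z E b i := le_sup_left

theorem E_le_H {i : Fin 2} {j : ι} (hj : j ≠ b i) : E j ≤ HH z E b i := by
  by_cases h : j = b (i + 1)
  · rw [h]; exact le_sup_right
  · have h1 : E j ≤ DD z := by
      rcases Fin.exists_fin_two.1 ⟨i, rfl⟩ with h0 | h0
      · rw [h0] at hj h; exact D.ED j hj h
      · rw [h0] at hj h; exact D.ED j h hj
    exact h1.trans le_sup_left

theorem E_le_C {i : Fin 2} {j : ι} (hj : j ≠ b i) : E j ≤ centralizer ({z i} : Set G) :=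
  (D.EC i j hj).trans (centralizer_le (Set.singleton_subset_iff.2 (D.mem i)))

theorem H_le_C (i : Fin 2) : HH z E b i ≤ centralizer ({z i} : Set G) :=
  sup_le (DD_le i) (D.E_le_C (D.b_ne i).symm)

theorem H_inf {i : Fin 2} {c : G} (hc : c ∈ HH z E b i) (hc' : c ∈ centralizer ({z (i + 1)} : Set G)) : c ∈ DD z :=
  (mem_DD i).2 ⟨D.H_le_C i hc, hc'⟩

theorem sup_H (i : Fin 2) : HH z E b i ⊔ E (b i) = HH z E b 0 ⊔ HH z E b 1 := by
  apply le_antisymm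
  · rcases Fin.exists_fin_two.1 ⟨i, rfl⟩ with h | h
    · rw [h]; exact sup_le le_sup_left (le_sup_of_le_right le_sup_right)
    · rw [h]; exact sup_le le_sup_right (le_sup_of_le_left le_sup_right)
  · rcases Fin.exists_fin_two.1 ⟨i, rfl⟩ with h | h
    · rw [h]; exact sup_le le_sup_left (sup_le (le_sup_of_le_left le_sup_left) le_sup_right)
    · rw [h]; exact sup_le (sup_le (le_sup_of_le_left le_sup_left) le_sup_right) le_sup_left

/-- A 2-group normalised by `H_i` and `E_{b i}` is trivial. -/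
theorem eq_bot_of {i : Fin 2} {X : Subgroup G} (hX : IsPGroup 2 X) (h1 : HH z E b i ≤ normalizer (X : Set G))
    (h2 : E (b i) ≤ normalizer (X : Set G)) : X = ⊥ := by
  have h : HH z E b 0 ⊔ HH z E b 1 ≤ normalizer (X : Set G) := by
    rw [← D.sup_H i]
    exact sup_le h1 h2
  exact D.nonloc X hX (le_sup_left.trans h) (le_sup_right.trans h)

theorem eq_bot_of' {i : Fin 2} {X : Subgroup G} (hX : IsPGroup 2 X) (h1 : HH z E b i ≤ normalizer (X : Set G))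
    (h2 : HH z E b (i + 1) ≤ normalizer (X : Set G)) : X = ⊥ :=
  D.eq_bot_of hX h1 (by
    refine le_trans ?_ h2
    have h : E (b (i + 1 + 1)) ≤ HH z E b (i + 1) := le_sup_right
    rwa [add_one_add_one] at h)

theorem z_mem_V (i : Fin 2) : z i ∈ V := D.FV _ (D.mem i)

theorem z_sq (i : Fin 2) : z i ^ 2 = 1 := D.sqV _ (D.z_mem_V i)

theorem T_comm (i : Fin 2) {t : G} (ht : t ∈ T) : t * z i = z i * t :=
  mem_centralizer_singleton_iff.1 (DD_le i (D.TD ht))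

theorem z_mem_zc (i : Fin 2) : z i ∈ zc T :=
  mem_zc.2 ⟨D.VT (D.z_mem_V i), D.z_sq i, fun _ ht => D.T_comm i ht⟩

theorem Q_le_T (i : Fin 2) : o2 (HH z E b i) ≤ T := ZN.ChoiceSit.o2_le_syl (D.syl i)

theorem O_le_T : o2 (DD z) ≤ T := by
  have h0 : Syl T (DD z) := ⟨D.TD, D.T_isPGroup, fun Q hQ hQ2 hTQ => (D.syl 0).2.2 Q (hQ.trans (D_le_H 0)) hQ2 hTQ⟩
  exact ZN.ChoiceSit.o2_le_syl h0

theorem sylD : Syl T (DD z) := ⟨D.TD, D.T_isPGroup, fun Q hQ hQ2 hTQ => (D.syl 0).2.2 Q (hQ.trans (D_le_H 0)) hQ2 hTQ⟩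

/-- `Q_i ≤ O₂(D)` -/
theorem Q_le_O (i : Fin 2) : o2 (HH z E b i) ≤ o2 (DD z) :=
  le_o2 ((D.Q_le_T i).trans D.TD) (o2_isPGroup _) ((D_le_H i).trans (le_normalizer_o2 _))

/-- `Ω₁Z(T) ≤ Z(Q_i)` -/
theorem zc_le_Q (i : Fin 2) : zc T ≤ o2 (HH z E b i) := by
  intro x hx
  have h := mem_zc.1 hx
  refine D.char2 i ⟨D.T_le_H i h.1, mem_centralizer_iff.2 fun q hq => ?_⟩
  exact h.2.2 q (D.Q_le_T i hq)

theorem zc_le_CQ (i : Fin 2) : zc T ≤ centralizer (o2 (HH z E b i) : Set G) := by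
  intro x hx
  have h := mem_zc.1 hx
  exact mem_centralizer_iff.2 fun q hq => h.2.2 q (D.Q_le_T i hq)

omit D in
/-- `Z(Q_i)` is normal in `H_i` -/
theorem H_le_N_ZQ (i : Fin 2) : HH z E b i ≤
    normalizer ((o2 (HH z E b i) ⊓ centralizer (o2 (HH z E b i) : Set G) : Subgroup G) : Set G) :=
  NO3L.LemP.le_normalizer_inf (le_normalizer_o2 _)
    ((le_normalizer_o2 _).trans (NO3L.LemP.normalizer_le_normalizer_cent _))

/-- **LEMMA K**: `V_j ≤ Z(Q_i)` for `j ≠ b i` -/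
theorem F_le_ZQ {i : Fin 2} {j : ι} (hj : j ≠ b i) :
    F j ≤ o2 (HH z E b i) ⊓ centralizer (o2 (HH z E b i) : Set G) :=
  D.Zx j _ (le_inf (D.zc_le_Q i) (D.zc_le_CQ i)) ((D.E_le_H hj).trans (H_le_N_ZQ i))

theorem F_le_O (j : ι) : F j ≤ o2 (DD z) := by
  by_cases h : j = b 0
  · have h1 : j ≠ b 1 := h ▸ D.inj
    exact ((D.F_le_ZQ h1).trans inf_le_left).trans (D.Q_le_O 1)
  · exact ((D.F_le_ZQ h).trans inf_le_left).trans (D.Q_le_O 0)

/-- `V ≤ O₂(D)` -/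
theorem V_le_O : V ≤ o2 (DD z) := D.supV.trans (iSup_le fun j => D.F_le_O j)

/-! ### `N_i` -/

omit D in
theorem mem_NN (i : Fin 2) : z (i + 1) ∈ NN z E b i := le_V _ _ (mem_zpowers _)

omit D in
theorem H_le_N_N (i : Fin 2) : HH z E b i ≤ normalizer (NN z E b i : Set G) := le_normalizer_V _ _

omit D in
theorem NN_le {i : Fin 2} {U : Subgroup G} (hv : z (i + 1) ∈ U) (hU : HH z E b i ≤ normalizer (U : Set G)) :
    NN z E b i ≤ U :=
  V_le fun h hh => by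
    rw [← conj_eq_of_mem (hU hh)]
    exact conj_le_iff.2 (by rw [zpowers_le]; exact hv)

theorem N_le_ZQ (i : Fin 2) : NN z E b i ≤ o2 (HH z E b i) ⊓ centralizer (o2 (HH z E b i) : Set G) :=
  NN_le (le_inf (D.zc_le_Q i) (D.zc_le_CQ i) (D.z_mem_zc (i + 1))) (H_le_N_ZQ i)

theorem N_le_Q (i : Fin 2) : NN z E b i ≤ o2 (HH z E b i) := (D.N_le_ZQ i).trans inf_le_left

theorem Q_le_cent_N (i : Fin 2) : o2 (HH z E b i) ≤ centralizer (NN z E b i : Set G) :=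
  comm_symm ((D.N_le_ZQ i).trans inf_le_right)

theorem N_comm (i : Fin 2) : NN z E b i ≤ centralizer (NN z E b i : Set G) := (D.N_le_Q i).trans (D.Q_le_cent_N i)

theorem N_le_O (i : Fin 2) : NN z E b i ≤ o2 (DD z) := (D.N_le_Q i).trans (D.Q_le_O i)

theorem N_sq (i : Fin 2) : ∀ x ∈ NN z E b i, x ^ 2 = 1 := by
  refine NoFF.Lines.Geo.sq_of_comm (D.N_comm i) (ι := HH z E b i)
    (B := fun c => MulAut.conj (c : G) • zpowers (z (i + 1))) (fun c => ?_) ?_ fun c => NoFF.Lines.Geo.conj_sq ?_ _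
  · exact NoFF.Basic.Z_le_V c.2
  · exact V_le fun c hc => le_iSup (fun c : HH z E b i => MulAut.conj (c : G) • zpowers (z (i + 1))) ⟨c, hc⟩
  · intro x hx
    obtain ⟨n, rfl⟩ := mem_zpowers_iff.1 hx
    rw [← zpow_natCast, ← zpow_mul, mul_comm, zpow_mul, zpow_natCast, D.z_sq, one_zpow]

theorem eab_N (i : Fin 2) : IsElementaryAbelian 2 (NN z E b i) := eab_iff.2 ⟨D.N_comm i, D.N_sq i⟩

theorem eab_V : IsElementaryAbelian 2 V := eab_iff.2 ⟨D.VC, D.sqV⟩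

/-- `V_{b (i+1)} ≤ N_i` -/
theorem F_le_N (i : Fin 2) : F (b (i + 1)) ≤ NN z E b i :=
  D.zx (i + 1) _ (mem_NN i) ((D.E_le_H (D.b_ne i).symm).trans (H_le_N_N i))

/-- `C_{H_i}(N_i) ≤ D` -/
theorem C_le_D (i : Fin 2) : HH z E b i ⊓ centralizer (NN z E b i : Set G) ≤ DD z := by
  rintro c ⟨h1, h2⟩
  refine D.H_inf h1 ?_
  exact centralizer_le (Set.singleton_subset_iff.2 (mem_NN i)) h2

/-- `C_O(N_i) ≤ Q_i` -/
theorem CO_le_Q (i : Fin 2) : o2 (DD z) ⊓ centralizer (NN z E b i : Set G) ≤ o2 (HH z E b i) := by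
  set C := HH z E b i ⊓ centralizer (NN z E b i : Set G) with hC
  have hCn : HH z E b i ≤ normalizer (C : Set G) :=
    NO3L.LemP.le_normalizer_inf le_normalizer ((H_le_N_N i).trans (NO3L.LemP.normalizer_le_normalizer_cent _))
  have h1 : o2 (DD z) ⊓ centralizer (NN z E b i : Set G) ≤ o2 C := by
    refine le_o2 (le_inf ((inf_le_left.trans (o2_le _)).trans (D_le_H i)) inf_le_right)
      ((o2_isPGroup _).to_le inf_le_left) ?_
    exact NO3L.LemP.le_normalizer_inf ((D.C_le_D i).trans (le_normalizer_o2 _))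
      (inf_le_right.trans (centralizer_le_normalizer _) |>.trans (NO3L.LemP.normalizer_le_normalizer_cent _))
  refine h1.trans (le_o2 ((o2_le _).trans inf_le_left) (o2_isPGroup _) ?_)
  exact hCn.trans (Cfsg.Agent.Omega.normalizer_le_normalizer_o2' _)

end HP

end Cfsg.Agent.Omega.NO3S.ESym
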