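import Cfsg.Agent.Omega.NO3S.ESym.HPProd

/-!
# SymManyL (E): (7) EX over `HP` (paper: bb OMEGA #22692 (7); #23287 (8), `k = 2`; #21690)

* `CF i = C_{H_i}(V_i)`, `UF i = ⟨z (i+1) ^ C_{H_i}(V_i)⟩`;
* `HP.exists_A` : for some `i` and some `A ∈ AA(Q_{i+1})` the group `C_A(UF i)` moves `N_i`;
* `HP.ex_B` : `B = C_A(UF i)` is exact on `N_i`; `HP.ExOut` : all its properties; `HP.exists_out`.
-/

set_option autoImplicit false
set_option linter.unusedSectionVars false

namespace Cfsg.Agent.Omega.NO3S.ESym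

open Subgroup Cfsg Cfsg.Agent.Omega.MinPar
open Cfsg.Agent.ZN (o2 zc jj zj)
open Cfsg.Agent.Omega.OM.KTwo (ne_add_one eq_add_one add_one_add_one le_normalizer_V le_V exists_mul_of_mem_sup)
open Cfsg.Agent.Omega.NoFF.Basic (conj_conj mem_conj conj_le_iff conj_le_centralizer comm_symm comm_mono V_le)
open Cfsg.Agent.Omega.NOThreeL.Pair (conj_eq_of_mem)
open Cfsg.Agent.ZN.ChoiceSit (Syl)
open Cfsg.Agent.ZN.ChoiceBase (AA mm mm_eq mem_AA_iff AA_nonempty card_le_mm cj_mem_AA mm_cj mm_mono mem_zc le_jj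
  jj_le jj_mono jj_eq)
open Cfsg.Agent.Omega.NO3S.EThree.ExactA (eab_iff eab_mono eab_sup swp)
open Cfsg.Agent.MinSimple.VModule (le_normalizer_o2 le_o2 o2_le o2_isPGroup)
open Cfsg.Agent.Omega.OM.PG.Int (Ex)
open scoped Pointwise

universe u

variable {G : Type u} [Group G]

/-- `C_{H_i}(V_i)` -/
def CF {ι : Type} (z : Fin 2 → G) (F E : ι → Subgroup G) (b : Fin 2 → ι) (i : Fin 2) : Subgroup G :=
  HH z E b i ⊓ centralizer (F (b i) : Set G)

/-- `⟨z (i+1) ^ C_{H_i}(V_i)⟩` -/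
def UF {ι : Type} (z : Fin 2 → G) (F E : ι → Subgroup G) (b : Fin 2 → ι) (i : Fin 2) : Subgroup G :=
  NH z i (CF z F E b i)

/-- `M ≤ normalizer X` from inclusions of conjugates -/
theorem le_norm_of_conj_le [Finite G] {M X : Subgroup G} (h : ∀ m ∈ M, MulAut.conj m • X ≤ X) :
    M ≤ normalizer (X : Set G) := fun m hm => ZN.ChoiceBase.mem_normalizer_of_cj_le (h m hm)

theorem conj_NH {z : Fin 2 → G} {i : Fin 2} {H : Subgroup G} {g : G} (hg : g ∈ normalizer (H : Set G))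
    (hz : g * z (i + 1) * g⁻¹ = z (i + 1)) : g ∈ normalizer (NH z i H : Set G) := by
  have key : ∀ x : G, MulAut.conj x • H = H → x * z (i + 1) * x⁻¹ = z (i + 1) →
      MulAut.conj x • NH z i H ≤ NH z i H := by
    intro x hx hx' y hy
    have h4 : NH z i H ≤ MulAut.conj x⁻¹ • NH z i H := by
      refine NH_le ?_ ?_
      · rw [mem_conj, inv_inv, hx']
        exact mem_NH z i H
      · have h6 : MulAut.conj x⁻¹ • H ≤ normalizer ((MulAut.conj x⁻¹ • NH z i H : Subgroup G) : Set G) :=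
          NOThreeL.Pair.conj_le_normalizer (le_normalizer_NH z i H)
        have h7 : MulAut.conj x⁻¹ • H = H := by
          nth_rewrite 1 [← hx]
          rw [conj_conj, inv_mul_cancel, map_one, one_smul]
        rwa [h7] at h6
    rw [mem_conj] at hy
    have h5 := h4 hy
    rw [mem_conj] at h5
    have e : (x⁻¹)⁻¹ * (x⁻¹ * y * x) * x⁻¹ = y := by group
    rwa [e] at h5
  have h1 := conj_eq_of_mem hg
  refine ZN.ChoiceBase.mem_normalizer_iff_cj.2 (le_antisymm (key g h1 hz) ?_)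
  change NH z i H ≤ MulAut.conj g • NH z i H
  have h3 := key g⁻¹ (by
    nth_rewrite 1 [← h1]
    rw [conj_conj, inv_mul_cancel, map_one, one_smul]) (by
    nth_rewrite 1 [← hz]; group)
  have h4 := conj_le_iff (g := g) |>.2 h3
  rwa [conj_conj, mul_inv_cancel, map_one, one_smul] at h4

namespace HP

variable [Finite G] {T V : Subgroup G} {ι : Type} {F E Fp : ι → Subgroup G} {b : Fin 2 → ι} {z : Fin 2 → G}
  (D : HP T V F E Fp b z)

include D

omit D in
theorem CF_le (i : Fin 2) : CF z F E b i ≤ HH z E b i := inf_le_left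

omit D in
theorem UF_le_N (i : Fin 2) : UF z F E b i ≤ NN z E b i := NH_mono inf_le_left

theorem cj_z (i : Fin 2) {d : G} (hd : d ∈ centralizer ({z i} : Set G)) : d * z i * d⁻¹ = z i := by
  rw [mem_centralizer_singleton_iff.1 hd, mul_inv_cancel_right]

theorem T_le_N_CF (i : Fin 2) : T ≤ normalizer (CF z F E b i : Set G) :=
  NO3L.LemP.le_normalizer_inf ((D.T_le_H i).trans le_normalizer)
    ((D.TF i).trans (NO3L.LemP.normalizer_le_normalizer_cent _))

theorem T_le_N_UF (i : Fin 2) : T ≤ normalizer (UF z F E b i : Set G) := fun _ ht =>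
  conj_NH (D.T_le_N_CF i ht) (D.cj_z _ (DD_le (i + 1) (D.TD ht)))

theorem E_le_C' (i : Fin 2) : E (b i) ≤ centralizer ({z (i + 1)} : Set G) :=
  D.E_le_C (i := i + 1) (D.b_ne i)

theorem E_le_N_UF (i : Fin 2) : E (b i) ≤ normalizer (UF z F E b i : Set G) := fun _ he =>
  conj_NH (D.gp i he) (D.cj_z _ (D.E_le_C' i he))

/-- `CT = C_{H_i}(V_i) T` -/
theorem NH_CT (i : Fin 2) : NH z i (CF z F E b i ⊔ T) = UF z F E b i :=
  le_antisymm (NH_le (mem_NH z i _) (sup_le (le_normalizer_NH z i _) (D.T_le_N_UF i))) (NH_mono le_sup_left)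

theorem CT_le (i : Fin 2) : CF z F E b i ⊔ T ≤ HH z E b i := sup_le inf_le_left (D.T_le_H i)

/-- `A ∈ AA(O)` is exact on `UF i`, and `C_A(UF) UF ∈ AA(O)` -/
theorem ex_U (hML : ML.Final.MLK.{u, u}) {i : Fin 2} {A : Subgroup G} (hK : IsKGroup (HH z E b i))
    (hA : A ∈ AA (o2 (DD z))) : Ex A (UF z F E b i) ∧ UF z F E b i ⊓ centralizer (A : Set G) ≤ A ∧
      (A ⊓ centralizer (UF z F E b i : Set G)) ⊔ UF z F E b i ∈ AA (o2 (DD z)) := by
  have h := D.ex_H hML hK (H := CF z F E b i ⊔ T) le_sup_right (D.CT_le i) hA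
  rwa [D.NH_CT] at h

theorem D_le_N_N (i : Fin 2) : DD z ≤ normalizer (NN z E b i : Set G) := (D_le_H i).trans (H_le_N_N i)

omit D in
theorem conj_inf_cent (g : G) (A N : Subgroup G) :
    MulAut.conj g • (A ⊓ centralizer (N : Set G)) =
      (MulAut.conj g • A) ⊓ centralizer ((MulAut.conj g • N : Subgroup G) : Set G) := by
  rw [smul_inf]
  congr 1
  exact ZN.ChoiceBase.cj_centralizer g N

/-- `A# = C_A(N_i) N_i` -/
def sh (z : Fin 2 → G) (E : ι → Subgroup G) (b : Fin 2 → ι) (i : Fin 2) (A : Subgroup G) : Subgroup G :=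
  (A ⊓ centralizer (NN z E b i : Set G)) ⊔ NN z E b i

section claim

variable (hcon : ∀ (i : Fin 2), ∀ A ∈ AA (o2 (HH z E b (i + 1))),
    A ⊓ centralizer (UF z F E b i : Set G) ≤ centralizer (NN z E b i : Set G))

include hcon

/-- `C_A(N_i) N_i = C_A(UF) UF` -/
theorem sh_eq (hML : ML.Final.MLK.{u, u}) (hK : ∀ i, IsKGroup (HH z E b i)) (i : Fin 2) {A : Subgroup G}
    (hA : A ∈ AA (o2 (HH z E b (i + 1)))) :
    sh z E b i A = (A ⊓ centralizer (UF z F E b i : Set G)) ⊔ UF z F E b i := by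
  have hA' := D.AA_le hML (hK _) hA
  have h1 := (D.ex_N hML (hK i) hA').2.2
  have h2 := (D.ex_U hML (hK i) hA').2.2
  have hle : (A ⊓ centralizer (UF z F E b i : Set G)) ⊔ UF z F E b i ≤ sh z E b i A :=
    sup_le_sup (le_inf inf_le_left (hcon i A hA)) (UF_le_N i)
  exact (Subgroup.eq_of_le_of_card_ge hle (h2.2.2 _ h1.1 h1.2.1)).symm

/-- the family `{A#}` is `H_{i+1}`-invariant -/
theorem conj_sh (hML : ML.Final.MLK.{u, u}) (hK : ∀ i, IsKGroup (HH z E b i)) (i : Fin 2) {h : G}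
    (hh : h ∈ HH z E b (i + 1)) : ∀ A ∈ AA (o2 (HH z E b (i + 1))), ∃ A' ∈ AA (o2 (HH z E b (i + 1))),
      MulAut.conj h • sh z E b i A = sh z E b i A' := by
  have hQ : ∀ x ∈ HH z E b (i + 1), MulAut.conj x • o2 (HH z E b (i + 1)) = o2 (HH z E b (i + 1)) := fun x hx =>
    conj_eq_of_mem (le_normalizer_o2 _ hx)
  have hAA : ∀ x ∈ HH z E b (i + 1), ∀ A ∈ AA (o2 (HH z E b (i + 1))), MulAut.conj x • A ∈
      AA (o2 (HH z E b (i + 1))) := by
    intro x hx A hA
    have h1 := cj_mem_AA x hA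
    have h2 : ZN.ChoiceBase.cj x (o2 (HH z E b (i + 1))) = o2 (HH z E b (i + 1)) := hQ x hx
    rw [h2] at h1
    exact h1
  let W : Subgroup G :=
    { carrier := {h | h ∈ HH z E b (i + 1) ∧ (∀ A ∈ AA (o2 (HH z E b (i + 1))),
        ∃ A' ∈ AA (o2 (HH z E b (i + 1))), MulAut.conj h • sh z E b i A = sh z E b i A') ∧
        ∀ A ∈ AA (o2 (HH z E b (i + 1))),
          ∃ A' ∈ AA (o2 (HH z E b (i + 1))), MulAut.conj h⁻¹ • sh z E b i A = sh z E b i A'}
      one_mem' := ⟨one_mem _, fun A hA => ⟨A, hA, by rw [map_one, one_smul]⟩, fun A hA =>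
        ⟨A, hA, by rw [inv_one, map_one, one_smul]⟩⟩
      mul_mem' := by
        rintro x y ⟨hx, hx1, hx2⟩ ⟨hy, hy1, hy2⟩
        refine ⟨mul_mem hx hy, fun A hA => ?_, fun A hA => ?_⟩
        · obtain ⟨A', hA', e'⟩ := hy1 A hA
          obtain ⟨A'', hA'', e''⟩ := hx1 A' hA'
          exact ⟨A'', hA'', by rw [← conj_conj, e', e'']⟩
        · obtain ⟨A', hA', e'⟩ := hx2 A hA
          obtain ⟨A'', hA'', e''⟩ := hy2 A' hA'
          exact ⟨A'', hA'', by rw [mul_inv_rev, ← conj_conj, e', e'']⟩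
      inv_mem' := by
        rintro x ⟨hx, hx1, hx2⟩
        exact ⟨inv_mem hx, hx2, by rw [inv_inv]; exact hx1⟩ }
  have hD : DD z ≤ W := by
    have key : ∀ d ∈ DD z, ∀ A ∈ AA (o2 (HH z E b (i + 1))),
        ∃ A' ∈ AA (o2 (HH z E b (i + 1))), MulAut.conj d • sh z E b i A = sh z E b i A' := by
      intro d hd A hA
      refine ⟨_, hAA d (D_le_H _ hd) A hA, ?_⟩
      have h1 : MulAut.conj d • NN z E b i = NN z E b i := conj_eq_of_mem (D.D_le_N_N i hd)
      rw [sh, sh, smul_sup, conj_inf_cent, h1]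
    exact fun d hd => ⟨D_le_H _ hd, key d hd, key d⁻¹ (inv_mem hd)⟩
  have hE : E (b (i + 1 + 1)) ≤ W := by
    rw [add_one_add_one]
    have hEH : E (b i) ≤ HH z E b (i + 1) := D.E_le_H (D.b_ne i)
    have key : ∀ d ∈ E (b i), ∀ A ∈ AA (o2 (HH z E b (i + 1))),
        ∃ A' ∈ AA (o2 (HH z E b (i + 1))), MulAut.conj d • sh z E b i A = sh z E b i A' := by
      intro d hd A hA
      have h2 := hAA d (hEH hd) A hA
      refine ⟨_, h2, ?_⟩
      have h1 : MulAut.conj d • UF z F E b i = UF z F E b i := conj_eq_of_mem (D.E_le_N_UF i hd)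
      rw [D.sh_eq hcon hML hK i hA, D.sh_eq hcon hML hK i h2, smul_sup, conj_inf_cent, h1]
    exact fun d hd => ⟨hEH hd, key d hd, key d⁻¹ (inv_mem hd)⟩
  exact (sup_le hD hE hh : h ∈ W).2.1

/-- `A# ≤ Q_{i+1}` -/
theorem sh_le_Q (hML : ML.Final.MLK.{u, u}) (hK : ∀ i, IsKGroup (HH z E b i)) (i : Fin 2) {A : Subgroup G}
    (hA : A ∈ AA (o2 (HH z E b (i + 1)))) : sh z E b i A ≤ o2 (HH z E b (i + 1)) := by
  let X : Subgroup G := sSup {B | ∃ A ∈ AA (o2 (HH z E b (i + 1))), B = sh z E b i A}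
  have hX : X ≤ o2 (DD z) := by
    refine sSup_le ?_
    rintro B ⟨A, hA, rfl⟩
    exact (D.CAN_le_Q (D.AA_le hML (hK _) hA).2.1).trans (D.Q_le_O i)
  have hle : ∀ A ∈ AA (o2 (HH z E b (i + 1))), sh z E b i A ≤ X := fun A hA => le_sSup ⟨A, hA, rfl⟩
  have hn : HH z E b (i + 1) ≤ normalizer (X : Set G) := by
    refine le_norm_of_conj_le fun h hh => ?_
    have h1 : X ≤ MulAut.conj h⁻¹ • X := by
      refine sSup_le ?_
      rintro B ⟨A, hA, rfl⟩
      obtain ⟨A', hA', e⟩ := D.conj_sh hcon hML hK i hh A hA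
      have h2 := conj_le_iff (g := h⁻¹) |>.2 (hle A' hA')
      rwa [← e, conj_conj, inv_mul_cancel, map_one, one_smul] at h2
    have h2 := conj_le_iff (g := h) |>.2 h1
    rwa [conj_conj, mul_inv_cancel, map_one, one_smul] at h2
  refine (hle A hA).trans (le_o2 (hX.trans ((o2_le _).trans (D_le_H _))) ((o2_isPGroup _).to_le hX) hn)

/-- `⟨N_i ^ H_{i+1}⟩ ≤ A#` -/
theorem le_sh (hML : ML.Final.MLK.{u, u}) (hK : ∀ i, IsKGroup (HH z E b i)) (i : Fin 2) {A : Subgroup G}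
    (hA : A ∈ AA (o2 (HH z E b (i + 1)))) : NoFF.Basic.V (NN z E b i) (HH z E b (i + 1)) ≤ sh z E b i A := by
  refine V_le fun h hh => ?_
  obtain ⟨A', -, e⟩ := D.conj_sh hcon hML hK i (inv_mem hh) A hA
  have h1 : NN z E b i ≤ MulAut.conj h⁻¹ • sh z E b i A := by rw [e]; exact le_sup_right
  have h2 := conj_le_iff (g := h) |>.2 h1
  rwa [conj_conj, mul_inv_cancel, map_one, one_smul] at h2

/-- `N_i N_{i+1}` is normal in `H_i` -/
theorem norm_NN (hML : ML.Final.MLK.{u, u}) (hK : ∀ i, IsKGroup (HH z E b i)) (i : Fin 2) :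
    HH z E b i ≤ normalizer ((NN z E b i ⊔ NN z E b (i + 1) : Subgroup G) : Set G) := by
  obtain ⟨A, hA, hmv⟩ := D.exists_moving hML hK i
  have hA' := D.AA_le hML (hK _) hA
  set B := sh z E b i A with hB
  have hBO : B ∈ AA (o2 (DD z)) := (D.ex_N hML (hK i) hA').2.2
  have hBQ : B ≤ o2 (HH z E b i) := D.CAN_le_Q hA'.2.1
  have hBQ' : B ≤ o2 (HH z E b (i + 1)) := D.sh_le_Q hcon hML hK i hA
  -- `B# = B`
  have hB1 : B ∈ AA (o2 (HH z E b (i + 1 + 1))) := by
    rw [add_one_add_one]; exact D.AA_of hBO hBQ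
  have hBc : B ≤ centralizer (NN z E b (i + 1) : Set G) := hBQ'.trans (D.Q_le_cent_N (i + 1))
  have hsh : sh z E b (i + 1) B = B := by
    have h1 : sh z E b (i + 1) B = B ⊔ NN z E b (i + 1) := by rw [sh, inf_eq_left.2 hBc]
    have h2 := (D.ex_N hML (hK (i + 1)) hBO).2.2
    refine (Subgroup.eq_of_le_of_card_ge ?_ ?_).symm
    · rw [h1]; exact le_sup_left
    · exact hBO.2.2 _ h2.1 h2.2.1
  set M := NoFF.Basic.V (NN z E b (i + 1)) (HH z E b i) with hM
  have hMB : M ≤ B := by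
    have h1 := D.le_sh hcon hML hK (i + 1) hB1
    rw [hsh, add_one_add_one] at h1
    exact h1
  have hNM : NN z E b (i + 1) ≤ M := le_V _ _
  have hHM : HH z E b i ≤ normalizer (M : Set G) := le_normalizer_V _ _
  have hHN : HH z E b i ≤ normalizer (NN z E b i : Set G) := H_le_N_N i
  have hNc := D.N_comm i
  have hAT : A ≤ T := hA'.2.1.trans D.O_le_T
  -- `[M, A] ≤ N_i`
  have hMA : ∀ m ∈ M, ∀ a ∈ A, a * m * a⁻¹ * m⁻¹ ∈ NN z E b i := by
    intro m hm a ha
    obtain ⟨n, hn, c, hc, rfl⟩ := exists_mul_of_mem_sup (F := NN z E b i) (N := A ⊓ centralizer (NN z E b i : Set G))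
      (inf_le_right.trans (centralizer_le_normalizer _)) (by rw [sup_comm]; exact hMB hm)
    have h1 : a * c = c * a := mem_centralizer_iff.1 ((eab_iff.1 hA'.1).1 hc.1) a ha
    have h2 : a * n * a⁻¹ ∈ NN z E b i := (mem_normalizer_iff.1 (hHN (D.T_le_H i (hAT ha))) n).1 hn
    have e : a * (n * c) * a⁻¹ * (n * c)⁻¹ = (a * n * a⁻¹) * (a * c * a⁻¹) * c⁻¹ * n⁻¹ := by group
    rw [e, h1]
    have e2 : a * n * a⁻¹ * (c * a * a⁻¹) * c⁻¹ * n⁻¹ = (a * n * a⁻¹) * n⁻¹ := by group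
    rw [e2]
    exact mul_mem h2 (inv_mem hn)
  -- `K = C_{H_i}(M N_i / N_i)`
  let K : Subgroup G :=
    { carrier := {k | k ∈ HH z E b i ∧ ∀ m ∈ M, k * m * k⁻¹ * m⁻¹ ∈ NN z E b i}
      one_mem' := ⟨one_mem _, fun m _ => by simp⟩
      mul_mem' := by
        rintro x y ⟨hx, hx'⟩ ⟨hy, hy'⟩
        refine ⟨mul_mem hx hy, fun m hm => ?_⟩
        have h1 := (mem_normalizer_iff.1 (hHN hx) _).1 (hy' m hm)
        have e : x * y * m * (x * y)⁻¹ * m⁻¹ = (x * (y * m * y⁻¹ * m⁻¹) * x⁻¹) * (x * m * x⁻¹ * m⁻¹) := by group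
        rw [e]
        exact mul_mem h1 (hx' m hm)
      inv_mem' := by
        rintro x ⟨hx, hx'⟩
        refine ⟨inv_mem hx, fun m hm => ?_⟩
        have h1 := (mem_normalizer_iff.1 (hHN (inv_mem hx)) _).1 (inv_mem (hx' m hm))
        have e : x⁻¹ * m * x⁻¹⁻¹ * m⁻¹ = x⁻¹ * (x * m * x⁻¹ * m⁻¹)⁻¹ * x⁻¹⁻¹ := by group
        rw [e]
        exact h1 }
  have hKH : K ≤ HH z E b i := fun k hk => hk.1
  have hKn : HH z E b i ≤ normalizer (K : Set G) := by
    refine le_norm_of_conj_le fun h hh k hk => ?_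
    rw [mem_conj] at hk
    obtain ⟨h1, h2⟩ := hk
    have e : k = h * (h⁻¹ * k * h) * h⁻¹ := by group
    refine ⟨?_, fun m hm => ?_⟩
    · rw [e]; exact mul_mem (mul_mem hh h1) (inv_mem hh)
    · have h3 : h⁻¹ * m * h ∈ M := by
        have := (mem_normalizer_iff.1 (hHM (inv_mem hh)) m).1 hm
        rwa [inv_inv] at this
      have h4 := (mem_normalizer_iff.1 (hHN hh) _).1 (h2 _ h3)
      have e2 : h * (h⁻¹ * k * h * (h⁻¹ * m * h) * (h⁻¹ * k * h)⁻¹ * (h⁻¹ * m * h)⁻¹) * h⁻¹ =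
          k * m * k⁻¹ * m⁻¹ := by group
      rwa [e2] at h4
  have hAK : A ≤ K := fun a ha => ⟨D.T_le_H i (hAT ha), fun m hm => hMA m hm a ha⟩
  have hKz : ¬ K ≤ centralizer ({z (i + 1)} : Set G) := by
    intro hz
    apply hmv
    have h1 : NN z E b i ≤ centralizer (K : Set G) := by
      refine NN_le ?_ (hKn.trans (NO3L.LemP.normalizer_le_normalizer_cent _))
      rw [mem_centralizer_iff]
      exact fun k hk => mem_centralizer_singleton_iff.1 (hz hk)
    exact hAK.trans (comm_symm h1)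
  have hqp := D.qp i K hKH hKn hKz
  -- `M ≤ N_i N_{i+1}`
  have hM2 : M ≤ NN z E b i ⊔ NN z E b (i + 1) := by
    refine V_le fun h hh => ?_
    obtain ⟨k, hk, d, hd, rfl⟩ := exists_mul_of_mem_sup ((D_le_H i).trans hKn) (hqp hh)
    have h1 : MulAut.conj d • NN z E b (i + 1) = NN z E b (i + 1) :=
      conj_eq_of_mem (D.D_le_N_N (i + 1) hd)
    rw [← conj_conj, h1]
    intro x hx
    rw [mem_conj] at hx
    have h2 := hk.2 _ (hNM hx)
    have e : x = (k * (k⁻¹ * x * k) * k⁻¹ * (k⁻¹ * x * k)⁻¹) * (k⁻¹ * x * k) := by group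
    rw [e]
    exact mul_mem (le_sup_left (b := NN z E b (i + 1)) h2) (le_sup_right (a := NN z E b i) hx)
  have e : NN z E b i ⊔ NN z E b (i + 1) = NN z E b i ⊔ M :=
    le_antisymm (sup_le_sup_left hNM _) (sup_le le_sup_left hM2)
  rw [e]
  refine le_norm_of_conj_le fun h hh => ?_
  rw [smul_sup, conj_eq_of_mem (hHN hh), conj_eq_of_mem (hHM hh)]

end claim

/-- **(7)**: for some `i` and some `A ∈ AA(Q_{i+1})` the group `C_A(UF i)` moves `N_i`. -/
theorem exists_A (hML : ML.Final.MLK.{u, u}) (hK : ∀ i, IsKGroup (HH z E b i)) :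
    ∃ i, ∃ A ∈ AA (o2 (HH z E b (i + 1))),
      ¬ A ⊓ centralizer (UF z F E b i : Set G) ≤ centralizer (NN z E b i : Set G) := by
  by_contra hcon
  push Not at hcon
  have h0 := D.norm_NN hcon hML hK 0
  have h1 := D.norm_NN hcon hML hK 1
  have e : NN z E b 1 ⊔ NN z E b (1 + 1) = NN z E b 0 ⊔ NN z E b (0 + 1) := by
    change NN z E b 1 ⊔ NN z E b 0 = NN z E b 0 ⊔ NN z E b 1
    exact sup_comm _ _
  rw [e] at h1
  have h2 : IsPGroup 2 (NN z E b 0 ⊔ NN z E b (0 + 1) : Subgroup G) :=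
    (o2_isPGroup _).to_le (sup_le (D.N_le_O 0) (D.N_le_O _))
  have h3 := D.eq_bot_of' (i := 0) h2 h0 h1
  have h4 : NN z E b 0 = ⊥ := by
    rw [eq_bot_iff, ← h3]; exact le_sup_left
  exact D.ne (0 + 1) (mem_bot.1 (h4 ▸ mem_NN 0))

/-- `B = C_A(UF i)` is exact on `N_i` -/
theorem ex_B (hML : ML.Final.MLK.{u, u}) {i : Fin 2} {A : Subgroup G} (hK : IsKGroup (HH z E b i))
    (hA : A ∈ AA (o2 (DD z))) : Ex (A ⊓ centralizer (UF z F E b i : Set G)) (NN z E b i) := by
  set U := UF z F E b i with hU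
  set N := NN z E b i with hN
  set B := A ⊓ centralizer (U : Set G) with hB
  have hUN : U ≤ N := UF_le_N i
  have h1 : Ex A N := (D.ex_N hML hK hA).1
  have h2 : Ex A U := (D.ex_U hML hK hA).1
  have hBO : B ≤ o2 (DD z) := inf_le_left.trans hA.2.1
  have h3 : (centralizer (N : Set G)).relIndex B ≤ (centralizer (B : Set G)).relIndex N :=
    D.no_N hML hK hBO fun a ha => (eab_iff.1 hA.1).2 a ha.1
  refine le_antisymm h3 ?_
  have hNc : N ≤ centralizer (N : Set G) := D.N_comm i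
  -- `|A : C_A(N)| = |A : B| |B : C_B(N)|`
  have hAN : A ⊓ centralizer (N : Set G) ≤ B := le_inf inf_le_left (inf_le_right.trans (centralizer_le hUN))
  have e1 := relIndex_mul_relIndex (A ⊓ centralizer (N : Set G)) B A hAN inf_le_left
  have e2 : (A ⊓ centralizer (N : Set G)).relIndex A = (centralizer (N : Set G)).relIndex A := inf_relIndex_left _ _
  have e3 : (A ⊓ centralizer (N : Set G)).relIndex B = (centralizer (N : Set G)).relIndex B := by
    have : A ⊓ centralizer (N : Set G) = B ⊓ centralizer (N : Set G) :=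
      le_antisymm (le_inf hAN inf_le_right) (inf_le_inf_right _ inf_le_left)
    rw [this]; exact inf_relIndex_left _ _
  have e4 : B.relIndex A = (centralizer (U : Set G)).relIndex A := by
    rw [hB]; exact inf_relIndex_left _ _
  -- `|N : C_N(A)| = |N : U C_N(A)| |U : C_U(A)|`
  set CN := N ⊓ centralizer (A : Set G) with hCN
  have f1 := relIndex_mul_relIndex CN (CN ⊔ U) N le_sup_left (sup_le inf_le_left hUN)
  have f2 : CN.relIndex N = (centralizer (A : Set G)).relIndex N := inf_relIndex_left _ _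
  have f3 : CN.relIndex (CN ⊔ U) = (centralizer (A : Set G)).relIndex U := by
    have h4 : U ≤ normalizer (CN : Set G) :=
      (comm_mono hNc hUN inf_le_left).trans (centralizer_le_normalizer _)
    have h5 : CN.relIndex (CN ⊔ U) = CN.relIndex U := by
      have hn : (CN.subgroupOf (CN ⊔ U)).Normal :=
        normal_subgroupOf_of_le_normalizer (sup_le le_normalizer h4)
      have h := Subgroup.relIndex_sup_left (K := CN.subgroupOf (CN ⊔ U)) (H := U.subgroupOf (CN ⊔ U))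
      rw [← Subgroup.subgroupOf_sup le_sup_left le_sup_right, Subgroup.relIndex_subgroupOf le_rfl,
        Subgroup.relIndex_subgroupOf le_sup_right] at h
      exact h
    rw [h5]
    have h6 : CN ⊓ U = centralizer (A : Set G) ⊓ U :=
      le_antisymm (inf_le_inf_right _ inf_le_right) (le_inf (le_inf (inf_le_right.trans hUN) inf_le_left) inf_le_right)
    rw [← inf_relIndex_right CN U, h6, inf_relIndex_right]
  rw [e2, e3, e4] at e1
  rw [f2, f3] at f1
  have g1 : (centralizer (N : Set G)).relIndex A = (centralizer (A : Set G)).relIndex N := h1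
  have g2 : (centralizer (U : Set G)).relIndex A = (centralizer (A : Set G)).relIndex U := h2
  rw [g2, g1, ← f1, mul_comm ((centralizer (A : Set G)).relIndex U)] at e1
  have g3 : (centralizer (N : Set G)).relIndex B = (CN ⊔ U).relIndex N :=
    Nat.eq_of_mul_eq_mul_right (Nat.pos_of_ne_zero (OM.PG.Int.rix_ne _ _)) e1
  rw [g3, ← inf_relIndex_left]
  have h7 : CN ⊔ U ≤ N ⊓ centralizer (B : Set G) := by
    refine sup_le (le_inf inf_le_left (inf_le_right.trans (centralizer_le inf_le_left))) (le_inf hUN ?_)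
    exact comm_symm inf_le_right
  exact relIndex_le_of_le_left h7 (OM.PG.Int.rix_ne _ _)

/-- The output of (7) on the side `i`: `B` is exact on `N_i` and on `N_i / ⟨z i⟩`. -/
structure ExOut (T V : Subgroup G) {ι : Type} (F E : ι → Subgroup G) (b : Fin 2 → ι) (z : Fin 2 → G) (i : Fin 2)
    (B : Subgroup G) : Prop where
  le : B ≤ o2 (DD z)
  eab : IsElementaryAbelian 2 B
  leQ : B ≤ o2 (HH z E b (i + 1))
  cU : B ≤ centralizer (UF z F E b i : Set G)
  mv : ¬ B ≤ centralizer (NN z E b i : Set G)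
  ex : Ex B (NN z E b i)
  /-- exactness on `N_i / ⟨z i⟩` -/
  exM : ∀ M : Subgroup G, M ≤ NN z E b i → (∀ m ∈ M, ∀ a ∈ B, a * m * a⁻¹ * m⁻¹ ∈ zpowers (z i)) →
    (centralizer (NN z E b i : Set G)).relIndex B ≤ M.relIndex (NN z E b i)
  lift : ∀ n ∈ NN z E b i, (∀ a ∈ B, a * n * a⁻¹ * n⁻¹ ∈ zpowers (z i)) → n ∈ centralizer (B : Set G)

/-- `K ≤ H_i` trivial on `N_i / ⟨z i⟩` is trivial on `N_i` -/
theorem ker_M {i : Fin 2} {k : G} (hk : k ∈ HH z E b i)
    (hkY : ∀ x ∈ NN z E b i, k * x * k⁻¹ * x⁻¹ ∈ zpowers (z i)) : k ∈ centralizer (NN z E b i : Set G) := by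
  refine D.ker_le (H := HH z E b i) (Y := zpowers (z i)) ?_ (D.stab_z (D.T_le_H i) le_rfl) hk hkY
  refine le_trans (fun h hh => ?_) (centralizer_le_normalizer _)
  rw [mem_centralizer_iff]
  intro x hx
  rcases D.mem_zp hx with h1 | h1
  · rw [h1]; simp
  · rw [h1]; exact (mem_centralizer_singleton_iff.1 (D.H_le_C i hh)).symm

/-- **(7) EX**, the output. -/
theorem exists_out (hML : ML.Final.MLK.{u, u}) (hK : ∀ i, IsKGroup (HH z E b i))
    (hz : ∀ i, z i ∈ NN z E b i) : ∃ i B, ExOut T V F E b z i B := by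
  obtain ⟨i, A, hA, hmv⟩ := D.exists_A hML hK
  have hA' := D.AA_le hML (hK _) hA
  have hBe : IsElementaryAbelian 2 (A ⊓ centralizer (UF z F E b i : Set G) : Subgroup G) := eab_mono hA'.1 inf_le_left
  have hex := D.ex_B (z := z) hML (hK i) hA'
  have hle : A ⊓ centralizer (UF z F E b i : Set G) ≤ o2 (DD z) := inf_le_left.trans hA'.2.1
  have hno : ∀ M : Subgroup G, M ≤ NN z E b i →
      (∀ m ∈ M, ∀ a ∈ A ⊓ centralizer (UF z F E b i : Set G), a * m * a⁻¹ * m⁻¹ ∈ zpowers (z i)) →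
      (centralizer (NN z E b i : Set G)).relIndex (A ⊓ centralizer (UF z F E b i : Set G) : Subgroup G) ≤
        M.relIndex (NN z E b i) := fun M hM hMY =>
    D.no_M hML (hK i) (hz i) hle (fun a ha => (eab_iff.1 hBe).2 a ha) hM hMY
  refine ⟨i, A ⊓ centralizer (UF z F E b i : Set G), hle, hBe, inf_le_left.trans hA.2.1, inf_le_right, hmv, hex,
    hno, ?_⟩
  -- `n` and `C_N(B)` generate a subgroup `M` with `[M, B] ≤ ⟨z i⟩`
  set B := A ⊓ centralizer (UF z F E b i : Set G) with hB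
  set N := NN z E b i with hN
  intro n hn hnB
  have hNc := D.N_comm i
  have hz1 : ∀ x ∈ zpowers (z i), x ∈ N := fun x hx => by
    rcases D.mem_zp hx with h | h
    · rw [h]; exact one_mem _
    · rw [h]; exact hz i
  let M : Subgroup G :=
    { carrier := {x | x ∈ N ∧ ∀ a ∈ B, a * x * a⁻¹ * x⁻¹ ∈ zpowers (z i)}
      one_mem' := ⟨one_mem _, fun a _ => by simp⟩
      mul_mem' := by
        rintro x y ⟨hx, hx'⟩ ⟨hy, hy'⟩
        refine ⟨mul_mem hx hy, fun a ha => ?_⟩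
        have h3 : x * (a * y * a⁻¹ * y⁻¹) * x⁻¹ = a * y * a⁻¹ * y⁻¹ := by
          have h4 := mem_centralizer_iff.1 (hNc hx) _ (hz1 _ (hy' a ha))
          rw [← h4]; group
        have e : a * (x * y) * a⁻¹ * (x * y)⁻¹ = (a * x * a⁻¹ * x⁻¹) * (x * (a * y * a⁻¹ * y⁻¹) * x⁻¹) := by group
        rw [e, h3]
        exact mul_mem (hx' a ha) (hy' a ha)
      inv_mem' := by
        rintro x ⟨hx, hx'⟩
        refine ⟨inv_mem hx, fun a ha => ?_⟩
        have h1 := inv_mem (hx' a ha)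
        have h4 := mem_centralizer_iff.1 (hNc (inv_mem hx)) _ (hz1 _ h1)
        have e : a * x⁻¹ * a⁻¹ * x⁻¹⁻¹ = x⁻¹ * (a * x * a⁻¹ * x⁻¹)⁻¹ * x⁻¹⁻¹ := by group
        rw [e, ← h4]
        have e2 : (a * x * a⁻¹ * x⁻¹)⁻¹ * x⁻¹ * x⁻¹⁻¹ = (a * x * a⁻¹ * x⁻¹)⁻¹ := by group
        rw [e2]
        exact h1 }
  have hCM : N ⊓ centralizer (B : Set G) ≤ M := fun x hx => ⟨hx.1, fun a ha => by
    rw [mem_centralizer_iff.1 hx.2 a ha, mul_inv_cancel_right, mul_inv_cancel]; exact one_mem _⟩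
  have h1 := hno M (fun x hx => hx.1) fun m hm a ha => hm.2 a ha
  have h2 := relIndex_mul_relIndex (N ⊓ centralizer (B : Set G)) M N hCM fun x hx => hx.1
  have h3 : (N ⊓ centralizer (B : Set G)).relIndex N = (centralizer (B : Set G)).relIndex N := inf_relIndex_left _ _
  have h4 : (centralizer (N : Set G)).relIndex B = (centralizer (B : Set G)).relIndex N := hex
  rw [h3, ← h4] at h2
  have h5 : M.relIndex N ≠ 0 := OM.PG.Int.rix_ne _ _
  have h6 : (N ⊓ centralizer (B : Set G)).relIndex M ≤ 1 := by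
    by_contra hcon
    push Not at hcon
    have h7 : M.relIndex N < (N ⊓ centralizer (B : Set G)).relIndex M * M.relIndex N := by
      calc M.relIndex N = 1 * M.relIndex N := by rw [one_mul]
        _ < _ := Nat.mul_lt_mul_of_pos_right hcon (Nat.pos_of_ne_zero h5)
    omega
  have h7 : (N ⊓ centralizer (B : Set G)).relIndex M ≠ 0 := OM.PG.Int.rix_ne _ _
  have h8 : M ≤ N ⊓ centralizer (B : Set G) := relIndex_eq_one.1 (by omega)
  exact (h8 (⟨hn, hnB⟩ : n ∈ M)).2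

end HP

end Cfsg.Agent.Omega.NO3S.ESym
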