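import Cfsg.Agent.Omega.NO3S.ESym.HP
import Cfsg.Agent.Omega.ML.Final
import Cfsg.Agent.Omega.OM.PG.Int

/-!
# SymManyL (E): (NO) and exactness over `HP` (paper: bb OMEGA #22692 (3))

* `NH z i H = ⟨z (i+1) ^ H⟩`; `HP.no` : **(NO)** for `T ≤ H ≤ H_i` on `NH z i H / Y`;
* `HP.stab_one`, `HP.stab_z` : `Stab_{H_i}(z (i+1)) ≤ D`, `Stab_{H_i}(z (i+1) ⟨z i⟩) ≤ D`;
* `HP.no_H`, `HP.no_N`, `HP.no_M` : (NO) on `NH z i H`, on `N_i`, on `N_i / ⟨z i⟩`;
* `HP.gK` : **G'**: `K` normal in `H_i` with `K ≤ C(V_i)` centralises `N_i`;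
* `HP.ex_H` : `A ∈ AA(O)` is exact on `NH z i H`, `C_A(NH) NH ∈ AA(O)`; `HP.mm_Q`, `HP.AA_le` : `r(Q_i) = r(O)`;
* `HP.exists_moving` : some `A ∈ AA(Q_{i+1})` moves `N_i`.
-/

set_option autoImplicit false
set_option linter.unusedSectionVars false

namespace Cfsg.Agent.Omega.NO3S.ESym

open Subgroup Cfsg Cfsg.Agent.Omega.MinPar
open Cfsg.Agent.ZN (o2 zc jj zj)
open Cfsg.Agent.Omega.OM.KTwo (ne_add_one eq_add_one add_one_add_one le_normalizer_V le_V)
open Cfsg.Agent.Omega.NoFF.Basic (conj_conj mem_conj conj_le_iff conj_le_centralizer comm_symm comm_mono V_le)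
open Cfsg.Agent.Omega.NOThreeL.Pair (conj_eq_of_mem)
open Cfsg.Agent.ZN.ChoiceSit (Syl)
open Cfsg.Agent.ZN.ChoiceBase (AA mm mm_eq mem_AA_iff AA_nonempty card_le_mm cj_mem_AA mm_cj mm_mono mem_zc le_jj
  jj_le jj_mono jj_eq)
open Cfsg.Agent.Omega.NO3S.EThree.ExactA (eab_iff eab_mono eab_sup swp)
open Cfsg.Agent.MinSimple.VModule (le_normalizer_o2 le_o2 o2_le o2_isPGroup)
open Cfsg.Agent.Omega.OM.PG.Int (Ex)
open scoped Pointwise

universe u

variable {G : Type u} [Group G]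

/-- `⟨z (i+1) ^ H⟩` -/
def NH (z : Fin 2 → G) (i : Fin 2) (H : Subgroup G) : Subgroup G := NoFF.Basic.V (zpowers (z (i + 1))) H

theorem mem_NH (z : Fin 2 → G) (i : Fin 2) (H : Subgroup G) : z (i + 1) ∈ NH z i H :=
  le_V _ _ (mem_zpowers _)

theorem le_normalizer_NH (z : Fin 2 → G) (i : Fin 2) (H : Subgroup G) : H ≤ normalizer (NH z i H : Set G) :=
  le_normalizer_V _ _

theorem NH_le {z : Fin 2 → G} {i : Fin 2} {H U : Subgroup G} (hv : z (i + 1) ∈ U) (hU : H ≤ normalizer (U : Set G)) :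
    NH z i H ≤ U :=
  V_le fun h hh => by
    rw [← conj_eq_of_mem (hU hh)]
    exact conj_le_iff.2 (by rw [zpowers_le]; exact hv)

theorem NH_mono {z : Fin 2 → G} {i : Fin 2} {H K : Subgroup G} (h : H ≤ K) : NH z i H ≤ NH z i K :=
  NH_le (mem_NH z i K) (h.trans (le_normalizer_NH z i K))

theorem NN_eq {ι : Type} (z : Fin 2 → G) (E : ι → Subgroup G) (b : Fin 2 → ι) (i : Fin 2) :
    NN z E b i = NH z i (HH z E b i) := rfl

namespace HP

variable [Finite G] {T V : Subgroup G} {ι : Type} {F E Fp : ι → Subgroup G} {b : Fin 2 → ι} {z : Fin 2 → G}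
  (D : HP T V F E Fp b z)

include D

theorem NH_le_N {i : Fin 2} {H : Subgroup G} (hH : H ≤ HH z E b i) : NH z i H ≤ NN z E b i := NH_mono hH

/-- the kernel of `H` on `⟨z (i+1) ^ H⟩ / Y` centralises `⟨z (i+1) ^ H⟩` -/
theorem ker_le {i : Fin 2} {H Y : Subgroup G} (hY : H ≤ normalizer (Y : Set G))
    (hst : ∀ g ∈ H, g * z (i + 1) * g⁻¹ * (z (i + 1))⁻¹ ∈ Y → g ∈ DD z) {k : G} (hk : k ∈ H)
    (hkY : ∀ x ∈ NH z i H, k * x * k⁻¹ * x⁻¹ ∈ Y) : k ∈ centralizer (NH z i H : Set G) := by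
  have hN := le_normalizer_NH z i H
  have key : ∀ h ∈ H, (h * z (i + 1) * h⁻¹) * k = k * (h * z (i + 1) * h⁻¹) := by
    intro h hh
    have h1 : h * z (i + 1) * h⁻¹ ∈ NH z i H := (mem_normalizer_iff.1 (hN hh) _).1 (mem_NH z i H)
    have h2 := hkY _ h1
    have h3 : (h⁻¹ * k * h) * z (i + 1) * (h⁻¹ * k * h)⁻¹ * (z (i + 1))⁻¹ ∈ Y := by
      have h4 := (mem_normalizer_iff.1 (hY (inv_mem hh)) _).1 h2
      have e : (h⁻¹ * k * h) * z (i + 1) * (h⁻¹ * k * h)⁻¹ * (z (i + 1))⁻¹ =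
          h⁻¹ * (k * (h * z (i + 1) * h⁻¹) * k⁻¹ * (h * z (i + 1) * h⁻¹)⁻¹) * h⁻¹⁻¹ := by group
      rw [e]
      exact h4
    have h5 := hst _ (mul_mem (mul_mem (inv_mem hh) hk) hh) h3
    have h6 : (h⁻¹ * k * h) * z (i + 1) = z (i + 1) * (h⁻¹ * k * h) :=
      mem_centralizer_singleton_iff.1 (DD_le (i + 1) h5)
    calc (h * z (i + 1) * h⁻¹) * k = h * (z (i + 1) * (h⁻¹ * k * h)) * h⁻¹ := by group
      _ = h * ((h⁻¹ * k * h) * z (i + 1)) * h⁻¹ := by rw [h6]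
      _ = k * (h * z (i + 1) * h⁻¹) := by group
  have h7 : NH z i H ≤ centralizer ({k} : Set G) := by
    refine V_le fun h hh x hx => ?_
    rw [mem_conj] at hx
    obtain ⟨n, hn⟩ := mem_zpowers_iff.1 hx
    have h8 : x = (h * z (i + 1) * h⁻¹) ^ n := by
      have e : x = h * (h⁻¹ * x * h) * h⁻¹ := by group
      rw [e, ← hn, conj_zpow]
    rw [mem_centralizer_singleton_iff, h8]
    have h9 : Commute (h * z (i + 1) * h⁻¹) k := key h hh
    exact (h9.zpow_left n).eq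
  rw [mem_centralizer_iff]
  intro x hx
  exact mem_centralizer_singleton_iff.1 (h7 hx)

/-- **(NO)** for `H` acting on `⟨z (i+1) ^ H⟩ / Y`. -/
theorem no (hML : ML.Final.MLK.{u, u}) {i : Fin 2} {H Y A M : Subgroup G} (hK : IsKGroup (HH z E b i)) (hT : T ≤ H)
    (hH : H ≤ HH z E b i) (hY : H ≤ normalizer (Y : Set G)) (hYW : Y ≤ NH z i H)
    (hst : ∀ g ∈ H, g * z (i + 1) * g⁻¹ * (z (i + 1))⁻¹ ∈ Y → g ∈ DD z)
    (hA : A ≤ o2 (DD z)) (hA2 : ∀ a ∈ A, a ^ 2 = 1)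
    (hM : M ≤ NH z i H) (hMY : ∀ m ∈ M, ∀ a ∈ A, a * m * a⁻¹ * m⁻¹ ∈ Y) :
    (centralizer (NH z i H : Set G)).relIndex A ≤ M.relIndex (NH z i H) := by
  have hAH : A ≤ H := (hA.trans D.O_le_T).trans hT
  have hWN := D.NH_le_N hH
  have hWc : NH z i H ≤ centralizer (NH z i H : Set G) := comm_mono (D.N_comm i) hWN hWN
  -- `C_{N/Y}(A)`
  let CW : Subgroup G :=
    { carrier := {x | x ∈ NH z i H ∧ ∀ a ∈ A, a * x * a⁻¹ * x⁻¹ ∈ Y}
      one_mem' := ⟨one_mem _, fun a _ => by simp⟩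
      mul_mem' := by
        rintro x y ⟨hx, hx'⟩ ⟨hy, hy'⟩
        refine ⟨mul_mem hx hy, fun a ha => ?_⟩
        have h1 := hx' a ha
        have h2 := hy' a ha
        have h3 : x * (a * y * a⁻¹ * y⁻¹) * x⁻¹ = a * y * a⁻¹ * y⁻¹ := by
          have h4 := mem_centralizer_iff.1 (hWc hx) _ (hYW h2)
          rw [← h4]; group
        have e : a * (x * y) * a⁻¹ * (x * y)⁻¹ = (a * x * a⁻¹ * x⁻¹) * (x * (a * y * a⁻¹ * y⁻¹) * x⁻¹) := by group
        rw [e, h3]
        exact mul_mem h1 h2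
      inv_mem' := by
        rintro x ⟨hx, hx'⟩
        refine ⟨inv_mem hx, fun a ha => ?_⟩
        have h1 := inv_mem (hx' a ha)
        have h4 := mem_centralizer_iff.1 (hWc (inv_mem hx)) _ (hYW h1)
        have e : a * x⁻¹ * a⁻¹ * x⁻¹⁻¹ = x⁻¹ * (a * x * a⁻¹ * x⁻¹)⁻¹ * x⁻¹⁻¹ := by group
        rw [e, ← h4]
        have e2 : (a * x * a⁻¹ * x⁻¹)⁻¹ * x⁻¹ * x⁻¹⁻¹ = (a * x * a⁻¹ * x⁻¹)⁻¹ := by group
        rw [e2]
        exact h1 }
  have hMC : M ≤ CW := fun m hm => ⟨hM hm, fun a ha => hMY m hm a ha⟩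
  have hmain : (A ⊓ centralizer (NH z i H : Set G)).relIndex A ≤ CW.relIndex (NH z i H) := by
    refine hML.grp (C := H) (W := NH z i H) (Y := Y) (T := T) (Q := o2 (DD z)) (A := A)
      (w := z (i + 1)) (TC.kgroup_mono hK hH) ?_ (KA := A ⊓ centralizer (NH z i H : Set G)) (CW := CW) ?_
      (fun x => Iff.rfl)
    · refine ⟨le_normalizer_NH z i H, hY, hYW, ?_, ?_, mem_NH z i H, ?_, hT, D.T_isPGroup, ?_, ?_,
        (D.O_le_T).trans hT, o2_isPGroup _, ?_, ?_, hA, ?_⟩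
      · refine le_trans ?_ (centralizer_le_normalizer _)
        exact comm_mono (D.N_comm i) hWN (hYW.trans hWN)
      · intro x hx
        rw [← pow_two, D.N_sq i x (hWN hx)]
        exact one_mem _
      · intro U hU _ hHU
        exact NH_le hU hHU
      · have hS : Syl T H := ⟨hT, D.T_isPGroup, fun R hR hR2 hTR => (D.syl i).2.2 R (hR.trans hH) hR2 hTR⟩
        exact Cfsg.Agent.ZN.ChoiceSit.syl_not_dvd hS
      · intro t ht
        rw [D.T_comm (i + 1) ht, mul_inv_cancel_right, mul_inv_cancel]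
        exact one_mem _
      · intro q hq
        rw [D.T_comm (i + 1) (D.O_le_T hq), mul_inv_cancel_right, mul_inv_cancel]
        exact one_mem _
      · intro g hg hgY q hq
        exact (mem_normalizer_iff.1 (le_normalizer_o2 _ (hst g hg hgY)) q).1 hq
      · intro a ha x _
        have h1 : a * a = 1 := by rw [← pow_two]; exact hA2 a ha
        have e : a * (a * x * a⁻¹) * a⁻¹ * x⁻¹ = (a * a) * x * (a * a)⁻¹ * x⁻¹ := by group
        rw [e, h1]
        simp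
    · intro a
      constructor
      · rintro ⟨h1, h2⟩
        refine ⟨h1, fun x hx => ?_⟩
        have h3 := mem_centralizer_iff.1 h2 x hx
        rw [← h3, mul_inv_cancel_right, mul_inv_cancel]
        exact one_mem _
      · rintro ⟨h1, h2⟩
        exact ⟨h1, D.ker_le hY hst (hAH h1) h2⟩
  rw [inf_relIndex_left] at hmain
  refine hmain.trans ?_
  have h1 := relIndex_mul_relIndex M CW (NH z i H) hMC fun x hx => hx.1
  rw [← h1]
  exact Nat.le_mul_of_pos_left _ (Nat.pos_of_ne_zero (OM.PG.Int.rix_ne _ _))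

/-! ### Stabilisers -/

theorem stab_one {i : Fin 2} {H : Subgroup G} (hH : H ≤ HH z E b i) : ∀ g ∈ H,
    g * z (i + 1) * g⁻¹ * (z (i + 1))⁻¹ ∈ (⊥ : Subgroup G) → g ∈ DD z := by
  intro g hg h
  rw [mem_bot, mul_inv_eq_one, mul_inv_eq_iff_eq_mul] at h
  exact D.H_inf (hH hg) (mem_centralizer_singleton_iff.2 h)

theorem mem_zp {i : Fin 2} {x : G} (h : x ∈ zpowers (z i)) : x = 1 ∨ x = z i := by
  obtain ⟨n, rfl⟩ := mem_zpowers_iff.1 h
  have h2 : z i ^ (2 : ℤ) = 1 := by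
    have := D.z_sq i
    exact_mod_cast this
  rcases Int.even_or_odd' n with ⟨k, hk | hk⟩
  · left
    rw [hk, zpow_mul, h2, one_zpow]
  · right
    rw [hk, zpow_add, zpow_mul, h2, one_zpow, one_mul, zpow_one]

/-- `Stab_{H_i}(z (i+1) ⟨z i⟩) ≤ D` -/
theorem stab_z {i : Fin 2} {H : Subgroup G} (hT : T ≤ H) (hH : H ≤ HH z E b i) : ∀ g ∈ H,
    g * z (i + 1) * g⁻¹ * (z (i + 1))⁻¹ ∈ zpowers (z i) → g ∈ DD z := by
  have hcen : ∀ g ∈ H, g * z i * g⁻¹ = z i := fun g hg => by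
    rw [mem_centralizer_singleton_iff.1 (D.H_le_C i (hH hg)), mul_inv_cancel_right]
  have hcz : ∀ g ∈ H, ∀ x ∈ zpowers (z i), g * x * g⁻¹ = x := by
    intro g hg x hx
    rcases D.mem_zp hx with h | h
    · rw [h]; group
    · rw [h]; exact hcen g hg
  let W : Subgroup G :=
    { carrier := {g | g ∈ H ∧ g * z (i + 1) * g⁻¹ * (z (i + 1))⁻¹ ∈ zpowers (z i)}
      one_mem' := ⟨one_mem _, by simp⟩
      mul_mem' := by
        rintro a c ⟨ha, ha'⟩ ⟨hc, hc'⟩
        refine ⟨mul_mem ha hc, ?_⟩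
        have e : a * c * z (i + 1) * (a * c)⁻¹ * (z (i + 1))⁻¹ =
            (a * (c * z (i + 1) * c⁻¹ * (z (i + 1))⁻¹) * a⁻¹) * (a * z (i + 1) * a⁻¹ * (z (i + 1))⁻¹) := by group
        rw [e, hcz a ha _ hc']
        exact mul_mem hc' ha'
      inv_mem' := by
        rintro a ⟨ha, ha'⟩
        refine ⟨inv_mem ha, ?_⟩
        have e : a⁻¹ * z (i + 1) * a⁻¹⁻¹ * (z (i + 1))⁻¹ =
            a⁻¹ * (a * z (i + 1) * a⁻¹ * (z (i + 1))⁻¹)⁻¹ * a⁻¹⁻¹ := by group
        rw [e, hcz _ (inv_mem ha) _ (inv_mem ha')]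
        exact inv_mem ha' }
  have hWH : W ≤ H := fun g hg => hg.1
  let f : W →* zpowers (z i) :=
    { toFun := fun g => ⟨_, g.2.2⟩
      map_one' := Subtype.ext (by simp)
      map_mul' := fun a c => Subtype.ext (by
        have e : (a : G) * c * z (i + 1) * ((a : G) * c)⁻¹ * (z (i + 1))⁻¹ =
            (a * (c * z (i + 1) * (c : G)⁻¹ * (z (i + 1))⁻¹) * (a : G)⁻¹) *
              (a * z (i + 1) * (a : G)⁻¹ * (z (i + 1))⁻¹) := by group
        change (a : G) * c * z (i + 1) * ((a : G) * c)⁻¹ * (z (i + 1))⁻¹ = _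
        rw [e, hcz a a.2.1 _ c.2.2]
        have hcomm : ∀ x ∈ zpowers (z i), ∀ y ∈ zpowers (z i), x * y = y * x := by
          intro x hx y hy
          obtain ⟨m, rfl⟩ := mem_zpowers_iff.1 hx
          obtain ⟨n, rfl⟩ := mem_zpowers_iff.1 hy
          rw [← zpow_add, ← zpow_add, add_comm]
        exact hcomm _ c.2.2 _ a.2.2) }
  have hTW : T ≤ W := fun t ht => ⟨hT ht, by
    rw [D.T_comm (i + 1) ht, mul_inv_cancel_right, mul_inv_cancel]; exact one_mem _⟩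
  have hTker : T.subgroupOf W ≤ f.ker := by
    intro t ht
    rw [MonoidHom.mem_ker]
    refine Subtype.ext ?_
    change (t : G) * z (i + 1) * (t : G)⁻¹ * (z (i + 1))⁻¹ = 1
    rw [D.T_comm (i + 1) (mem_subgroupOf.1 ht), mul_inv_cancel_right, mul_inv_cancel]
  have hodd : ¬ 2 ∣ T.relIndex W := by
    refine ZN.ChoiceSit.syl_not_dvd ⟨hTW, D.T_isPGroup, fun R hR hR2 hTR => ?_⟩
    exact (D.syl i).2.2 R ((hR.trans hWH).trans hH) hR2 hTR
  have h1 : f.ker.index ∣ T.relIndex W := index_dvd_of_le hTker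
  have h2 : f.ker.index ∣ 2 := by
    rw [index_ker]
    have h3 : Nat.card f.range ∣ Nat.card (zpowers (z i)) := card_subgroup_dvd_card _
    have h4 : Nat.card (zpowers (z i)) ∣ 2 := by
      rw [Nat.card_zpowers]
      exact orderOf_dvd_of_pow_eq_one (D.z_sq i)
    exact h3.trans h4
  have h3 : f.ker.index = 1 := by
    rcases (Nat.dvd_prime Nat.prime_two).1 h2 with h | h
    · exact h
    · exact absurd (h ▸ h1) hodd
  have h4 : f.ker = ⊤ := index_eq_one.1 h3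
  intro g hg h
  have h5 : (⟨g, hg, h⟩ : W) ∈ f.ker := h4 ▸ mem_top _
  have h6 : g * z (i + 1) * g⁻¹ * (z (i + 1))⁻¹ = 1 := congrArg Subtype.val ((MonoidHom.mem_ker).1 h5)
  rw [mul_inv_eq_one, mul_inv_eq_iff_eq_mul] at h6
  exact D.H_inf (hH hg) (mem_centralizer_singleton_iff.2 h6)

/-! ### (NO) -/

/-- **(NO)** for `H` on `⟨z (i+1) ^ H⟩` -/
theorem no_H (hML : ML.Final.MLK.{u, u}) {i : Fin 2} {H A : Subgroup G} (hK : IsKGroup (HH z E b i)) (hT : T ≤ H)
    (hH : H ≤ HH z E b i) (hA : A ≤ o2 (DD z)) (hA2 : ∀ a ∈ A, a ^ 2 = 1) :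
    (centralizer (NH z i H : Set G)).relIndex A ≤ (centralizer (A : Set G)).relIndex (NH z i H) := by
  have h := D.no hML (M := NH z i H ⊓ centralizer (A : Set G)) (Y := ⊥) hK hT hH ?_ bot_le (D.stab_one hH) hA hA2
    inf_le_left ?_
  · rwa [inf_relIndex_left] at h
  · exact fun h _ => by
      rw [mem_normalizer_iff]
      intro x
      simp only [mem_bot, conj_eq_one_iff]
  · intro m hm a ha
    rw [mem_bot, mem_centralizer_iff.1 hm.2 a ha, mul_inv_cancel_right, mul_inv_cancel]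

/-- **(NO)** for `H_i` on `N_i` -/
theorem no_N (hML : ML.Final.MLK.{u, u}) {i : Fin 2} {A : Subgroup G} (hK : IsKGroup (HH z E b i))
    (hA : A ≤ o2 (DD z)) (hA2 : ∀ a ∈ A, a ^ 2 = 1) :
    (centralizer (NN z E b i : Set G)).relIndex A ≤ (centralizer (A : Set G)).relIndex (NN z E b i) :=
  D.no_H hML hK (D.T_le_H i) le_rfl hA hA2

/-- **(NO)** for `H_i` on `N_i / ⟨z i⟩` -/
theorem no_M (hML : ML.Final.MLK.{u, u}) {i : Fin 2} {A M : Subgroup G} (hK : IsKGroup (HH z E b i))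
    (hz : z i ∈ NN z E b i) (hA : A ≤ o2 (DD z)) (hA2 : ∀ a ∈ A, a ^ 2 = 1) (hM : M ≤ NN z E b i)
    (hMY : ∀ m ∈ M, ∀ a ∈ A, a * m * a⁻¹ * m⁻¹ ∈ zpowers (z i)) :
    (centralizer (NN z E b i : Set G)).relIndex A ≤ M.relIndex (NN z E b i) := by
  refine D.no hML (Y := zpowers (z i)) hK (D.T_le_H i) le_rfl ?_ ?_ (D.stab_z (D.T_le_H i) le_rfl) hA hA2 hM hMY
  · refine le_trans ?_ (centralizer_le_normalizer _)
    intro h hh
    rw [mem_centralizer_iff]
    intro x hx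
    rcases D.mem_zp hx with h1 | h1
    · rw [h1]; simp
    · rw [h1]; exact (mem_centralizer_singleton_iff.1 (D.H_le_C i hh)).symm
  · rw [zpowers_le]; exact hz

/-! ### G' -/

/-- **G'**: a normal subgroup `K ≤ C(V_i)` of `H_i` centralises `N_i`. -/
theorem gK {i : Fin 2} {K : Subgroup G} (hK : K ≤ HH z E b i) (hn : HH z E b i ≤ normalizer (K : Set G))
    (hc : K ≤ centralizer (F (b i) : Set G)) : K ≤ centralizer (NN z E b i : Set G) := by
  by_cases hz : K ≤ centralizer ({z (i + 1)} : Set G)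
  · have h1 : NN z E b i ≤ centralizer (K : Set G) := by
      refine NN_le ?_ (hn.trans (NO3L.LemP.normalizer_le_normalizer_cent _))
      rw [mem_centralizer_iff]
      exact fun k hk => mem_centralizer_singleton_iff.1 (hz hk)
    exact comm_symm h1
  exfalso
  set C := HH z E b i ⊓ centralizer (F (b i) : Set G) with hC
  have hKC : K ≤ C := le_inf hK hc
  have hE : E (b i) ≤ normalizer (NH z i C : Set G) := by
    intro e he
    have h1 : MulAut.conj e • C = C := conj_eq_of_mem (D.gp i he)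
    have h2 : e * z (i + 1) * e⁻¹ = z (i + 1) := by
      have h3 : e ∈ centralizer ({z (i + 1)} : Set G) := by
        have h4 := D.EC (i + 1) (b i) (D.b_ne i) he
        exact centralizer_le (Set.singleton_subset_iff.2 (D.mem (i + 1))) h4
      rw [mem_centralizer_singleton_iff.1 h3, mul_inv_cancel_right]
    have key : ∀ x : G, MulAut.conj x • C = C → x * z (i + 1) * x⁻¹ = z (i + 1) →
        MulAut.conj x • NH z i C ≤ NH z i C := by
      intro x hx hx' y hy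
      have h4 : NH z i C ≤ MulAut.conj x⁻¹ • NH z i C := by
        refine NH_le ?_ ?_
        · rw [mem_conj, inv_inv, hx']
          exact mem_NH z i C
        · have h5 := le_normalizer_NH z i C
          have h6 : MulAut.conj x⁻¹ • C ≤ normalizer ((MulAut.conj x⁻¹ • NH z i C : Subgroup G) : Set G) :=
            NOThreeL.Pair.conj_le_normalizer h5
          have h7 : MulAut.conj x⁻¹ • C = C := by
            nth_rewrite 1 [← hx]
            rw [conj_conj, inv_mul_cancel, map_one, one_smul]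
          rwa [h7] at h6
      rw [mem_conj] at hy
      have h5 := h4 hy
      rw [mem_conj] at h5
      have e : (x⁻¹)⁻¹ * (x⁻¹ * y * x) * x⁻¹ = y := by group
      rwa [e] at h5
    refine ZN.ChoiceBase.mem_normalizer_iff_cj.2 (le_antisymm (key e h1 h2) ?_)
    change NH z i C ≤ MulAut.conj e • NH z i C
    have h3 := key e⁻¹ (by
      nth_rewrite 1 [← h1]
      rw [conj_conj, inv_mul_cancel, map_one, one_smul]) (by
      nth_rewrite 1 [← h2]; group)
    have h4 := conj_le_iff (g := e) |>.2 h3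
    rwa [conj_conj, mul_inv_cancel, map_one, one_smul] at h4
  have hH : HH z E b i ≤ normalizer (NH z i C : Set G) := by
    have hN : NH z i (HH z E b i) ≤ NH z i C := by
      -- `H_i = K D`
      refine V_le fun h hh => ?_
      have h1 : h ∈ K ⊔ DD z := D.qp i K hK hn hz hh
      obtain ⟨k, hk, d, hd, rfl⟩ := OM.KTwo.exists_mul_of_mem_sup ((D_le_H i).trans hn) h1
      have h2 : MulAut.conj (k * d) • zpowers (z (i + 1)) = MulAut.conj k • zpowers (z (i + 1)) := by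
        rw [← conj_conj]
        congr 1
        refine conj_eq_of_mem (centralizer_le_normalizer _ ?_)
        rw [mem_centralizer_iff]
        intro x hx
        have h3 : d ∈ centralizer ({z (i + 1)} : Set G) := DD_le (i + 1) hd
        rcases D.mem_zp hx with h4 | h4
        · rw [h4]; simp
        · rw [h4]; exact (mem_centralizer_singleton_iff.1 h3).symm
      rw [h2]
      have h3 := le_normalizer_NH z i C (hKC hk)
      rw [← conj_eq_of_mem h3]
      refine conj_le_iff.2 ?_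
      rw [zpowers_le]
      exact mem_NH z i C
    have h1 : NH z i C = NH z i (HH z E b i) := le_antisymm (NH_mono inf_le_left) hN
    rw [h1]
    exact le_normalizer_NH z i _
  have h2 : IsPGroup 2 (NH z i C) := (o2_isPGroup _).to_le ((NH_mono inf_le_left).trans (D.N_le_Q i))
  have h3 := D.eq_bot_of h2 hH hE
  exact D.ne (i + 1) (mem_bot.1 (h3 ▸ mem_NH z i C))

/-! ### (3): exactness -/

/-- `A ∈ AA(O)` is exact on `NH z i H`, `C_A(NH) NH ∈ AA(O)`. -/
theorem ex_H (hML : ML.Final.MLK.{u, u}) {i : Fin 2} {H A : Subgroup G} (hK : IsKGroup (HH z E b i)) (hT : T ≤ H)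
    (hH : H ≤ HH z E b i) (hA : A ∈ AA (o2 (DD z))) : Ex A (NH z i H) ∧
      NH z i H ⊓ centralizer (A : Set G) ≤ A ∧
      (A ⊓ centralizer (NH z i H : Set G)) ⊔ NH z i H ∈ AA (o2 (DD z)) :=
  swp (eab_mono (D.eab_N i) (D.NH_le_N hH)) ((D.NH_le_N hH).trans (D.N_le_O i)) hA
    (D.no_H hML hK hT hH hA.2.1 (eab_iff.1 hA.1).2)

/-- `A ∈ AA(O)` is exact on `N_i`, `C_A(N_i) N_i ∈ AA(O)`. -/
theorem ex_N (hML : ML.Final.MLK.{u, u}) {i : Fin 2} {A : Subgroup G} (hK : IsKGroup (HH z E b i))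
    (hA : A ∈ AA (o2 (DD z))) : Ex A (NN z E b i) ∧ NN z E b i ⊓ centralizer (A : Set G) ≤ A ∧
      (A ⊓ centralizer (NN z E b i : Set G)) ⊔ NN z E b i ∈ AA (o2 (DD z)) :=
  D.ex_H hML hK (D.T_le_H i) le_rfl hA

theorem CAN_le_Q {i : Fin 2} {A : Subgroup G} (hA : A ≤ o2 (DD z)) :
    (A ⊓ centralizer (NN z E b i : Set G)) ⊔ NN z E b i ≤ o2 (HH z E b i) :=
  sup_le ((inf_le_inf_right _ hA).trans (D.CO_le_Q i)) (D.N_le_Q i)

/-- `r(Q_i) = r(O)` -/
theorem mm_Q (hML : ML.Final.MLK.{u, u}) (i : Fin 2) (hK : IsKGroup (HH z E b i)) :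
    mm (o2 (HH z E b i)) = mm (o2 (DD z)) := by
  refine le_antisymm (mm_mono (D.Q_le_O i)) ?_
  obtain ⟨A, hA⟩ := AA_nonempty (o2 (DD z))
  have h := (D.ex_N hML hK hA).2.2
  rw [mm_eq h]
  exact card_le_mm h.1 (D.CAN_le_Q hA.2.1)

theorem AA_le (hML : ML.Final.MLK.{u, u}) {i : Fin 2} (hK : IsKGroup (HH z E b i)) {A : Subgroup G}
    (hA : A ∈ AA (o2 (HH z E b i))) : A ∈ AA (o2 (DD z)) := by
  rw [mem_AA_iff] at hA ⊢
  exact ⟨hA.1, hA.2.1.trans (D.Q_le_O i), (D.mm_Q hML i hK).symm.le.trans hA.2.2⟩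

theorem AA_of {i : Fin 2} {A : Subgroup G} (hA : A ∈ AA (o2 (DD z))) (hQ : A ≤ o2 (HH z E b i)) :
    A ∈ AA (o2 (HH z E b i)) := by
  rw [mem_AA_iff] at hA ⊢
  exact ⟨hA.1, hQ, (mm_mono (D.Q_le_O i)).trans hA.2.2⟩

/-- the swap maps `H_i` to `H_{i+1}` -/
theorem conj_HH {s : G} (hs : ∀ i, s * z i * s⁻¹ = z (i + 1) ∧ MulAut.conj s • E (b i) = E (b (i + 1))) (i : Fin 2) :
    MulAut.conj s • HH z E b i = HH z E b (i + 1) := by
  have h1 : MulAut.conj s • DD z = DD z := by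
    rw [DD, smul_inf, OM.KTwo.Sit.conj_centralizer_singleton (hs 0).1, OM.KTwo.Sit.conj_centralizer_singleton (hs 1).1]
    exact inf_comm _ _
  rw [HH, HH, smul_sup, h1, (hs (i + 1)).2]

omit D in
theorem conj_DD {s : G} (hs : ∀ i, s * z i * s⁻¹ = z (i + 1)) : MulAut.conj s • DD z = DD z := by
  rw [DD, smul_inf, OM.KTwo.Sit.conj_centralizer_singleton (hs 0), OM.KTwo.Sit.conj_centralizer_singleton (hs 1)]
  exact inf_comm _ _

/-- **some `A ∈ AA(Q_{i+1})` moves `N_i`** -/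
theorem exists_moving (hML : ML.Final.MLK.{u, u}) (hK : ∀ i, IsKGroup (HH z E b i)) (i : Fin 2) :
    ∃ A ∈ AA (o2 (HH z E b (i + 1))), ¬ A ≤ centralizer (NN z E b i : Set G) := by
  by_contra hcon
  push Not at hcon
  have h1 : jj (o2 (HH z E b (i + 1))) ≤ jj (o2 (HH z E b i)) := by
    rw [jj_eq, jj_eq]
    refine sSup_le fun A hA => le_sSup ?_
    have hA' := D.AA_le hML (hK _) hA
    exact D.AA_of hA' ((le_inf hA'.2.1 (hcon A hA)).trans (D.CO_le_Q i))
  obtain ⟨s, -, hs⟩ := D.swap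
  have hH := D.conj_HH (s := s) (fun j => ⟨(hs j).1, (hs j).2.2.1⟩) i
  have h2 : Nat.card (jj (o2 (HH z E b i))) = Nat.card (jj (o2 (HH z E b (i + 1)))) := by
    have h3 : jj (o2 (HH z E b (i + 1))) = ZN.ChoiceBase.cj s (jj (o2 (HH z E b i))) := by
      rw [← ZN.ChoiceBase.jj_cj, ← ZN.ChoiceBase.pCore_cj]
      exact congrArg (fun X => jj (o2 X)) hH.symm
    rw [h3, ZN.ChoiceBase.card_cj]
  have h3 : jj (o2 (HH z E b (i + 1))) = jj (o2 (HH z E b i)) := Subgroup.eq_of_le_of_card_ge h1 h2.le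
  have hn : ∀ j, HH z E b j ≤ normalizer (jj (o2 (HH z E b j)) : Set G) := fun j =>
    (le_normalizer_o2 _).trans (ZN.ChoiceBase.normalizer_le_jj _)
  have hbot := D.eq_bot_of' (i := i) (X := jj (o2 (HH z E b i)))
    ((o2_isPGroup _).to_le (jj_le _)) (hn i) (h3 ▸ hn (i + 1))
  obtain ⟨A, hA⟩ := AA_nonempty (o2 (HH z E b i))
  have h4 : A = ⊥ := by
    rw [eq_bot_iff, ← hbot]
    exact le_jj hA
  have h5 := hA.2.2 _ (D.eab_N i) (D.N_le_Q i)
  rw [h4, card_bot] at h5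
  have h6 : NN z E b i = ⊥ := by
    rw [← card_eq_one]
    exact le_antisymm h5 Nat.card_pos
  exact D.ne (i + 1) (mem_bot.1 (h6 ▸ mem_NN i))

end HP

end Cfsg.Agent.Omega.NO3S.ESym
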