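import Cfsg.Agent.Omega.NO3S.ESym.HPNo
import Cfsg.Agent.Omega.TC.Av
import Cfsg.Agent.Omega.NoFF.LinesPlug

/-!
# SymManyL (E): (5) PROD over `HP` (paper: bb OMEGA #22692 (5), #20840 (4))

* `HP.prod` : `V ≤ Z(Q_i)` ⟹ `C_{H_i}(V_i⁺) = C_{H_i}(V_i)`;
* `HP.z_mem_Fp` : `z i ∈ V_i⁺`.
-/

set_option autoImplicit false
set_option linter.unusedSectionVars false

namespace Cfsg.Agent.Omega.NO3S.ESym

open Subgroup Cfsg Cfsg.Agent.Omega.MinPar
open Cfsg.Agent.ZN (o2 zc jj zj)
open Cfsg.Agent.Omega.OM.KTwo (ne_add_one eq_add_one add_one_add_one le_normalizer_V le_V)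
open Cfsg.Agent.Omega.NoFF.Basic (conj_conj mem_conj conj_le_iff conj_le_centralizer comm_symm comm_mono V_le)
open Cfsg.Agent.Omega.NOThreeL.Pair (conj_eq_of_mem)
open Cfsg.Agent.ZN.ChoiceSit (Syl)
open Cfsg.Agent.MinSimple.VModule (le_normalizer_o2 le_o2 o2_le o2_isPGroup)
open scoped Pointwise

universe u

variable {G : Type u} [Group G]

namespace HP

variable [Finite G] {T V : Subgroup G} {ι : Type} {F E Fp : ι → Subgroup G} {b : Fin 2 → ι} {z : Fin 2 → G}
  (D : HP T V F E Fp b z)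

include D

theorem F_sq {j : ι} {x : G} (hx : x ∈ F j) : x * x = 1 := by
  rw [← pow_two]; exact D.sqV x (D.FV j hx)

/-- **(5) PROD**: `C_{H_i}(V_i⁺) = C_{H_i}(V_i)` -/
theorem prod {i : Fin 2} (hV : V ≤ o2 (HH z E b i) ⊓ centralizer (o2 (HH z E b i) : Set G)) :
    HH z E b i ⊓ centralizer (Fp (b i) : Set G) ≤ centralizer (F (b i) : Set G) := by
  set Q := o2 (HH z E b i) with hQ
  set U := Q ⊓ centralizer (Q : Set G) with hU
  set X := HH z E b i ⊓ centralizer (Fp (b i) : Set G) with hX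
  have hUc : ∀ x ∈ U, ∀ y ∈ U, x * y = y * x := fun x hx y hy => mem_centralizer_iff.1 hy.2 x hx.1
  have hVU : F (b i) ≤ U := (D.FV _).trans hV
  have hHU : HH z E b i ≤ normalizer (U : Set G) := H_le_N_ZQ i
  have hXU : X ≤ normalizer (U : Set G) := inf_le_left.trans hHU
  have hTX : T ≤ normalizer (X : Set G) :=
    NO3L.LemP.le_normalizer_inf ((D.T_le_H i).trans le_normalizer)
      ((D.FpT i).trans (NO3L.LemP.normalizer_le_normalizer_cent _))
  have hTXF : T ⊓ X ≤ centralizer (F (b i) : Set G) := fun x hx => D.faith i ⟨hx.1, hx.2.2⟩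
  have hodd : ¬ 2 ∣ (X ⊓ centralizer (F (b i) : Set G)).relIndex X := by
    have h1 := TC.Av.odd_inf (D.T_le_H i) (ZN.ChoiceSit.syl_not_dvd (D.syl i)) (M := X) inf_le_left hTX
    exact fun h => h1 (h.trans (relIndex_dvd_of_le_left X (le_inf inf_le_right hTXF)))
  obtain ⟨σ, h1, h2, h3, h4, h5⟩ := TC.Av.exists_norm hUc hVU hXU hodd
  have hXFp : ∀ u ∈ Fp (b i), ∀ x ∈ X, x * u = u * x := fun u hu x hx => (mem_centralizer_iff.1 hx.2 u hu).symm
  have σFp : ∀ u ∈ Fp (b i), σ u = u := fun u hu =>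
    h4 u (D.FpF i hu) (D.F_sq (D.FpF i hu)) (hXFp u hu)
  -- `c v = v σ(v)` is constant off the hyperplane
  have hcc : ∀ v ∈ F (b i), ∀ w ∈ F (b i), v ∉ Fp (b i) → w ∉ Fp (b i) → v * σ v = w * σ w := by
    intro v hv w hw hv' hw'
    have hu := D.Fpi i v hv w hw hv' hw'
    set t := v * w⁻¹ with ht
    have htF := D.FpF i hu
    have e : v = t * w := by rw [ht]; group
    have h6 : σ v = t * σ w := by rw [e, h3 t htF w hw, σFp t hu]
    rw [h6]
    calc v * (t * σ w) = t * w * (t * σ w) := by rw [← e]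
      _ = t * (w * t) * σ w := by group
      _ = t * (t * w) * σ w := by rw [hUc w (hVU hw) t (hVU htF)]
      _ = (t * t) * w * σ w := by group
      _ = w * σ w := by rw [D.F_sq htF, one_mul]
  intro x hx
  rw [mem_centralizer_iff]
  intro v hv
  by_cases hv' : v ∈ Fp (b i)
  · exact (hXFp v hv' x hx).symm
  set c := v * σ v with hc
  -- elements normalising everything fix `c`
  have hfix : ∀ g : G, g ∈ normalizer (U : Set G) → g ∈ normalizer (F (b i) : Set G) →
      g ∈ normalizer (Fp (b i) : Set G) → g ∈ normalizer (X : Set G) → g * c * g⁻¹ = c := by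
    intro g g1 g2 g3 g4
    have e : g * c * g⁻¹ = (g * v * g⁻¹) * (g * σ v * g⁻¹) := by rw [hc]; group
    rw [e, h5 g g1 g2 g4 v hv]
    refine hcc _ ((mem_normalizer_iff.1 g2 v).1 hv) v hv ?_ hv'
    exact fun h => hv' ((mem_normalizer_iff.1 g3 v).2 h)
  have hcU : c ∈ U := mul_mem (hVU hv) (h1 v hv)
  have hσ1 : σ 1 = 1 := by
    have := h3 1 (one_mem _) 1 (one_mem _)
    rw [one_mul] at this
    exact left_eq_mul.1 this
  have hσ2 : σ v * σ v = 1 := by rw [← h3 v hv v hv, D.F_sq hv, hσ1]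
  have hc2 : c ^ 2 = 1 := by
    rw [pow_two, hc]
    calc v * σ v * (v * σ v) = v * (σ v * v) * σ v := by group
      _ = v * (v * σ v) * σ v := by rw [hUc (σ v) (h1 v hv) v (hVU hv)]
      _ = (v * v) * (σ v * σ v) := by group
      _ = 1 := by rw [D.F_sq hv, hσ2, one_mul]
  have hcT : ∀ t ∈ T, t * c = c * t := by
    intro t ht
    have := hfix t (hHU (D.T_le_H i ht)) (D.TF i ht) (D.FpT i ht) (hTX ht)
    exact mul_inv_eq_iff_eq_mul.1 this
  have hcE : ∀ j, j ≠ b i → ∀ e ∈ E j, e * c = c * e := by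
    intro j hj e he
    have hHe : e ∈ HH z E b i := D.E_le_H hj he
    have hcen := D.EC i j hj he
    have hcenp : e ∈ centralizer (Fp (b i) : Set G) := centralizer_le (D.FpF i) hcen
    have := hfix e (hHU hHe) (centralizer_le_normalizer _ hcen) (centralizer_le_normalizer _ hcenp)
      (NO3L.LemP.le_normalizer_inf (X := HH z E b i ⊓ normalizer (Fp (b i) : Set G)) (inf_le_left.trans le_normalizer)
        (inf_le_right.trans (NO3L.LemP.normalizer_le_normalizer_cent _)) ⟨hHe, centralizer_le_normalizer _ hcenp⟩)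
    exact mul_inv_eq_iff_eq_mul.1 this
  have hcT' : c ∈ T := D.Q_le_T i hcU.1
  have hcV : c ∈ V := by
    refine D.zQ c ⟨hcT', mem_centralizer_iff.2 fun y hy => hcT y (D.VT hy)⟩ hc2 fun y hy => hcT y hy.1
  have hcF : c ∈ F (b i) := D.cE i c hcV hcE
  have hcz := D.zfix i c hcF hcT
  -- `x` centralises `c`
  have hxc : x * c = c * x := by
    rcases hcz with h | h
    · rw [h]; simp
    · rw [h]; exact mem_centralizer_singleton_iff.1 (D.H_le_C i hx.1)
  have hxσ : x * σ v = σ v * x := mul_inv_eq_iff_eq_mul.1 (h2 x hx v hv)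
  have e : v = c * (σ v)⁻¹ := by rw [hc]; group
  rw [e]
  have h6 : x * (σ v)⁻¹ = (σ v)⁻¹ * x := by
    calc x * (σ v)⁻¹ = (σ v)⁻¹ * (σ v * x) * (σ v)⁻¹ := by group
      _ = (σ v)⁻¹ * (x * σ v) * (σ v)⁻¹ := by rw [hxσ]
      _ = (σ v)⁻¹ * x := by group
  calc c * (σ v)⁻¹ * x = c * ((σ v)⁻¹ * x) := by group
    _ = c * (x * (σ v)⁻¹) := by rw [h6]
    _ = (c * x) * (σ v)⁻¹ := by group
    _ = (x * c) * (σ v)⁻¹ := by rw [hxc]
    _ = x * (c * (σ v)⁻¹) := by group

/-- `z i ∈ V_i⁺` -/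
theorem z_mem_Fp (i : Fin 2) : z i ∈ Fp (b i) := by
  have hp2 : Fact (Nat.Prime 2) := ⟨Nat.prime_two⟩
  by_cases hbot : Fp (b i) = ⊥
  · exfalso
    -- `F (b i) = ⟨z i⟩`
    have h1 : F (b i) ≤ zpowers (z i) := by
      intro x hx
      by_cases hx1 : x = 1
      · rw [hx1]; exact one_mem _
      have h2 : x ∉ Fp (b i) := by rw [hbot, mem_bot]; exact hx1
      have h3 : z i ∉ Fp (b i) := by rw [hbot, mem_bot]; exact D.ne i
      have h4 := D.Fpi i x hx (z i) (D.mem i) h2 h3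
      rw [hbot, mem_bot, mul_inv_eq_one] at h4
      rw [h4]; exact mem_zpowers _
    -- `E (b i) ≤ D`
    have h2 : E (b i) ≤ DD z := by
      intro e he
      refine (mem_DD i).2 ⟨?_, ?_⟩
      · have h3 : e * z i * e⁻¹ ∈ F (b i) := (mem_normalizer_iff.1 (D.EN i he) _).1 (D.mem i)
        rcases D.mem_zp (h1 h3) with h4 | h4
        · exact absurd (conj_eq_one_iff.1 h4) (D.ne i)
        · exact mem_centralizer_singleton_iff.2 (mul_inv_eq_iff_eq_mul.1 h4)
      · exact centralizer_le (Set.singleton_subset_iff.2 (D.mem (i + 1))) (D.EC (i + 1) (b i) (D.b_ne i) he)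
    have h3 := D.eq_bot_of (i := i) (X := zpowers (z i)) ?_ ?_ ?_
    · exact D.ne i (mem_bot.1 (h3 ▸ mem_zpowers (z i)))
    · exact D.T_isPGroup.to_le (by rw [zpowers_le]; exact D.VT (D.z_mem_V i))
    · refine le_trans (fun h hh => ?_) (centralizer_le_normalizer _)
      rw [mem_centralizer_iff]
      intro x hx
      rcases D.mem_zp hx with h4 | h4
      · rw [h4]; simp
      · rw [h4]; exact (mem_centralizer_singleton_iff.1 (D.H_le_C i hh)).symm
    · refine le_trans (fun h hh => ?_) (centralizer_le_normalizer _)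
      rw [mem_centralizer_iff]
      intro x hx
      rcases D.mem_zp hx with h4 | h4
      · rw [h4]; simp
      · rw [h4]; exact (mem_centralizer_singleton_iff.1 (DD_le i (h2 hh))).symm
  -- a `T`-fixed vector of `Fp`
  obtain ⟨x, hx, hx1, hxT⟩ := Cfsg.Agent.Omega.NoFF.LinesPlug.exists_fixed D.T_isPGroup
    ((D.FpF i).trans ((D.FV _).trans D.VT)) (D.FpT i) hbot
  rcases D.zfix i x (D.FpF i hx) hxT with h | h
  · exact absurd h hx1
  · rw [← h]; exact hx

end HP

end Cfsg.Agent.Omega.NO3S.ESym
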