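import Cfsg.Agent.Omega.NO3S.ESym.GP
import Cfsg.Agent.ZN.ChoiceSit
import Cfsg.Agent.PLocal.Uniserial

/-!
# SymMany (E): the types (ii) of minimal parabolics (bb #22692 (6) (ii)), abstract part

* `two` : a minimal parabolic `R` over `T` which normalises `V₁` and `W`, `T = (T ∩ C(V₁)) (T ∩ C(W))`: the elements of
  odd order of `R` centralise `V₁`, or `R` centralises `C_W(T)`;
* `nt` : an element of odd order which normalises `T` and `V₁` centralises `V₁`, if some `c ∈ T` has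
  `|C_{V₁}(c)| ≤ 2`.
-/

set_option autoImplicit false

namespace Cfsg.Agent.Omega.NO3S.ESym.TypTwo

open Subgroup Cfsg Cfsg.Agent.MinSimple.MinParabolic
open Cfsg.Agent.ZN (o2)
open Cfsg.Agent.ZN.ChoiceSit (Syl o2_le_syl le_normalizer_o2 syl_not_dvd)
open Cfsg.Agent.Omega.NO3S.ESym.GP (mem_sup_of_normal_right')
open scoped Pointwise commutatorElement

universe u

variable {G : Type u} [Group G] [Finite G] {T R V₁ W : Subgroup G}

omit [Finite G] in
theorem norm_inf_cent {X : Subgroup G} (hX : R ≤ normalizer (X : Set G)) :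
    R ≤ normalizer ((R ⊓ centralizer (X : Set G) : Subgroup G) : Set G) := by
  have key : ∀ r ∈ R, ∀ c, c ∈ R ⊓ centralizer (X : Set G) → r * c * r⁻¹ ∈ R ⊓ centralizer (X : Set G) := by
    rintro r hr c ⟨h1, h2⟩
    refine mem_inf.2 ⟨mul_mem (mul_mem hr h1) (inv_mem hr), ?_⟩
    have h3 := GP.conj_cent (inv_mem (hX hr)) h2
    rwa [inv_inv] at h3
  intro r hr
  rw [mem_normalizer_iff]
  intro c
  refine ⟨key r hr c, fun hc => ?_⟩
  have h1 := key r⁻¹ (inv_mem hr) _ hc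
  have e : r⁻¹ * (r * c * r⁻¹) * r⁻¹⁻¹ = c := by group
  rwa [e] at h1

omit [Finite G] in
/-- an element of odd order of `N T`, `T` a 2-group normalising `N`, lies in `N` -/
theorem odd_mem {N : Subgroup G} (hT : IsPGroup 2 T) (hTN : T ≤ normalizer (N : Set G)) {g : G}
    (hg : g ∈ N ⊔ T) (ho : Odd (orderOf g)) : g ∈ N := by
  have hNn : (N ⊔ T) ≤ normalizer (N : Set G) := sup_le le_normalizer hTN
  have h1 : ∀ x ∈ N ⊔ T, ∃ n : ℕ, x ^ 2 ^ n ∈ N := by
    intro x hx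
    obtain ⟨c, hc, t, ht, rfl⟩ := (mem_sup_of_normal_right' hTN).1 hx
    obtain ⟨n, hn⟩ := hT ⟨t, ht⟩
    have hn' : t ^ 2 ^ n = 1 := by simpa using congrArg Subtype.val hn
    have h2 : ∀ k : ℕ, (c * t) ^ k * (t ^ k)⁻¹ ∈ N := by
      intro k
      induction k with
      | zero => simp
      | succ k ih =>
        have e : (c * t) ^ (k + 1) * (t ^ (k + 1))⁻¹ =
            ((c * t) ^ k * (t ^ k)⁻¹) * (t ^ k * c * (t ^ k)⁻¹) := by
          rw [pow_succ, pow_succ]; group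
        rw [e]
        exact mul_mem ih ((mem_normalizer_iff.1 (hTN (pow_mem ht k)) c).1 hc)
    refine ⟨n, ?_⟩
    have h3 := h2 (2 ^ n)
    rwa [hn', inv_one, mul_one] at h3
  obtain ⟨n, hn⟩ := h1 g hg
  have hco : Nat.Coprime (orderOf g) (2 ^ n) := (Nat.coprime_two_right.2 ho).pow_right n
  obtain ⟨m, hm⟩ := exists_pow_eq_self_of_coprime hco.symm
  rw [← hm]
  exact pow_mem hn m

/-- **Type (ii)** -/
theorem two (h : IsMinPar T R) (hT : Syl T R) (hV : R ≤ normalizer (V₁ : Set G))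
    (hW : R ≤ normalizer (W : Set G))
    (split : T ≤ T ⊓ centralizer (V₁ : Set G) ⊔ T ⊓ centralizer (W : Set G)) :
    (∀ g ∈ R, Odd (orderOf g) → g ∈ centralizer (V₁ : Set G)) ∨
      ∀ r ∈ R, ∀ w ∈ W, (∀ t ∈ T, t * w = w * t) → r * w = w * r := by
  have hN : ∀ X : Subgroup G, R ≤ normalizer (X : Set G) →
      R ≤ (R ⊓ centralizer (X : Set G)) ⊔ T ∨ T ⊓ centralizer (X : Set G) ≤ o2 R := by
    intro X hX
    rcases h.sup_eq_or_inf_le hT.2.1 (syl_not_dvd hT) inf_le_left (norm_inf_cent hX) with h1 | h1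
    · exact Or.inl h1.ge
    · exact Or.inr fun x hx => h1 (mem_inf.2 ⟨(mem_inf.1 hx).1, mem_inf.2 ⟨hT.1 (mem_inf.1 hx).1, (mem_inf.1 hx).2⟩⟩)
  rcases hN V₁ hV with h1 | h1
  · left
    intro g hg ho
    exact (mem_inf.1 (odd_mem hT.2.1 (hT.1.trans (norm_inf_cent hV)) (h1 hg) ho)).2
  rcases hN W hW with h2 | h2
  · right
    intro r hr w hw hwT
    obtain ⟨c, hc, t, ht, rfl⟩ := (mem_sup_of_normal_right' (hT.1.trans (norm_inf_cent hW))).1 (h2 hr)
    have e1 : w * c = c * w := (mem_centralizer_iff.1 (mem_inf.1 hc).2) w hw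
    calc c * t * w = c * (t * w) := by group
      _ = c * (w * t) := by rw [hwT t ht]
      _ = w * c * t := by rw [e1]; group
      _ = w * (c * t) := by group
  · exfalso
    refine h.not_le ?_
    have e : T = o2 R := le_antisymm (split.trans (sup_le h1 h2)) (o2_le_syl hT)
    rw [e]
    exact le_normalizer_o2 R

/-- `|X : [X, T]| ≤ 2` if `c ∈ T` fixes at most two elements of the abelian group `X` -/
theorem card_comm_le {X T : Subgroup G} (hX : ∀ v ∈ X, ∀ w ∈ X, v * w = w * v) (hTX : T ≤ normalizer (X : Set G))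
    {c : G} (hc : c ∈ T) (hc2 : Nat.card ↥(X ⊓ centralizer {c}) ≤ 2) :
    Nat.card X ≤ 2 * Nat.card ↥⁅X, T⁆ := by
  have hcX : ∀ x ∈ X, c * x * c⁻¹ ∈ X := fun x hx => (mem_normalizer_iff.1 (hTX hc) x).1 hx
  have hm : ∀ x ∈ X, x * c * x⁻¹ * c⁻¹ ∈ X := by
    intro x hx
    have e : x * c * x⁻¹ * c⁻¹ = x * (c * x⁻¹ * c⁻¹) := by group
    rw [e]
    exact mul_mem hx (hcX _ (inv_mem hx))
  let φ : X →* G :=
    { toFun := fun x => (x : G) * c * (x : G)⁻¹ * c⁻¹
      map_one' := by simp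
      map_mul' := by
        rintro ⟨x, hx⟩ ⟨y, hy⟩
        have h1 : x * (y * c * y⁻¹ * c⁻¹) = y * c * y⁻¹ * c⁻¹ * x := hX _ hx _ (hm y hy)
        have h2 : x * c * x⁻¹ * c⁻¹ * (y * c * y⁻¹ * c⁻¹) = y * c * y⁻¹ * c⁻¹ * (x * c * x⁻¹ * c⁻¹) :=
          hX _ (hm x hx) _ (hm y hy)
        change x * y * c * (x * y)⁻¹ * c⁻¹ = x * c * x⁻¹ * c⁻¹ * (y * c * y⁻¹ * c⁻¹)
        rw [h2]
        calc x * y * c * (x * y)⁻¹ * c⁻¹ = x * (y * c * y⁻¹ * c⁻¹) * (c * x⁻¹ * c⁻¹) := by group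
          _ = y * c * y⁻¹ * c⁻¹ * x * (c * x⁻¹ * c⁻¹) := by rw [h1]
          _ = y * c * y⁻¹ * c⁻¹ * (x * c * x⁻¹ * c⁻¹) := by group }
  have h1 : φ.range ≤ ⁅X, T⁆ := by
    rintro _ ⟨⟨x, hx⟩, rfl⟩
    exact commutator_mem_commutator hx hc
  have h2 : Nat.card φ.ker ≤ 2 := by
    refine le_trans ?_ hc2
    refine Nat.card_le_card_of_injective
      (fun x : φ.ker => (⟨(x : X), mem_inf.2 ⟨(x : X).2, GP.mem_cz.2 ?_⟩⟩ : ↥(X ⊓ centralizer {c}))) ?_
    · have h3 : ((x : X) : G) * c * ((x : X) : G)⁻¹ * c⁻¹ = 1 := x.2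
      have h4 : ((x : X) : G) * c = c * ((x : X) : G) := by
        have := congrArg (fun y => y * (c * ((x : X) : G))) h3
        simpa [mul_assoc] using this
      exact h4
    · intro x y hxy
      have := congrArg (fun z : ↥(X ⊓ centralizer {c}) => (z : G)) hxy
      exact Subtype.ext (Subtype.ext this)
  have h3 : Nat.card φ.range ≤ Nat.card ↥⁅X, T⁆ := Nat.card_le_card_of_injective _ (inclusion_injective h1)
  calc Nat.card X = Nat.card φ.ker * φ.ker.index := (card_mul_index _).symm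
    _ = Nat.card φ.ker * Nat.card φ.range := by rw [index_ker]
    _ ≤ 2 * Nat.card ↥⁅X, T⁆ := Nat.mul_le_mul h2 h3

omit [Finite G] in
theorem mul_mem_of_card [Finite G] {X Y : Subgroup G} (hY : Y ≤ X) (h : Nat.card X ≤ 2 * Nat.card Y) {x y : G}
    (hx : x ∈ X) (hy : y ∈ X) (hxy : x ∈ Y ↔ y ∈ Y) : x * y⁻¹ ∈ Y := by
  by_cases hx' : x ∈ Y
  · exact mul_mem hx' (inv_mem (hxy.1 hx'))
  have hy' : y ∉ Y := fun h => hx' (hxy.2 h)
  have h1 : Nat.card Y * Y.relIndex X = Nat.card X := by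
    rw [relIndex, ← card_mul_index (Y.subgroupOf X), Nat.card_congr (subgroupOfEquivOfLe hY).toEquiv]
  have h2 : Y.relIndex X = 2 := by
    have h3 : Y.relIndex X ≤ 2 := by
      have h4 : 0 < Nat.card Y := Nat.card_pos
      rw [← h1, mul_comm] at h
      exact Nat.le_of_mul_le_mul_right h h4
    have h4 : Y.relIndex X ≠ 1 := fun e => hx' (relIndex_eq_one.1 e hx)
    have h5 : Y.relIndex X ≠ 0 := by
      intro e
      rw [e, mul_zero] at h1
      exact Nat.card_pos.ne h1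
    omega
  have h3 := mul_mem_iff_of_index_two (H := Y.subgroupOf X) h2 (a := ⟨x, hx⟩) (b := ⟨y, hy⟩⁻¹)
  have h4 : (⟨x, hx⟩ : X) * ⟨y, hy⟩⁻¹ ∈ Y.subgroupOf X := by
    rw [h3]
    simp only [inv_mem_iff, mem_subgroupOf]
    tauto
  simpa [mem_subgroupOf] using h4

/-- **`N(T)`**: an element of odd order which normalises `T` and `V₁` centralises `V₁`, if some `c ∈ T` fixes at most
two elements of the elementary abelian 2-group `V₁`. -/
theorem nt (hV : ∀ v ∈ V₁, ∀ w ∈ V₁, v * w = w * v) (hV2 : IsPGroup 2 V₁) (hT : IsPGroup 2 T)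
    (hTV : T ≤ normalizer (V₁ : Set G)) {c : G} (hc : c ∈ T) (hc2 : Nat.card ↥(V₁ ⊓ centralizer {c}) ≤ 2) {g : G}
    (hgT : g ∈ normalizer (T : Set G)) (hgV : g ∈ normalizer (V₁ : Set G)) (ho : Odd (orderOf g)) :
    g ∈ centralizer (V₁ : Set G) := by
  have hnil : Group.IsNilpotent ↥(V₁ ⊔ T) := by
    have h1 : IsPGroup 2 ↥(V₁ ⊔ T) := IsPGroup.to_sup_of_normal_left' hV2 hT hTV
    exact h1.isNilpotent
  have key : ∀ n : ℕ, ∀ X : Subgroup G, Nat.card X = n → X ≤ V₁ → T ≤ normalizer (X : Set G) →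
      g ∈ normalizer (X : Set G) → (∀ v ∈ V₁, g * v * g⁻¹ * v⁻¹ ∈ X) → g ∈ centralizer (V₁ : Set G) := by
    intro n
    induction n using Nat.strong_induction_on with
    | _ n IH =>
      intro X hn hXV hTX hgX hgv
      by_cases hX : X = ⊥
      · rw [mem_centralizer_iff]
        intro v hv
        have h1 := hgv v hv
        rw [hX, mem_bot] at h1
        have h2 : g * v = v * g := by
          have := congrArg (fun y => y * (v * g)) h1
          simpa [mul_assoc] using this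
        exact h2.symm
      have hlt : ⁅X, T⁆ < X :=
        Cfsg.Agent.PLocal.Uniserial.commutator_lt (V₁ ⊔ T) T X hnil le_sup_right (hXV.trans le_sup_left) hTX hX
      have hXc : ∀ v ∈ X, ∀ w ∈ X, v * w = w * v := fun v hv w hw => hV v (hXV hv) w (hXV hw)
      have hcard : Nat.card X ≤ 2 * Nat.card ↥⁅X, T⁆ := by
        refine card_comm_le hXc hTX hc (le_trans (Nat.card_le_card_of_injective _
          (inclusion_injective (inf_le_inf_right _ hXV))) hc2)
      have hgY : ∀ x ∈ ⁅X, T⁆, g * x * g⁻¹ ∈ ⁅X, T⁆ := by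
        have h1 : ⁅X, T⁆ ≤ ⁅X, T⁆.comap (MulAut.conj g).toMonoidHom := by
          rw [commutator_le]
          intro x hx t ht
          change g * (x * t * x⁻¹ * t⁻¹) * g⁻¹ ∈ ⁅X, T⁆
          have e : g * (x * t * x⁻¹ * t⁻¹) * g⁻¹ = ⁅g * x * g⁻¹, g * t * g⁻¹⁆ := by
            rw [commutatorElement_def]; group
          rw [e]
          exact commutator_mem_commutator ((mem_normalizer_iff.1 hgX x).1 hx) ((mem_normalizer_iff.1 hgT t).1 ht)
        exact fun x hx => h1 hx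
      have hgY' : g ∈ normalizer ((⁅X, T⁆ : Subgroup G) : Set G) := by
        refine mem_normalizer_iff.2 fun x => ⟨hgY x, fun hx => ?_⟩
        have hk : ∀ k : ℕ, ∀ x ∈ ⁅X, T⁆, g ^ k * x * (g ^ k)⁻¹ ∈ ⁅X, T⁆ := by
          intro k
          induction k with
          | zero => intro x hx; simpa using hx
          | succ k ih =>
            intro x hx
            have e : g ^ (k + 1) * x * (g ^ (k + 1))⁻¹ = g * (g ^ k * x * (g ^ k)⁻¹) * g⁻¹ := by
              rw [pow_succ']; group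
            rw [e]
            exact hgY _ (ih x hx)
        have h2 := hk (orderOf g - 1) _ hx
        have h3 : g ^ (orderOf g - 1) = g⁻¹ := by
          rw [eq_inv_iff_mul_eq_one, ← pow_succ, Nat.sub_add_cancel (orderOf_pos g), pow_orderOf_eq_one]
        rw [h3] at h2
        have e : g⁻¹ * (g * x * g⁻¹) * g⁻¹⁻¹ = x := by group
        rwa [e] at h2
      refine IH _ ?_ ⁅X, T⁆ rfl (hlt.le.trans hXV) (normalizer_commutator_ge_right _ _) hgY' fun v hv => ?_
      · rw [← hn]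
        refine lt_of_le_of_ne (Nat.le_of_dvd Nat.card_pos (card_dvd_of_le hlt.le)) fun e => ?_
        exact hlt.ne (eq_of_le_of_card_ge hlt.le e.ge)
      -- `g` is trivial on `X / [X, T]`
      have htr : ∀ x ∈ X, g * x * g⁻¹ * x⁻¹ ∈ ⁅X, T⁆ := fun x hx =>
        mul_mem_of_card hlt.le hcard ((mem_normalizer_iff.1 hgX x).1 hx) hx (mem_normalizer_iff.1 hgY' x).symm
      set w := g * v * g⁻¹ * v⁻¹ with hw
      have hwX : w ∈ X := hgv v hv
      have hk : ∀ k : ℕ, g ^ k * v * (g ^ k)⁻¹ * v⁻¹ * (w ^ k)⁻¹ ∈ ⁅X, T⁆ := by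
        intro k
        induction k with
        | zero => simp
        | succ k ih =>
          have h1 := hgY _ ih
          have h2 := htr (w ^ k) (pow_mem hwX k)
          have h3 := mul_mem h1 h2
          have e1 : v⁻¹ * g⁻¹ = g⁻¹ * v⁻¹ * w⁻¹ := by rw [hw]; group
          have h4 : g ^ (k + 1) * v * (g ^ (k + 1))⁻¹ * v⁻¹ * (w ^ (k + 1))⁻¹ =
              g * (g ^ k * v * (g ^ k)⁻¹ * v⁻¹ * (w ^ k)⁻¹) * g⁻¹ * (g * w ^ k * g⁻¹ * (w ^ k)⁻¹) := by
            calc g ^ (k + 1) * v * (g ^ (k + 1))⁻¹ * v⁻¹ * (w ^ (k + 1))⁻¹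
                = g * g ^ k * v * (g ^ k)⁻¹ * (g⁻¹ * v⁻¹ * w⁻¹) * (w ^ k)⁻¹ := by
                  rw [pow_succ' g, pow_succ w]; group
              _ = g * g ^ k * v * (g ^ k)⁻¹ * (v⁻¹ * g⁻¹) * (w ^ k)⁻¹ := by rw [e1]
              _ = _ := by group
          rw [h4]
          exact h3
      have h1 := hk (orderOf g)
      rw [pow_orderOf_eq_one] at h1
      have e2 : (1 : G) * v * 1⁻¹ * v⁻¹ * (w ^ orderOf g)⁻¹ = (w ^ orderOf g)⁻¹ := by group
      rw [e2, inv_mem_iff] at h1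
      have h2 : w * w⁻¹⁻¹ ∈ ⁅X, T⁆ := mul_mem_of_card hlt.le hcard hwX (inv_mem hwX) (inv_mem_iff).symm
      rw [inv_inv] at h2
      obtain ⟨j, hj⟩ := ho
      have e3 : w ^ orderOf g = (w * w) ^ j * w := by
        rw [hj, pow_succ, pow_mul, pow_two]
      rw [e3] at h1
      exact (mul_mem_cancel_left (pow_mem h2 j)).1 h1
  exact key _ V₁ rfl le_rfl hTV hgV fun v hv =>
    mul_mem ((mem_normalizer_iff.1 hgV v).1 hv) (inv_mem hv)

end Cfsg.Agent.Omega.NO3S.ESym.TypTwo
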