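import Cfsg.Agent.Omega.NO3S.ESym.Frame
import Cfsg.Agent.Omega.NO3S.ESym.Fix
import Cfsg.Agent.Omega.NO3S.ESym.TypTwo

/-!
# SymManyL (E), #23287 (10): a block over `B` which normalises `V` (helper493)

`L'` an FF-block over `B` with module `W p`, `L'` centralises `Z_J ∩ C p`, `Y = C_B(W p)`.
* `odd_comm` : coprime action;
* `MB.norm_V` : FIX gives `L' ≤ N(V)` if the conjugates of `V` lie in `O₂(P)`;
* `MB.odd` : then `[V, x] ≤ W p` for `x ∈ L'` of odd order;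
* `le_sup_of_odd` : `L'` is generated by `B` and its elements of odd order.
-/

set_option autoImplicit false
set_option linter.unusedVariables false
set_option linter.unusedSectionVars false

namespace Cfsg.Agent.Omega.NO3S.ESym.Mv

open Subgroup Cfsg Cfsg.Agent.ZN.ChoiceBase Cfsg.Agent.ZN.ChoiceSit
open Cfsg.Agent.ZN (jj zj bau zc zl o2)
open Cfsg.Agent.Omega.OM
open Cfsg.Agent.Omega.OM.Uni (FB Md)
open Cfsg.Agent.Omega.OM.Lev.Uni (FrL)
open Cfsg.Agent.Omega.Node.MultiOf (FBl)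

universe w

variable {G : Type w} [Group G]

/-- Coprime action. -/
theorem odd_comm {V N N' : Subgroup G} (hc : ∀ v ∈ V, ∀ w ∈ V, v * w = w * v) (hsq : ∀ v ∈ V, v ^ 2 = 1)
    (hNV : N ≤ V) (hN'N : N' ≤ N) {x : G} (hx' : ∀ v ∈ N', x * v * x⁻¹ ∈ N')
    (h1 : ∀ v ∈ V, x * v * x⁻¹ * v⁻¹ ∈ N) (h2 : ∀ v ∈ N, x * v * x⁻¹ * v⁻¹ ∈ N') {m : ℕ} (hm : Odd m)
    (hxm : x ^ m = 1) {v : G} (hv : v ∈ V) : x * v * x⁻¹ * v⁻¹ ∈ N' := by
  set c := x * v * x⁻¹ * v⁻¹ with hcd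
  have hcN : c ∈ N := h1 v hv
  have hcV : c ∈ V := hNV hcN
  obtain ⟨e, he, hce⟩ : ∃ e ∈ N', x * c * x⁻¹ = c * e := by
    refine ⟨c⁻¹ * (x * c * x⁻¹), ?_, by group⟩
    have h3 := h2 c hcN
    have h4 : x * c * x⁻¹ ∈ V := by
      have := mul_mem (hNV (hN'N h3)) hcV
      have e : x * c * x⁻¹ * c⁻¹ * c = x * c * x⁻¹ := by group
      rwa [e] at this
    rw [hc _ (inv_mem hcV) _ h4]
    exact h3
  have heV : e ∈ V := hNV (hN'N he)
  have hxc : ∀ k : ℕ, x * c ^ k * x⁻¹ = c ^ k * e ^ k := by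
    intro k
    have h3 : x * c ^ k * x⁻¹ = (x * c * x⁻¹) ^ k := (conj_pow).symm
    rw [h3, hce]
    exact (show Commute c e from hc c hcV e heV).mul_pow k
  have key : ∀ k : ℕ, ∃ f ∈ N', x ^ k * v * (x ^ k)⁻¹ = v * c ^ k * f := by
    intro k
    induction k with
    | zero => exact ⟨1, one_mem _, by simp⟩
    | succ k ih =>
      obtain ⟨f, hf, hk⟩ := ih
      have hfx := hx' f hf
      refine ⟨e ^ k * (x * f * x⁻¹), mul_mem (pow_mem he k) hfx, ?_⟩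
      have e1 : x ^ (k + 1) * v * (x ^ (k + 1))⁻¹ = x * (x ^ k * v * (x ^ k)⁻¹) * x⁻¹ := by
        rw [pow_succ']; group
      have e2 : x * (v * c ^ k * f) * x⁻¹ = (x * v * x⁻¹) * (x * c ^ k * x⁻¹) * (x * f * x⁻¹) := by group
      have e3 : x * v * x⁻¹ = c * v := by rw [hcd]; group
      rw [e1, hk, e2, hxc, e3, hc c hcV v hv, pow_succ']
      have e4 : v * c * (c ^ k * e ^ k) * (x * f * x⁻¹) = v * (c * c ^ k) * (e ^ k * (x * f * x⁻¹)) := by group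
      rw [e4]
  obtain ⟨f, hf, hk⟩ := key m
  rw [hxm, one_mul, inv_one, mul_one] at hk
  have h5 : c ^ m * f = 1 := by
    have := hk
    rw [mul_assoc] at this
    exact (mul_eq_left.1 this.symm)
  obtain ⟨j, rfl⟩ := hm
  have h6 : c ^ (2 * j + 1) = c := by
    rw [pow_succ, pow_mul, hsq c hcV, one_pow, one_mul]
  rw [h6] at h5
  rw [mul_eq_one_iff_eq_inv.1 h5]
  exact inv_mem hf

/-- the subgroup generated by the elements of odd order -/
def OD (Y : Subgroup G) : Subgroup G := closure {y | y ∈ Y ∧ Odd (orderOf y)}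

theorem OD_le (Y : Subgroup G) : OD Y ≤ Y := (closure_le _).2 fun _ hy => hy.1

theorem conj_OD {Y : Subgroup G} {g x : G} (hg : g ∈ Y) (hx : x ∈ OD Y) : g * x * g⁻¹ ∈ OD Y := by
  have h1 : (OD Y).map (MulAut.conj g).toMonoidHom ≤ OD Y := by
    rw [OD, MonoidHom.map_closure, closure_le]
    rintro _ ⟨y, ⟨hy, ho⟩, rfl⟩
    refine subset_closure ⟨mul_mem (mul_mem hg hy) (inv_mem hg), ?_⟩
    have : orderOf ((MulAut.conj g).toMonoidHom y) = orderOf y :=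
      orderOf_injective (MulAut.conj g).toMonoidHom (MulAut.conj g).injective y
    rw [this]
    exact ho
  exact h1 ⟨x, hx, rfl⟩

/-- A group is generated by a Sylow 2-subgroup and its elements of odd order. -/
theorem le_sup_of_odd [Finite G] {B Y : Subgroup G} (hB : B ≤ Y) (hodd : Odd (B.relIndex Y)) : Y ≤ OD Y ⊔ B := by
  have hn : ((OD Y).subgroupOf Y).Normal := ⟨fun x hx g => conj_OD g.2 hx⟩
  have h2 : IsPGroup 2 (Y ⧸ (OD Y).subgroupOf Y) := by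
    intro q
    obtain ⟨y, rfl⟩ := QuotientGroup.mk_surjective q
    obtain ⟨k, m, hm, hkm⟩ := Nat.exists_eq_two_pow_mul_odd (n := orderOf (y : G)) (orderOf_pos _).ne'
    refine ⟨k, ?_⟩
    rw [← QuotientGroup.mk_pow, QuotientGroup.eq_one_iff, mem_subgroupOf]
    have h1 : orderOf ((y : G) ^ 2 ^ k) = m := by
      rw [orderOf_pow' _ (by positivity), hkm, Nat.gcd_eq_right (Dvd.intro _ rfl),
        Nat.mul_div_cancel_left _ (by positivity)]
    exact subset_closure ⟨pow_mem y.2 _, by rw [coe_pow, h1]; exact hm⟩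
  have : Fact (Nat.Prime 2) := ⟨Nat.prime_two⟩
  obtain ⟨n, hn2⟩ := IsPGroup.iff_card.1 h2
  have h3 : (OD Y).relIndex Y = 2 ^ n := by
    rw [← hn2]; rfl
  have h4 : (OD Y ⊔ B).relIndex Y ∣ 2 ^ n := by
    rw [← h3]
    exact relIndex_dvd_of_le_left Y le_sup_left
  have h5 : Odd ((OD Y ⊔ B).relIndex Y) := by
    have h6 : (OD Y ⊔ B).relIndex Y ∣ B.relIndex Y := relIndex_dvd_of_le_left Y le_sup_right
    exact Odd.of_dvd_nat hodd h6
  obtain ⟨m, -, hm⟩ := (Nat.dvd_prime_pow Nat.prime_two).1 h4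
  have h7 : m = 0 := by
    by_contra h0
    rw [hm] at h5
    exact (Nat.not_odd_iff_even.2 ((Nat.even_pow.2 ⟨even_two, h0⟩))) h5
  rw [h7, pow_zero] at hm
  exact relIndex_eq_one.1 hm

variable {ι : Type} {B Q V X ZJ : Subgroup G} {L W Z C A : ι → Subgroup G} {L' Z' : Subgroup G} {p : ι} {q' : ℕ}

/-- The situation: `L'` a block over `B` with module `W p`, centralising `Z_J ∩ C p`. -/
structure MB (B Q V X ZJ : Subgroup G) {ι : Type} (L W Z C A : ι → Subgroup G) (p : ι) (L' Z' : Subgroup G)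
    (q' : ℕ) : Prop where
  f : FrL B Q V X ZJ L W Z C A 2
  fb : FB B L' (W p) Z' q'
  cen : ∀ l ∈ L', ∀ z ∈ ZJ, z ∈ C p → l * z = z * l

namespace MB

variable (h : MB B Q V X ZJ L W Z C A p L' Z' q')
include h

theorem Wn {l v : G} (hl : l ∈ L') (hv : v ∈ W p) : l * v * l⁻¹ ∈ W p := h.fb.nV l hl v hv

theorem Wn' {l v : G} (hl : l ∈ L') (hv : v ∈ W p) : l⁻¹ * v * l ∈ W p := by
  have := h.Wn (inv_mem hl) hv
  rwa [inv_inv] at this

theorem Yn {l y : G} (hl : l ∈ L') (hy : y ∈ B ⊓ centralizer (W p : Set G)) :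
    l * y * l⁻¹ ∈ B ⊓ centralizer (W p : Set G) := by
  obtain ⟨hyB, hyc⟩ := hy
  refine mem_inf.2 ⟨h.fb.cor l hl y hyB fun v hv => (mem_centralizer_iff.1 hyc v hv).symm, ?_⟩
  rw [mem_centralizer_iff]
  intro v hv
  have h1 := mem_centralizer_iff.1 hyc _ (h.Wn' hl hv)
  calc v * (l * y * l⁻¹) = l * ((l⁻¹ * v * l) * y) * l⁻¹ := by group
    _ = l * (y * (l⁻¹ * v * l)) * l⁻¹ := by rw [h1]
    _ = l * y * l⁻¹ * v := by group

theorem Yn' {l y : G} (hl : l ∈ L') (hy : y ∈ B ⊓ centralizer (W p : Set G)) :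
    l⁻¹ * y * l ∈ B ⊓ centralizer (W p : Set G) := by
  have := h.Yn (inv_mem hl) hy
  rwa [inv_inv] at this

theorem QY : Q ≤ B ⊓ centralizer (W p : Set G) := fun x hx =>
  mem_inf.2 ⟨h.f.QB hx, mem_centralizer_iff.2 fun v hv => (h.f.cQ hx (h.f.WV p hv)).symm⟩

theorem L_norm_Y : L' ≤ normalizer ((B ⊓ centralizer (W p : Set G) : Subgroup G) : Set G) := by
  intro l hl
  rw [mem_normalizer_iff]
  intro y
  refine ⟨h.Yn hl, fun hy => ?_⟩
  have := h.Yn' hl hy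
  have e : l⁻¹ * (l * y * l⁻¹) * l = y := by group
  rwa [e] at this

/-- `Z i`, `i ≠ p`, is centralised by `L'`. -/
theorem cenZ {i : ι} (hi : i ≠ p) {l z : G} (hl : l ∈ L') (hz : z ∈ Z i) : l * z = z * l :=
  h.cen l hl z (h.f.Z_le i hz) (h.f.WjC p i hi.symm ((h.f.blk i).ZV hz))

theorem exists_z (i : ι) : ∃ z ∈ Z i, z ≠ 1 ∧ ∀ x ∈ Z i, x = 1 ∨ x = z := by
  obtain ⟨a, ha, hu⟩ := (Nat.card_eq_two_iff' (1 : Z i)).1 (h.f.cardZ i)
  refine ⟨a, a.2, fun e => ha (Subtype.ext e), fun x hx => ?_⟩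
  by_cases hx1 : x = 1
  · exact Or.inl hx1
  · exact Or.inr (congrArg Subtype.val (hu ⟨x, hx⟩ fun e => hx1 (congrArg Subtype.val e)))

/-- FIX gives `L' ≤ N(V)`. -/
theorem norm_V [Finite ι] [Finite G] {S : Sylow 2 G} {P K0 : Subgroup G} (hF : FixK S P K0) (hQ : Q = o2 P)
    (hV : V = zl (S : Subgroup G) P) (hBS : B ≤ (S : Subgroup G)) (hVQ : ∀ l ∈ L', ∀ v ∈ V, l * v * l⁻¹ ∈ Q) {l : G}
    (hl : l ∈ L') {v : G} (hv : v ∈ V) : l * v * l⁻¹ ∈ V := by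
  have hlK : l ∈ normalizer (K0 : Set G) :=
    hF.nrm _ ((hF.le.trans hQ.ge).trans h.QY) (inf_le_left.trans hBS) (h.L_norm_Y hl)
  have key : ∀ i, ∀ w ∈ W i, l * w * l⁻¹ ∈ V := by
    intro i w hw
    by_cases hi : i = p
    · subst hi
      exact h.f.WV i (h.Wn hl hw)
    have hwV := h.f.WV i hw
    obtain ⟨z, hz, hz1, hzz⟩ := h.exists_z i
    have hzV : z ∈ V := h.f.ZV i hz
    rw [hV]
    refine hF.fix _ (by rw [← hQ]; exact hVQ l hl w hwV) ?_ ?_ z (by rw [← hV]; exact hzV) ?_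
    · have e1 : w * w = 1 := by
        have := SQ1.Bau.elem_sq h.f.el w hwV
        rwa [pow_two] at this
      calc l * w * l⁻¹ * (l * w * l⁻¹) = l * (w * w) * l⁻¹ := by group
        _ = 1 := by rw [e1]; group
    · rw [mem_centralizer_iff]
      intro k hk
      have h1 : l⁻¹ * k * l ∈ K0 := by
        have := (mem_normalizer_iff.1 (inv_mem hlK) k).1 hk
        rwa [inv_inv] at this
      have h2 := mem_centralizer_iff.1 (hF.cen (by rw [← hV]; exact hwV)) _ h1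
      calc k * (l * w * l⁻¹) = l * ((l⁻¹ * k * l) * w) * l⁻¹ := by group
        _ = l * (w * (l⁻¹ * k * l)) * l⁻¹ := by rw [h2]
        _ = l * w * l⁻¹ * k := by group
    · intro o ho
      rw [← hQ] at ho
      have h1 : l⁻¹ * o * l ∈ B := (h.Yn' hl (h.QY ho)).1
      have h2 := (h.f.blk i).com _ h1 w hw
      have hlz := h.cenZ hi hl hz
      rcases hzz _ h2 with h3 | h3
      · left
        have h4 : (l⁻¹ * o * l) * w * (l⁻¹ * o * l)⁻¹ = w := mul_inv_eq_one.1 h3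
        calc o * (l * w * l⁻¹) * o⁻¹ = l * ((l⁻¹ * o * l) * w * (l⁻¹ * o * l)⁻¹) * l⁻¹ := by group
          _ = l * w * l⁻¹ := by rw [h4]
      · right
        have h4 : (l⁻¹ * o * l) * w * (l⁻¹ * o * l)⁻¹ = z * w := by rw [← h3]; group
        have h5 : z * w = w * z := h.f.Vc hzV hwV
        calc o * (l * w * l⁻¹) * o⁻¹ = l * ((l⁻¹ * o * l) * w * (l⁻¹ * o * l)⁻¹) * l⁻¹ := by group
          _ = l * (w * z) * l⁻¹ := by rw [h4, h5]
          _ = l * w * l⁻¹ * (l * z * l⁻¹) := by group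
          _ = l * w * l⁻¹ * z := by rw [hlz]; group
  have h1 : V ≤ V.comap (MulAut.conj l).toMonoidHom := by
    conv_lhs => rw [h.f.V_eq]
    exact iSup_le fun i w hw => key i w hw
  exact h1 hv

/-- `b ∈ B` moves `W i` -/
def _root_.Cfsg.Agent.Omega.NO3S.ESym.Mv.Moves {ι : Type} (W : ι → Subgroup G) (b : G) (i : ι) : Prop :=
  ¬ ∀ w ∈ W i, b * w = w * b

theorem moves_of (hN : ∀ l ∈ L', ∀ v ∈ V, l * v * l⁻¹ ∈ V) [Finite G] {l : G} (hl : l ∈ L') {y : G}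
    (hy : y ∈ B ⊓ centralizer (W p : Set G)) {i : ι} (hm : Moves W y i) : Moves W (l⁻¹ * y * l) i := by
  intro hc
  have hi : i ≠ p := by
    rintro rfl
    exact hm fun w hw => (mem_centralizer_iff.1 hy.2 w hw).symm
  obtain ⟨z, hz, hz1, -⟩ := h.exists_z i
  obtain ⟨w, hw, e⟩ := UniPlus.exists_eq_comm (h.f.blk i).toMd (h.f.cardZ i) hy.1 hm hz
  have hv : l⁻¹ * w * l ∈ V := by
    have := hN l⁻¹ (inv_mem hl) w (h.f.WV i hw)
    rwa [inv_inv] at this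
  have hlz := h.cenZ hi hl hz
  have e1 : (l⁻¹ * y * l) * (l⁻¹ * w * l) * (l⁻¹ * y * l)⁻¹ * (l⁻¹ * w * l)⁻¹ = z := by
    calc (l⁻¹ * y * l) * (l⁻¹ * w * l) * (l⁻¹ * y * l)⁻¹ * (l⁻¹ * w * l)⁻¹ = l⁻¹ * (y * w * y⁻¹ * w⁻¹) * l := by
          group
      _ = l⁻¹ * z * l := by rw [← e]
      _ = l⁻¹ * (z * l) := by group
      _ = l⁻¹ * (l * z) := by rw [hlz]
      _ = z := by group
  obtain ⟨w1, hw1, c, hcC, e2⟩ := h.f.WC i _ hv
  have hyB : l⁻¹ * y * l ∈ B := (h.Yn' hl hy).1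
  have h1 : z ∈ C i := by
    rw [← e1, e2]
    set y' := l⁻¹ * y * l
    have hc1 := hc w1 hw1
    have h3 := h.f.BC i y' hyB c hcC
    have hcom : w1 * (y' * c * y'⁻¹) = (y' * c * y'⁻¹) * w1 := h.f.Vc (h.f.WV i hw1) (h.f.CV i h3)
    have e3 : y' * (w1 * c) * y'⁻¹ * (w1 * c)⁻¹ = (y' * c * y'⁻¹) * c⁻¹ := by
      calc y' * (w1 * c) * y'⁻¹ * (w1 * c)⁻¹ = (y' * w1) * c * y'⁻¹ * c⁻¹ * w1⁻¹ := by group
        _ = (w1 * y') * c * y'⁻¹ * c⁻¹ * w1⁻¹ := by rw [hc1]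
        _ = (w1 * (y' * c * y'⁻¹)) * c⁻¹ * w1⁻¹ := by group
        _ = (y' * c * y'⁻¹) * (w1 * c⁻¹) * w1⁻¹ := by rw [hcom]; group
        _ = (y' * c * y'⁻¹) * (c⁻¹ * w1) * w1⁻¹ := by
          rw [h.f.Vc (h.f.WV i hw1) (h.f.CV i (inv_mem hcC))]
        _ = _ := by group
    rw [e3]
    exact mul_mem h3 (inv_mem hcC)
  have h2 : z ∈ W i ⊓ C i := ⟨(h.f.blk i).ZV hz, h1⟩
  rw [h.f.dir i, mem_bot] at h2
  exact hz1 h2

/-- two elements of `B` which move the same `W i` act in the same way -/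
theorem same {b b' : G} (hb : b ∈ B) (hb' : b' ∈ B) [Finite ι] (hm : ∀ i, Moves W b i ↔ Moves W b' i) {v : G}
    (hv : v ∈ V) : b * v * b⁻¹ = b' * v * b'⁻¹ := by
  let X0 : Subgroup G :=
    { carrier := {v | b * v * b⁻¹ = b' * v * b'⁻¹}
      one_mem' := by show b * 1 * b⁻¹ = b' * 1 * b'⁻¹; group
      mul_mem' := by
        intro x y (hx : b * x * b⁻¹ = b' * x * b'⁻¹) (hy : b * y * b⁻¹ = b' * y * b'⁻¹)
        show b * (x * y) * b⁻¹ = b' * (x * y) * b'⁻¹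
        calc b * (x * y) * b⁻¹ = (b * x * b⁻¹) * (b * y * b⁻¹) := by group
          _ = (b' * x * b'⁻¹) * (b' * y * b'⁻¹) := by rw [hx, hy]
          _ = _ := by group
      inv_mem' := by
        intro x (hx : b * x * b⁻¹ = b' * x * b'⁻¹)
        show b * x⁻¹ * b⁻¹ = b' * x⁻¹ * b'⁻¹
        calc b * x⁻¹ * b⁻¹ = (b * x * b⁻¹)⁻¹ := by group
          _ = (b' * x * b'⁻¹)⁻¹ := by rw [hx]
          _ = _ := by group }
  have key : ∀ i, W i ≤ X0 := by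
    intro i w hw
    show b * w * b⁻¹ = b' * w * b'⁻¹
    by_cases hi : Moves W b i
    · have hi' := (hm i).1 hi
      by_cases hz : w ∈ Z i
      · rw [(h.f.blk i).cZ b hb w hz, (h.f.blk i).cZ b' hb' w hz]; group
      · obtain ⟨z, hz0, hz1, hzz⟩ := h.exists_z i
        have h1 : ∀ a ∈ B, Moves W a i → a * w * a⁻¹ * w⁻¹ = z := by
          intro a ha hma
          rcases hzz _ ((h.f.blk i).com a ha w hw) with h2 | h2
          · exfalso
            exact hma ((h.f.blk i).free a ha w hw hz (mul_inv_eq_iff_eq_mul.1 (mul_inv_eq_one.1 h2)))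
          · exact h2
        have h2 := h1 b hb hi
        have h3 := h1 b' hb' hi'
        calc b * w * b⁻¹ = (b * w * b⁻¹ * w⁻¹) * w := by group
          _ = (b' * w * b'⁻¹ * w⁻¹) * w := by rw [h2, h3]
          _ = _ := by group
    · have hi' : ¬ Moves W b' i := fun h1 => hi ((hm i).2 h1)
      unfold Moves at hi hi'
      push Not at hi hi'
      rw [hi w hw, hi' w hw]; group
  have h1 : V ≤ X0 := by
    rw [h.f.V_eq]
    exact iSup_le key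
  exact h1 hv

theorem inv_moves (hN : ∀ l ∈ L', ∀ v ∈ V, l * v * l⁻¹ ∈ V) [Finite G] {l : G} (hl : l ∈ L') {y : G}
    (hy : y ∈ B ⊓ centralizer (W p : Set G)) (i : ι) : Moves W y i ↔ Moves W (l⁻¹ * y * l) i := by
  refine ⟨h.moves_of hN hl hy, fun hm => ?_⟩
  have h1 := h.moves_of hN (inv_mem hl) (h.Yn' hl hy) hm
  have e : l⁻¹⁻¹ * (l⁻¹ * y * l) * l⁻¹ = y := by group
  rwa [e] at h1

/-- `[V, y]` is centralised by `L'` for `y ∈ C_B(W p)`. -/
theorem comm_fix [Finite ι] {l : G} (hl : l ∈ L') {y : G} (hy : y ∈ B ⊓ centralizer (W p : Set G)) {v : G}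
    (hv : v ∈ V) : l * (y * v * y⁻¹ * v⁻¹) = (y * v * y⁻¹ * v⁻¹) * l := by
  have hBV : ∀ v ∈ V, y * v * y⁻¹ ∈ V := by
    intro v hv
    obtain ⟨i⟩ : Nonempty ι := ⟨p⟩
    exact h.f.LV i y ((h.f.blk i).BL hy.1) v hv
  let X0 : Subgroup G :=
    { carrier := {v | v ∈ V ∧ l * (y * v * y⁻¹ * v⁻¹) = (y * v * y⁻¹ * v⁻¹) * l}
      one_mem' := ⟨one_mem _, by group⟩
      mul_mem' := by
        rintro a b ⟨ha, ha'⟩ ⟨hb, hb'⟩
        refine ⟨mul_mem ha hb, ?_⟩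
        have e : y * (a * b) * y⁻¹ * (a * b)⁻¹ = (y * a * y⁻¹ * a⁻¹) * (y * b * y⁻¹ * b⁻¹) := by
          have h1 : (y * b * y⁻¹ * b⁻¹) * a⁻¹ = a⁻¹ * (y * b * y⁻¹ * b⁻¹) :=
            h.f.Vc (mul_mem (hBV b hb) (inv_mem hb)) (inv_mem ha)
          calc y * (a * b) * y⁻¹ * (a * b)⁻¹ = (y * a * y⁻¹) * ((y * b * y⁻¹ * b⁻¹) * a⁻¹) := by group
            _ = (y * a * y⁻¹) * (a⁻¹ * (y * b * y⁻¹ * b⁻¹)) := by rw [h1]
            _ = _ := by group
        rw [e]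
        exact ((show Commute l _ from ha').mul_right (show Commute l _ from hb')).eq
      inv_mem' := by
        rintro a ⟨ha, ha'⟩
        refine ⟨inv_mem ha, ?_⟩
        have e : y * a⁻¹ * y⁻¹ * a⁻¹⁻¹ = (y * a * y⁻¹ * a⁻¹)⁻¹ := by
          have h1 : (y * a * y⁻¹)⁻¹ * a = a * (y * a * y⁻¹)⁻¹ := h.f.Vc (inv_mem (hBV a ha)) ha
          calc y * a⁻¹ * y⁻¹ * a⁻¹⁻¹ = (y * a * y⁻¹)⁻¹ * a := by group
            _ = a * (y * a * y⁻¹)⁻¹ := h1
            _ = _ := by group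
        rw [e]
        exact (show Commute l _ from ha').inv_right.eq }
  have h1 : V ≤ X0 := by
    conv_lhs => rw [h.f.V_eq]
    refine iSup_le fun i w hw => ⟨h.f.WV i hw, ?_⟩
    by_cases hi : i = p
    · subst hi
      have h2 : y * w = w * y := (mem_centralizer_iff.1 hy.2 w hw).symm
      rw [h2]; group
    · exact h.cenZ hi hl ((h.f.blk i).com y hy.1 w hw)
  exact (h1 hv).2

/-- `[V, L'] ≤ C_V(C_B(W p))`. -/
theorem delta (hN : ∀ l ∈ L', ∀ v ∈ V, l * v * l⁻¹ ∈ V) [Finite G] [Finite ι] {l : G} (hl : l ∈ L') {v : G}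
    (hv : v ∈ V) {y : G} (hy : y ∈ B ⊓ centralizer (W p : Set G)) :
    y * (l * v * l⁻¹ * v⁻¹) = (l * v * l⁻¹ * v⁻¹) * y := by
  have hy' := h.Yn' hl hy
  have h1 := h.same hy.1 hy'.1 (h.inv_moves hN hl hy) hv
  have h2 := h.comm_fix hl hy hv
  have hBV : y * v * y⁻¹ ∈ V := h.f.LV p y ((h.f.blk p).BL hy.1) v hv
  set c := y * v * y⁻¹ * v⁻¹ with hc
  have hcV : c ∈ V := mul_mem hBV (inv_mem hv)
  have h3 : (l⁻¹ * y * l) * v * (l⁻¹ * y * l)⁻¹ = c * v := by rw [← h1, hc]; group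
  have h4 : y * (l * v * l⁻¹) * y⁻¹ = c * (l * v * l⁻¹) := by
    calc y * (l * v * l⁻¹) * y⁻¹ = l * ((l⁻¹ * y * l) * v * (l⁻¹ * y * l)⁻¹) * l⁻¹ := by group
      _ = (l * c) * v * l⁻¹ := by rw [h3]; group
      _ = c * (l * v * l⁻¹) := by rw [h2]; group
  have h5 : y * v * y⁻¹ = c * v := by rw [hc]; group
  have h6 : c * (l * v * l⁻¹ * v⁻¹) = (l * v * l⁻¹ * v⁻¹) * c := h.f.Vc hcV (mul_mem (hN l hl v hv) (inv_mem hv))
  have h7 : y * (l * v * l⁻¹ * v⁻¹) * y⁻¹ = l * v * l⁻¹ * v⁻¹ := by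
    calc y * (l * v * l⁻¹ * v⁻¹) * y⁻¹ = (y * (l * v * l⁻¹) * y⁻¹) * (y * v * y⁻¹)⁻¹ := by group
      _ = c * (l * v * l⁻¹) * (c * v)⁻¹ := by rw [h4, h5]
      _ = (c * (l * v * l⁻¹ * v⁻¹)) * c⁻¹ := by group
      _ = (l * v * l⁻¹ * v⁻¹ * c) * c⁻¹ := by rw [h6]
      _ = _ := by group
  exact mul_inv_eq_iff_eq_mul.1 h7

/-- `C_V(C_B(W p)) ≤ W p Z_J`. -/
theorem le_of_fix [Finite G] {v : G} (hv : v ∈ V)
    (hc : ∀ y ∈ B ⊓ centralizer (W p : Set G), y * v = v * y) : v ∈ W p ⊔ ZJ := by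
  obtain ⟨w, hw, c, hcC, rfl⟩ := h.f.WC p v hv
  have hwV := h.f.WV p hw
  have hcV := h.f.CV p hcC
  refine mul_mem (mem_sup_left hw) (mem_sup_right ((h.f.mem_ZJ c).2 ⟨hcV, ?_⟩))
  have h1 : ∀ y ∈ B ⊓ centralizer (W p : Set G), y * c = c * y := by
    intro y hy
    have h2 := hc y hy
    have h3 : w * y = y * w := mem_centralizer_iff.1 hy.2 w hw
    have h4 : w * (y * c) = w * (c * y) := by
      calc w * (y * c) = (w * y) * c := by group
        _ = y * (w * c) := by rw [h3]; group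
        _ = w * (c * y) := by rw [h2]; group
    exact mul_left_cancel h4
  obtain ⟨a, ha, hma⟩ : ∃ a ∈ A p, ¬ ∀ v ∈ W p, a * v = v * a := by
    by_contra hcon
    push Not at hcon
    exact h.f.Ane p hcon
  have haB := h.f.AB p ha
  have haY : a ∉ B ⊓ centralizer (W p : Set G) := fun h2 => hma fun v hv => (mem_centralizer_iff.1 h2.2 v hv).symm
  intro b hb
  by_cases hbY : b ∈ B ⊓ centralizer (W p : Set G)
  · exact h1 b hbY
  · have h2 : b * a ∈ B ⊓ centralizer (W p : Set G) :=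
      mul_mem_of_card_le_two inf_le_left (h.f.blk p).cardB hb hbY haB haY
    have h3 := h1 _ h2
    have h4 := h.f.AC p a ha c hcC
    have h5 : b * c * a = c * b * a := by
      calc b * c * a = b * (c * a) := by group
        _ = b * a * c := by rw [← h4]; group
        _ = c * b * a := by rw [h3]; group
    exact mul_right_cancel h5

/-- **`[V, x] ≤ W p` for `x ∈ L'` of odd order.** -/
theorem odd (hN : ∀ l ∈ L', ∀ v ∈ V, l * v * l⁻¹ ∈ V) [Finite G] [Finite ι] {x : G} (hx : x ∈ L')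
    (ho : Odd (orderOf x)) {v : G} (hv : v ∈ V) : x * v * x⁻¹ * v⁻¹ ∈ W p := by
  refine odd_comm (V := V) (N := W p ⊔ ZJ) (N' := W p) (fun a ha b hb => h.f.Vc ha hb)
    (fun a ha => SQ1.Bau.elem_sq h.f.el a ha) (sup_le (h.f.WV p) h.f.ZJV) le_sup_left
    (fun a ha => h.Wn hx ha) (fun a ha => ?_) (fun a ha => ?_) ho (pow_orderOf_eq_one x) hv
  · exact h.le_of_fix (mul_mem (hN x hx a ha) (inv_mem ha)) fun y hy => h.delta hN hx ha hy
  · have hcom : ∀ u ∈ W p, ∀ z ∈ ZJ, u * z = z * u := fun u hu z hz => h.f.Vc (h.f.WV p hu) (h.f.ZJV hz)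
    obtain ⟨w, hw, z, hz, rfl⟩ := SQ1.Bau.mem_sup_comm hcom ha
    obtain ⟨z1, hz1, c, hcC, hcJ, rfl⟩ := h.f.split_ZJ p hz
    have hz1W : z1 ∈ W p := (h.f.blk p).ZV hz1
    have h1 := h.cen x hx c hcJ hcC
    have hu : w * z1 ∈ W p := mul_mem hw hz1W
    have e : x * (w * (z1 * c)) * x⁻¹ * (w * (z1 * c))⁻¹ = x * (w * z1) * x⁻¹ * (w * z1)⁻¹ := by
      calc x * (w * (z1 * c)) * x⁻¹ * (w * (z1 * c))⁻¹ = x * (w * z1) * (c * x⁻¹) * c⁻¹ * (w * z1)⁻¹ := by group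
        _ = x * (w * z1) * (x⁻¹ * c) * c⁻¹ * (w * z1)⁻¹ := by
          rw [((show Commute x c from h1).inv_left).eq]
        _ = _ := by group
    rw [e]
    exact mul_mem (h.Wn hx hu) (inv_mem hu)

end MB

end Cfsg.Agent.Omega.NO3S.ESym.Mv
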