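import Cfsg.Agent.ZN.ChoiceBase
import Mathlib.GroupTheory.PGroup
import Mathlib.GroupTheory.Perm.Cycle.Type

/-!
# SymManyL (E): the partners (helper661; (e) of helper457 #23655)

* `exists_pair` : a 2-group which is transitive on a set with at least two points: two points `a ≠ b` with the same
  stabiliser, exchanged by some element;
* `exists_partners` : the same for a 2-group `S` permuting a family of subgroups transitively by conjugation.
-/

set_option autoImplicit false

namespace Cfsg.Agent.Omega.NO3S.ESym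

open Subgroup Cfsg Cfsg.Agent.ZN.ChoiceBase

/-- a transitive 2-group has two points with the same stabiliser, exchanged by an element -/
theorem exists_pair {H : Type*} [Group H] [Finite H] (hH : IsPGroup 2 H) {α : Type*} [MulAction H α]
    (htr : ∀ a b : α, ∃ h : H, h • a = b) (hnt : ∃ a b : α, a ≠ b) :
    ∃ (a b : α) (s : H), a ≠ b ∧ s • a = b ∧ s • b = a ∧ ∀ h : H, h • a = a ↔ h • b = b := by
  obtain ⟨a₀, b₀, hab⟩ := hnt
  set R : Subgroup (Equiv.Perm α) := (MulAction.toPermHom H α).range with hR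
  have hfin : Finite R := Finite.of_surjective _ (MulAction.toPermHom H α).rangeRestrict_surjective
  have hRp : IsPGroup 2 R := hH.of_surjective _ (MulAction.toPermHom H α).rangeRestrict_surjective
  have hnt : Nontrivial R := by
    obtain ⟨h, hh⟩ := htr a₀ b₀
    refine ⟨⟨⟨MulAction.toPermHom H α h, ⟨h, rfl⟩⟩, 1, fun he => hab ?_⟩⟩
    have h1 : MulAction.toPermHom H α h = 1 := congrArg Subtype.val he
    have h2 : h • a₀ = a₀ := by
      have := congrArg (fun f : Equiv.Perm α => f a₀) h1
      simpa using this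
    rw [← hh, h2]
  have hc : Nontrivial (center R) := hRp.center_nontrivial
  have hcp : IsPGroup 2 (center R) := hRp.to_subgroup _
  have h2 : 2 ∣ Nat.card (center R) := by
    rcases hcp.card_eq_or_dvd with h | h
    · exact absurd h (Finite.one_lt_card).ne'
    · exact h
  obtain ⟨c, hc2⟩ := exists_prime_orderOf_dvd_card' 2 h2
  obtain ⟨⟨⟨c, s, hs⟩, hcen⟩, rfl⟩ : ∃ x, x = c := ⟨c, rfl⟩
  have hcc : ∀ h : H, ∀ a : α, h • s • a = s • h • a := by
    intro h a
    have h1 := mem_center_iff.1 hcen ⟨MulAction.toPermHom H α h, ⟨h, rfl⟩⟩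
    have h3 : MulAction.toPermHom H α h * c = c * MulAction.toPermHom H α h := congrArg Subtype.val h1
    rw [← hs] at h3
    have h4 := congrArg (fun f : Equiv.Perm α => f a) h3
    simpa using h4
  have hsq : ∀ a : α, s • s • a = a := by
    intro a
    have h1 := pow_orderOf_eq_one (⟨⟨c, s, hs⟩, hcen⟩ : center R)
    rw [hc2] at h1
    have h3 : c ^ 2 = 1 := congrArg (fun x : center R => (x : R).1) h1
    rw [← hs, pow_two] at h3
    have h4 := congrArg (fun f : Equiv.Perm α => f a) h3
    simpa using h4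
  have hne : ∃ a : α, s • a ≠ a := by
    by_contra hcon
    push Not at hcon
    have h1 : c = 1 := by
      rw [← hs]
      ext a
      simpa using hcon a
    have h3 : (⟨⟨c, s, hs⟩, hcen⟩ : center R) = 1 := Subtype.ext (Subtype.ext h1)
    rw [h3, orderOf_one] at hc2
    omega
  obtain ⟨a, ha⟩ := hne
  refine ⟨a, s • a, s, ha.symm, rfl, hsq a, fun h => ?_⟩
  rw [hcc]
  constructor
  · intro h1; rw [h1]
  · intro h1
    exact MulAction.injective s h1

variable {G : Type*} [Group G]

/-- **The partners.** -/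
theorem exists_partners [Finite G] {S : Subgroup G} (hS : IsPGroup 2 S) {κ : Type*} {F : κ → Subgroup G}
    (inj : Function.Injective F) (perm : ∀ x ∈ S, ∀ j, ∃ i, cj x (F j) = F i)
    (tr : ∀ i j, ∃ x ∈ S, cj x (F i) = F j) (hnt : ∃ i j : κ, i ≠ j) :
    ∃ (b : Fin 2 → κ) (s : G), b 0 ≠ b 1 ∧ s ∈ S ∧ (∀ i, cj s (F (b i)) = F (b (i + 1))) ∧
      S ⊓ normalizer (F (b 0) : Set G) = S ⊓ normalizer (F (b 1) : Set G) := by
  classical
  let _ : MulAction S (Set.range F) :=
    { smul := fun x y => ⟨cj (x : G) y.1, by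
        obtain ⟨H, j, rfl⟩ := y
        obtain ⟨i, hi⟩ := perm x x.2 j
        exact ⟨i, hi.symm⟩⟩
      one_smul := fun y => Subtype.ext (cj_one _)
      mul_smul := fun x x' y => Subtype.ext (cj_cj (x : G) (x' : G) y.1).symm }
  have hsm : ∀ (x : S) (y : Set.range F), ((x • y : Set.range F) : Subgroup G) = cj (x : G) y.1 := fun _ _ => rfl
  obtain ⟨⟨_, a, rfl⟩, ⟨_, b, rfl⟩, s, hab, h1, h2, h3⟩ := exists_pair (H := S) (α := Set.range F) hS
    (by
      rintro ⟨_, i, rfl⟩ ⟨_, j, rfl⟩
      obtain ⟨x, hx, he⟩ := tr i j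
      exact ⟨⟨x, hx⟩, Subtype.ext he⟩)
    (by
      obtain ⟨i, j, hij⟩ := hnt
      exact ⟨⟨F i, i, rfl⟩, ⟨F j, j, rfl⟩, fun he => hij (inj (congrArg Subtype.val he))⟩)
  have e1 : cj (s : G) (F a) = F b := congrArg Subtype.val h1
  have e2 : cj (s : G) (F b) = F a := congrArg Subtype.val h2
  refine ⟨![a, b], s, ?_, s.2, ?_, ?_⟩
  · intro he
    apply hab
    have : a = b := he
    rw [this]
  · intro i
    fin_cases i
    · exact e1
    · exact e2
  · ext x
    simp only [mem_inf, Matrix.cons_val_zero, Matrix.cons_val_one]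
    refine and_congr_right fun hx => ?_
    have h4 := h3 ⟨x, hx⟩
    rw [mem_normalizer_iff_cj, mem_normalizer_iff_cj]
    constructor
    · intro h5
      exact congrArg Subtype.val (h4.1 (Subtype.ext h5))
    · intro h5
      exact congrArg Subtype.val (h4.2 (Subtype.ext h5))

end Cfsg.Agent.Omega.NO3S.ESym
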