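import Mathlib

/-!
# SymManyL (E): normal 2-subgroups of symmetric groups (helper266)

* `two_core` : a 2-group `R` of permutations of `U`, normalised by the transpositions of `U`: the elements `≠ 1` are
  fixed-point-free involutions on `U`, and `|U| ≤ 4`;
* `two_core_fix` : `U = {o}ᶜ`;  `two_core_top` : `U` everything, `n ≥ 5`: `R = 1`;
* `card_inv_le`, `card_inv_le_two` : even vectors on 5 points invariant under such elements.
-/

set_option autoImplicit false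

namespace Cfsg.Agent.Omega.NO3S.ESym

open Equiv Equiv.Perm

section core

variable {α : Type*} [DecidableEq α] [Finite α] {R : Subgroup (Perm α)} {U : Set α}

theorem swap_mul_swap_notMem (h2 : IsPGroup 2 R) {a b c : α} (hab : a ≠ b) (hac : a ≠ c) (hbc : b ≠ c) :
    swap a b * swap a c ∉ R := by
  classical
  have := Fintype.ofFinite α
  intro h
  have h3 : (swap a b * swap a c).IsThreeCycle := isThreeCycle_swap_mul_swap_same hab hac hbc
  have h4 : orderOf (swap a b * swap a c) = 3 := h3.orderOf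
  obtain ⟨k, hk⟩ := h2 ⟨_, h⟩
  have h5 : (swap a b * swap a c) ^ 2 ^ k = 1 := congrArg Subtype.val hk
  have h6 := orderOf_dvd_of_pow_eq_one h5
  rw [h4] at h6
  have h7 := Nat.Prime.dvd_of_dvd_pow Nat.prime_three h6
  omega

omit [Finite α] in
theorem key_mem (hn : ∀ a ∈ U, ∀ b ∈ U, ∀ ρ ∈ R, swap a b * ρ * swap a b ∈ R) {ρ : Perm α} (hρ : ρ ∈ R) {b c : α}
    (hb : b ∈ U) (hc : c ∈ U) : swap (ρ b) (ρ c) * swap b c ∈ R := by
  have h1 := mul_mem hρ (hn b hb c hc ρ⁻¹ (inv_mem hρ))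
  have h2 : swap (ρ b) (ρ c) = ρ * swap b c * ρ⁻¹ := (Equiv.swap_apply_apply ρ b c)
  rw [h2]
  simpa only [mul_assoc] using h1

/-- **normal 2-subgroups** -/
theorem two_core (h2 : IsPGroup 2 R) (hU : ∀ ρ ∈ R, ∀ a, a ∉ U → ρ a = a)
    (hn : ∀ a ∈ U, ∀ b ∈ U, ∀ ρ ∈ R, swap a b * ρ * swap a b ∈ R) {ρ : Perm α} (hρ : ρ ∈ R) (h1 : ρ ≠ 1) :
    (∀ a ∈ U, ρ a ≠ a) ∧ ρ * ρ = 1 ∧ ∀ s : Finset α, (s : Set α) ⊆ U → s.card ≤ 4 := by
  have hUm : ∀ ρ ∈ R, ∀ a, ρ a ≠ a → a ∈ U := fun ρ hρ a ha => by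
    by_contra h
    exact ha (hU ρ hρ a h)
  -- involutions
  have hinv : ∀ ρ ∈ R, ∀ a, ρ (ρ a) = a := by
    intro ρ hρ a
    by_cases ha : ρ a = a
    · rw [ha, ha]
    by_contra hca
    have hb1 : ρ (ρ a) ≠ ρ a := fun h => ha (ρ.injective h)
    have hc1 : ρ (ρ (ρ a)) ≠ ρ (ρ a) := fun h => hb1 (ρ.injective h)
    have hc2 : ρ (ρ (ρ a)) ≠ ρ a := fun h => hca (ρ.injective h)
    have h3 := key_mem hn hρ (hUm ρ hρ _ hb1) (hUm ρ hρ _ hc1)
    rw [swap_comm (ρ a)] at h3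
    exact swap_mul_swap_notMem h2 (Ne.symm hc1) hb1 hc2 h3
  -- no fixed points
  have hfix : ∀ ρ ∈ R, ρ ≠ 1 → ∀ c ∈ U, ρ c ≠ c := by
    intro ρ hρ hne c hc hcc
    obtain ⟨a, ha⟩ : ∃ a, ρ a ≠ a := by
      by_contra h
      push Not at h
      exact hne (Equiv.ext h)
    have hb1 : ρ (ρ a) ≠ ρ a := fun h => ha (ρ.injective h)
    have h3 := key_mem hn hρ (hUm ρ hρ _ hb1) hc
    rw [hinv ρ hρ a, hcc, swap_comm a, swap_comm (ρ a)] at h3
    have hca : c ≠ a := fun h => ha (h ▸ hcc)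
    have hcb : c ≠ ρ a := fun h => hb1 (h ▸ hcc)
    exact swap_mul_swap_notMem h2 hca hcb (Ne.symm ha) h3
  refine ⟨hfix ρ hρ h1, Equiv.ext fun a => hinv ρ hρ a, fun s hs => ?_⟩
  by_contra hcard
  push Not at hcard
  obtain ⟨a, ha⟩ : s.Nonempty := Finset.card_pos.1 (by omega)
  obtain ⟨c, hc, hc'⟩ : ∃ c ∈ s, c ∉ ({a, ρ a} : Finset α) := by
    by_contra h
    push Not at h
    have h3 := Finset.card_le_card (show s ⊆ ({a, ρ a} : Finset α) from fun x hx => h x hx)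
    have h4 := Finset.card_le_two (a := a) (b := ρ a)
    omega
  rw [Finset.mem_insert, Finset.mem_singleton, not_or] at hc'
  obtain ⟨d, hd, hd'⟩ : ∃ d ∈ s, d ∉ ({a, ρ a, c, ρ c} : Finset α) := by
    by_contra h
    push Not at h
    have h3 := Finset.card_le_card (show s ⊆ ({a, ρ a, c, ρ c} : Finset α) from fun x hx => h x hx)
    have h4 := Finset.card_le_four (a := a) (b := ρ a) (c := c) (d := ρ c)
    omega
  simp only [Finset.mem_insert, Finset.mem_singleton, not_or] at hd'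
  have h3 := key_mem hn hρ (hs ha) (hs hc)
  have hac : ρ a ≠ a := hfix ρ hρ h1 a (hs ha)
  have hcc : ρ c ≠ c := hfix ρ hρ h1 c (hs hc)
  refine hfix _ h3 ?_ d (hs hd) ?_
  · intro h
    have h4 := congrArg (fun τ : Perm α => τ a) h
    simp only [Perm.mul_apply, swap_apply_left, Perm.one_apply] at h4
    rw [swap_apply_of_ne_of_ne hc'.2 (Ne.symm hcc)] at h4
    exact hc'.1 h4
  · rw [Perm.mul_apply, swap_apply_of_ne_of_ne hd'.1 hd'.2.2.1, swap_apply_of_ne_of_ne hd'.2.1 hd'.2.2.2]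

end core

/-- a 2-group fixing `o` and normalised by the stabiliser of `o` -/
theorem two_core_fix {n : ℕ} {R : Subgroup (Perm (Fin n))} {o : Fin n} (h2 : IsPGroup 2 R)
    (h0 : ∀ ρ ∈ R, ρ o = o) (hn : ∀ a b, a ≠ o → b ≠ o → ∀ ρ ∈ R, swap a b * ρ * swap a b ∈ R)
    {ρ : Perm (Fin n)} (hρ : ρ ∈ R) (h1 : ρ ≠ 1) :
    (∀ a, a ≠ o → ρ a ≠ a) ∧ ρ * ρ = 1 ∧ n ≤ 5 := by
  obtain ⟨h3, h4, h5⟩ := two_core (U := {o}ᶜ) h2 (fun ρ hρ a ha => by
    have : a = o := by simpa using ha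
    rw [this, h0 ρ hρ]) (fun a ha b hb => hn a b ha hb) hρ h1
  refine ⟨fun a ha => h3 a ha, h4, ?_⟩
  have h6 := h5 (Finset.univ.erase o) (by simp)
  rw [Finset.card_erase_of_mem (Finset.mem_univ _), Finset.card_univ, Fintype.card_fin] at h6
  omega

/-- a normal 2-subgroup -/
theorem two_core_top {n : ℕ} (h5 : 5 ≤ n) {R : Subgroup (Perm (Fin n))} (h2 : IsPGroup 2 R)
    (hn : ∀ a b, ∀ ρ ∈ R, swap a b * ρ * swap a b ∈ R) : R = ⊥ := by
  rw [eq_bot_iff]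
  intro ρ hρ
  by_contra h1
  obtain ⟨-, -, h3⟩ := two_core (U := Set.univ) h2 (fun ρ _ a ha => absurd (Set.mem_univ a) ha)
    (fun a _ b _ => hn a b) hρ (fun h => h1 (Subgroup.mem_bot.2 h))
  have h4 := h3 Finset.univ (by simp)
  rw [Finset.card_univ, Fintype.card_fin] at h4
  omega

/-! ### Five points -/

/-- even vectors on 5 points invariant under a permutation with the only fixed point 0 -/
theorem card_inv_le : ∀ ρ : Perm (Fin 5), ρ 0 = 0 → (∀ a, a ≠ 0 → ρ a ≠ a) → ρ * ρ = 1 →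
    (Finset.univ.filter fun y : Fin 5 → ZMod 2 => (∑ x, y x = 0) ∧ ∀ x, y (ρ x) = y x).card ≤ 4 := by
  decide +kernel

/-- even vectors on 5 points, constant on `{1,2,3,4}` -/
theorem card_const_le :
    (Finset.univ.filter fun y : Fin 5 → ZMod 2 => (∑ x, y x = 0) ∧ ∀ a b, a ≠ 0 → b ≠ 0 → y a = y b).card ≤ 2 := by
  decide +kernel

end Cfsg.Agent.Omega.NO3S.ESym
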