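import Cfsg.Agent.ZN.ChoiceSit
import Cfsg.Agent.PLocal.ElemAbSup

/-!
# SymManyL (E): Thompson's inequality and exactness (helper266)

`A ∈ AA O`, `W ≤ O` elementary abelian.
* `thompson` : `|W : C_W(A)| ≤ |A : C_A(W)|`;
* `sup_mem_AA` : if `|A : C_A(W)| ≤ |W : C_W(A)|` then `C_A(W) W ∈ AA O`;
* `le_of_centralizes` : if `A` centralises `W` then `W ≤ A`.
-/

set_option autoImplicit false

namespace Cfsg.Agent.Omega.NO3S.ESym

open Subgroup Cfsg Cfsg.Agent.ZN Cfsg.Agent.ZN.ChoiceBase Cfsg.Agent.PLocal.ElemAbSup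
open Cfsg.Agent.PLocal.ThompsonJ

variable {G : Type*} [Group G]

theorem ea_comm {A : Subgroup G} (hA : IsElementaryAbelian 2 A) {x y : G} (hx : x ∈ A) (hy : y ∈ A) :
    x * y = y * x := isElementaryAbelian_comm hA hx hy

theorem ea_sq {A : Subgroup G} (hA : IsElementaryAbelian 2 A) {x : G} (hx : x ∈ A) : x ^ 2 = 1 :=
  isElementaryAbelian_pow hA hx

theorem card_rel [Finite G] (A B : Subgroup G) :
    (centralizer (B : Set G)).relIndex A * Nat.card (A ⊓ centralizer (B : Set G) : Subgroup G) = Nat.card A := by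
  have h1 := relIndex_inf_mul_relIndex (⊥ : Subgroup G) (centralizer (B : Set G)) A
  rw [relIndex_bot_left, bot_inf_eq, relIndex_bot_left, mul_comm, inf_comm] at h1
  exact h1

/-- the product `C_A(W) W` -/
def cw (A W : Subgroup G) : Subgroup G := (A ⊓ centralizer (W : Set G)) ⊔ W

theorem cw_ea {A W : Subgroup G} (hA : IsElementaryAbelian 2 A) (hW : IsElementaryAbelian 2 W) :
    IsElementaryAbelian 2 (cw A W) :=
  isElementaryAbelian_sup (isElementaryAbelian_mono hA inf_le_left) hW (by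
    rw [le_centralizer_iff]; exact inf_le_right)

theorem card_cw {A W : Subgroup G} :
    Nat.card (cw A W) * Nat.card ((A ⊓ centralizer (W : Set G)) ⊓ W : Subgroup G) =
      Nat.card (A ⊓ centralizer (W : Set G) : Subgroup G) * Nat.card W :=
  card_sup_mul_card_inf (by rw [le_centralizer_iff]; exact inf_le_right)

theorem cw_le {A W O : Subgroup G} (hA : A ≤ O) (hW : W ≤ O) : cw A W ≤ O := sup_le (inf_le_left.trans hA) hW

theorem inf_le_cent {A W : Subgroup G} (hA : IsElementaryAbelian 2 A) :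
    (A ⊓ centralizer (W : Set G)) ⊓ W ≤ W ⊓ centralizer (A : Set G) := by
  rintro x ⟨⟨h1, -⟩, h2⟩
  exact ⟨h2, mem_centralizer_iff.2 fun a ha => ea_comm hA ha h1⟩

/-- **Thompson's inequality** -/
theorem thompson [Finite G] {O A W : Subgroup G} (hA : A ∈ AA O) (hW : IsElementaryAbelian 2 W) (hWO : W ≤ O) :
    (centralizer (A : Set G)).relIndex W ≤ (centralizer (W : Set G)).relIndex A := by
  have h1 := hA.2.2 _ (cw_ea hA.1 hW) (cw_le hA.2.1 hWO)
  have h2 := card_cw (A := A) (W := W)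
  have h3 := card_rel W A
  have h4 := card_rel A W
  have h5 := card_le_of_le (inf_le_cent (W := W) hA.1)
  have p1 : 0 < Nat.card (A ⊓ centralizer (W : Set G) : Subgroup G) := Nat.card_pos
  have p2 : 0 < Nat.card (W ⊓ centralizer (A : Set G) : Subgroup G) := Nat.card_pos
  refine Nat.le_of_mul_le_mul_right ?_ (Nat.mul_pos p1 p2)
  calc (centralizer (A : Set G)).relIndex W * (Nat.card (A ⊓ centralizer (W : Set G) : Subgroup G) *
        Nat.card (W ⊓ centralizer (A : Set G) : Subgroup G))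
      = Nat.card (A ⊓ centralizer (W : Set G) : Subgroup G) * ((centralizer (A : Set G)).relIndex W *
        Nat.card (W ⊓ centralizer (A : Set G) : Subgroup G)) := by ring
    _ = Nat.card (cw A W) * Nat.card ((A ⊓ centralizer (W : Set G)) ⊓ W : Subgroup G) := by rw [h3, h2]
    _ ≤ Nat.card A * Nat.card (W ⊓ centralizer (A : Set G) : Subgroup G) := Nat.mul_le_mul h1 h5
    _ = _ := by rw [← h4]; ring

/-- **exactness** -/
theorem sup_mem_AA [Finite G] {O A W : Subgroup G} (hA : A ∈ AA O) (hW : IsElementaryAbelian 2 W) (hWO : W ≤ O)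
    (hno : (centralizer (W : Set G)).relIndex A ≤ (centralizer (A : Set G)).relIndex W) : cw A W ∈ AA O := by
  refine ⟨cw_ea hA.1 hW, cw_le hA.2.1 hWO, fun B hB hBO => (hA.2.2 B hB hBO).trans ?_⟩
  have h2 := card_cw (A := A) (W := W)
  have h3 := card_rel W A
  have h4 := card_rel A W
  have h5 := card_le_of_le (inf_le_cent (W := W) hA.1)
  have p2 : 0 < Nat.card ((A ⊓ centralizer (W : Set G)) ⊓ W : Subgroup G) := Nat.card_pos
  refine Nat.le_of_mul_le_mul_right ?_ p2
  calc Nat.card A * Nat.card ((A ⊓ centralizer (W : Set G)) ⊓ W : Subgroup G)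
      ≤ Nat.card A * Nat.card (W ⊓ centralizer (A : Set G) : Subgroup G) := Nat.mul_le_mul_left _ h5
    _ = (centralizer (W : Set G)).relIndex A * (Nat.card (A ⊓ centralizer (W : Set G) : Subgroup G) *
        Nat.card (W ⊓ centralizer (A : Set G) : Subgroup G)) := by rw [← h4]; ring
    _ ≤ (centralizer (A : Set G)).relIndex W * (Nat.card (A ⊓ centralizer (W : Set G) : Subgroup G) *
        Nat.card (W ⊓ centralizer (A : Set G) : Subgroup G)) := Nat.mul_le_mul_right _ hno
    _ = Nat.card (A ⊓ centralizer (W : Set G) : Subgroup G) * Nat.card W := by rw [← h3]; ring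
    _ = _ := h2.symm

/-- an elementary abelian subgroup of `O` centralised by `A ∈ AA O` is in `A` -/
theorem le_of_centralizes [Finite G] {O A W : Subgroup G} (hA : A ∈ AA O) (hW : IsElementaryAbelian 2 W)
    (hWO : W ≤ O) (hc : W ≤ centralizer (A : Set G)) : W ≤ A := by
  have h1 : IsElementaryAbelian 2 (A ⊔ W) := isElementaryAbelian_sup hA.1 hW hc
  have h2 := hA.2.2 _ h1 (sup_le hA.2.1 hWO)
  have h3 : A = A ⊔ W := eq_of_le_of_card_ge le_sup_left h2
  rw [h3]
  exact le_sup_right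

/-- `AA` of a smaller group -/
theorem mem_AA_of_le {O Q A : Subgroup G} (hA : A ∈ AA O) (hAQ : A ≤ Q) (hQ : Q ≤ O) : A ∈ AA Q :=
  ⟨hA.1, hAQ, fun B hB hBQ => hA.2.2 B hB (hBQ.trans hQ)⟩

theorem mem_AA_of_mem [Finite G] {O Q A B : Subgroup G} (hA : A ∈ AA O) (hAQ : A ≤ Q) (hQ : Q ≤ O) (hB : B ∈ AA Q) :
    B ∈ AA O :=
  ⟨hB.1, hB.2.1.trans hQ, fun C hC hCO => (hA.2.2 C hC hCO).trans (hB.2.2 A hA.1 hAQ)⟩

end Cfsg.Agent.Omega.NO3S.ESym
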